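import Cfsg.Agent.Lib.Spectrum.OrthOddMixed
import Cfsg.Agent.Lib.Spectrum.TwistAlgebra
import Cfsg.Agent.Lib.Classical.Quad.Std
import Cfsg.Agent.Lib.Orth.Reflection
import Cfsg.Agent.Lib.FormsDisc.Basic

/-! The standard odd dimensional orthogonal group and algebras with a symmetric form. -/

set_option autoImplicit false

open Polynomial Module Matrix
open QuadraticMap (polar polarBilin)

namespace CfsgLib.PrimeGraph

open CfsgLib.Classical.Quad CfsgLib.OrthSpinor
open CfsgLib.Spectrum.OrthOddMixed (linHom linHom_apply linHom_injective det_linHom adjoint_aeval)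

variable {F : Type*} [Field F]

/-- The standard form in dimension `2n+1`, as a quadratic form. -/
noncomputable def stdForm (n : ℕ) (F : Type*) [Field F] : QuadraticForm F (Unit ⊕ (Fin n ⊕ Fin n) → F) :=
  (hypForm n (lineForm F)).comp (oddEquiv n F).toLinearMap

theorem stdForm_coe (n : ℕ) : ⇑(stdForm n F) = Cfsg.quadFormOdd n F := by
  funext v
  exact oddEquiv_spec n v

theorem stdForm_nondeg (n : ℕ) (h2 : (2 : F) ≠ 0) : (polarBilin (stdForm n F)).Nondegenerate := by
  apply CfsgLib.Orth.ndPolar_iff.1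
  intro v hv
  refine (oddEquiv n F).injective ((ndPolar_hypForm (ndPolar_lineForm h2) n _ fun w => ?_).trans
    (map_zero _).symm)
  obtain ⟨w, rfl⟩ := (oddEquiv n F).surjective w
  have h := hv w
  simpa [stdForm, QuadraticMap.polar] using h

section finite

variable [Fintype F]

theorem center_omega_eq_bot (n : ℕ) (hn : 2 ≤ n) (h2 : (2 : F) ≠ 0) :
    Subgroup.center ↥(Cfsg.Omega F (Cfsg.quadFormOdd n F)) = ⊥ := by
  have hodd : Odd (Nat.card F) := two_ne_zero_iff_odd.1 h2
  have hr := ringChar_ne_two_of_odd hodd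
  have hnd := ndPolar_hypForm (ndPolar_lineForm h2) n
  let P := hypFrameKernel (R := lineForm F) hn 1 (by simp [lineForm_apply])
  have hz : Nat.card (Subgroup.center (siegelGroup (hypForm n (lineForm F)))) = 1 := by
    refine card_center_eq_one hnd P fun h => ?_
    have h1 := ((siegel_index_odd hnd P hr one_ne_zero).2 _).1 h
    have h3 := congrArg Units.val h1.1
    rw [detHom_negOne, Units.val_one] at h3
    have hfr : finrank F (((Fin n → F) × (Fin n → F)) × (Unit → F)) = 2 * n + 1 := by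
      simp [Module.finrank_prod, two_mul]
    rw [hfr, Odd.neg_one_pow ⟨n, rfl⟩] at h3
    exact absurd (by linear_combination -h3 : (2 : F) = 0) h2
  let e := (commutatorEquiv (isometryEquivModel (oddEquiv n F) (oddEquiv_spec n))).trans
    (MulEquiv.subgroupCongr (commutator_orth_eq hnd P))
  apply Subgroup.eq_bot_of_card_eq
  rw [← hz]
  exact Nat.card_congr ((Subgroup.center _).equivMapOfInjective e.toMonoidHom e.injective |>.trans
    (MulEquiv.subgroupCongr (map_center_mulEquiv e))).toEquiv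

/-- Orders in the simple group are orders in `Ω`. -/
theorem pomega_range_iff (n : ℕ) (hn : 2 ≤ n) (h2 : (2 : F) ≠ 0) (N : ℕ) :
    N ∈ Set.range (orderOf : Cfsg.POmega F (Cfsg.quadFormOdd n F) → ℕ) ↔
      ∃ g : ↥(Cfsg.isometryGroup F ⇑(stdForm n F)), g ∈ Cfsg.Omega F ⇑(stdForm n F) ∧ orderOf g = N := by
  rw [stdForm_coe]
  have hZ := center_omega_eq_bot (F := F) n hn h2
  have hord : ∀ y : ↥(Cfsg.Omega F (Cfsg.quadFormOdd n F)),
      orderOf (QuotientGroup.mk y : Cfsg.POmega F (Cfsg.quadFormOdd n F)) = orderOf y := fun y => by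
    refine orderOf_injective (QuotientGroup.mk' _) ?_ y
    rw [← MonoidHom.ker_eq_bot_iff, QuotientGroup.ker_mk', hZ]
  constructor
  · rintro ⟨x, rfl⟩
    obtain ⟨y, rfl⟩ := QuotientGroup.mk_surjective x
    exact ⟨y.1, y.2, by rw [hord, Subgroup.orderOf_coe]⟩
  · rintro ⟨g, hg, rfl⟩
    exact ⟨QuotientGroup.mk ⟨g, hg⟩, by rw [hord, ← Subgroup.orderOf_coe]⟩

/-- Squares of isometries lie in `Ω`. -/
theorem sq_mem_Omega {ι : Type} [Fintype ι] [DecidableEq ι] {Q : QuadraticForm F (ι → F)}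
    (h2 : (2 : F) ≠ 0) (hQ : (polarBilin Q).Nondegenerate) (hι : 2 ≤ Fintype.card ι)
    (g : ↥(Cfsg.isometryGroup F ⇑Q)) : g ^ 2 ∈ Cfsg.Omega F ⇑Q := by
  obtain ⟨ν, hν, hns⟩ := exists_nonsquare' (F := F) h2
  have hθ : ∀ c, theta (Q := Q) c (g ^ 2) = 1 := fun c => by rw [map_pow]; exact Int.units_pow_two _
  exact (mem_Omega_iff h2 hQ hι one_ne_zero _).2
    ⟨(det_eq_one_iff h2 hQ one_ne_zero hν hns _).2 (by rw [hθ, hθ, one_mul]), hθ 1⟩

end finite

/-- An algebra with a symmetric form of odd dimension gives isometries of the standard form. -/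
theorem exists_isometry_of_symForm [Fintype F] {n : ℕ} (h2 : (2 : F) ≠ 0) {A : Type*} [CommRing A]
    [Algebra F A] [Module.Finite F A] (hfin : finrank F A = n + n + 1) {st : A →+* A} {lam : A →ₗ[F] F}
    (h : CfsgLib.Spectrum.IsTwistForm 1 (1 : F) st lam) (a : A) (ha : a * st a = 1) :
    ∃ g : ↥(Cfsg.isometryGroup F ⇑(stdForm n F)), ∀ k : ℕ, g ^ k = 1 ↔ a ^ k = 1 := by
  classical
  have hst : ∀ (c : F) (z : A), st (c • z) = c • st z := fun c z => by rw [h.st_smul, pow_one]
  have hlam : ∀ z, lam (st z) = lam z := fun z => by rw [h.lam_st, one_mul, pow_one]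
  let B : LinearMap.BilinForm F A := LinearMap.mk₂ F (fun x y => lam (x * st y))
    (fun x x' y => by rw [add_mul, map_add])
    (fun c x y => by rw [smul_mul_assoc, map_smul])
    (fun x y y' => by rw [map_add, mul_add, map_add])
    (fun c x y => by rw [hst, mul_smul_comm, map_smul])
  have hB : ∀ x y, B x y = lam (x * st y) := fun x y => rfl
  have hBs : ∀ x y, B x y = B y x := fun x y => by
    rw [hB, hB, ← hlam (x * st y), map_mul, h.invol, mul_comm]
  let Qa : QuadraticForm F A := B.toQuadraticMap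
  have hQa : ∀ z, Qa z = lam (z * st z) := fun z => rfl
  have hpol : ∀ x y, polar ⇑Qa x y = 2 * B x y := fun x y => by
    rw [QuadraticMap.polar, hQa, hQa, hQa, map_add st, hB]
    have := hBs x y
    rw [hB, hB] at this
    simp only [add_mul, mul_add, map_add]
    linear_combination -this
  have hndA : ∀ x, (∀ y, polar ⇑Qa x y = 0) → x = 0 := fun x hx => by
    by_contra hx0
    obtain ⟨y, hy⟩ := h.nondeg x hx0
    have h' := hx (st y)
    rw [hpol, hB, h.invol] at h'
    exact mul_ne_zero h2 hy h'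
  let N := Fintype.card (Unit ⊕ (Fin n ⊕ Fin n))
  have hN : N = n + n + 1 := by simp [N]; omega
  let L1 : (Fin N → F) ≃ₗ[F] (Unit ⊕ (Fin n ⊕ Fin n) → F) :=
    LinearEquiv.funCongrLeft F F (Fintype.equivFin _)
  let L2 : (Fin N → F) ≃ₗ[F] A :=
    (Module.finBasisOfFinrankEq F A (hfin.trans hN.symm)).equivFun.symm
  let Q1 : QuadraticForm F (Fin N → F) := (stdForm n F).comp L1.toLinearMap
  let Q2 : QuadraticForm F (Fin N → F) := Qa.comp L2.toLinearMap
  have hp1 : ∀ x y, polar ⇑Q1 x y = polar ⇑(stdForm n F) (L1 x) (L1 y) := fun x y => by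
    simp [Q1, QuadraticMap.polar]
  have hp2 : ∀ x y, polar ⇑Q2 x y = polar ⇑Qa (L2 x) (L2 y) := fun x y => by
    simp [Q2, QuadraticMap.polar]
  have hnd : ∀ Q : QuadraticForm F (Fin N → F), (∀ x, (∀ y, polar ⇑Q x y = 0) → x = 0) →
      (polarBilin Q).Nondegenerate := fun Q hQ =>
    ⟨fun x hx => hQ x hx, fun x hx => hQ x fun y => by rw [QuadraticMap.polar_comm]; exact hx y⟩
  have hnd1 : (polarBilin Q1).Nondegenerate := hnd _ fun x hx => L1.injective (by
    rw [map_zero]
    exact (stdForm_nondeg n h2).1 _ fun z => by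
      obtain ⟨y, rfl⟩ := L1.surjective z
      have := hx y
      rw [hp1] at this
      exact this)
  have hnd2 : (polarBilin Q2).Nondegenerate := hnd _ fun x hx => L2.injective (by
    rw [map_zero]
    exact hndA _ fun z => by
      obtain ⟨y, rfl⟩ := L2.surjective z
      have := hx y
      rw [hp2] at this
      exact this)
  have hdet : ∀ Q : QuadraticForm F (Fin N → F), (polarBilin Q).Nondegenerate →
      (Matrix.of fun i j : Fin N => polar ⇑Q (Pi.single i 1) (Pi.single j 1)).det ≠ 0 := fun Q hQ => by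
    rw [show (Matrix.of fun i j : Fin N => polar ⇑Q (Pi.single i 1) (Pi.single j 1)) =
      LinearMap.BilinForm.toMatrix' (polarBilin Q) by
        ext i j; rw [LinearMap.BilinForm.toMatrix'_apply]; rfl]
    exact Matrix.nondegenerate_iff_det_ne_zero.1 (LinearMap.BilinForm.nondegenerate_toMatrix'_iff.2 hQ)
  obtain ⟨d₁, hd₁⟩ : ∃ d, d = (Matrix.of fun i j : Fin N =>
      polar ⇑Q1 (Pi.single i 1) (Pi.single j 1)).det := ⟨_, rfl⟩
  obtain ⟨d₂, hd₂⟩ : ∃ d, d = (Matrix.of fun i j : Fin N =>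
      polar ⇑Q2 (Pi.single i 1) (Pi.single j 1)).det := ⟨_, rfl⟩
  have hd10 : d₁ ≠ 0 := hd₁ ▸ hdet _ hnd1
  have hd20 : d₂ ≠ 0 := hd₂ ▸ hdet _ hnd2
  set c := d₁ * d₂ with hc
  have hc0 : c ≠ 0 := mul_ne_zero hd10 hd20
  have hpc : ∀ x y, polar ⇑(c • Q2) x y = c * polar ⇑Q2 x y := fun x y => by
    simp [QuadraticMap.polar]; ring
  obtain ⟨f⟩ := CfsgLib.FormsDisc.equivalent_of_disc h2 Q1 (c • Q2) hnd1
    (hnd _ fun x hx => hnd2.1 x fun y => (mul_eq_zero.1 ((hpc x y).symm.trans (hx y))).resolve_left hc0)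
    (by
      rw [← hd₁, show (Matrix.of fun i j : Fin N => polar ⇑(c • Q2) (Pi.single i 1) (Pi.single j 1)) =
          c • (Matrix.of fun i j : Fin N => polar ⇑Q2 (Pi.single i 1) (Pi.single j 1)) by
        ext i j; exact hpc _ _, Matrix.det_smul, ← hd₂, Fintype.card_fin]
      refine ⟨c ^ (n + 1), ?_⟩
      rw [hN, show d₁ * (c ^ (n + n + 1) * d₂) = c ^ (n + n + 1) * (d₁ * d₂) by ring, ← hc,
        ← pow_succ, ← pow_add]
      congr 1
      omega)
  let φ : (Unit ⊕ (Fin n ⊕ Fin n) → F) ≃ₗ[F] A := (L1.symm.trans f.toLinearEquiv).trans L2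
  have hφ : ∀ v, c * Qa (φ v) = stdForm n F v := fun v => by
    have := f.map_app (L1.symm v)
    simpa [Q1, Q2, φ] using this
  let bb : Module.Basis (Unit ⊕ (Fin n ⊕ Fin n)) F A := Module.Basis.ofEquivFun φ.symm
  have hrep : ∀ (z : A) (v : Unit ⊕ (Fin n ⊕ Fin n) → F),
      Algebra.leftMulMatrix bb z *ᵥ v = φ.symm (z * φ v) := fun z v => by
    have h1 := Algebra.leftMulMatrix_mulVec_repr bb z (φ v)
    have h2 : ∀ w : A, (bb.repr w : Unit ⊕ (Fin n ⊕ Fin n) → F) = φ.symm w := fun w => by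
      rw [← Module.Basis.equivFun_apply]; simp [bb]
    rwa [h2, h2, φ.symm_apply_apply] at h1
  let g : ↥(Cfsg.isometryGroup F ⇑(stdForm n F)) :=
    mkIsometry (stdForm n F) (Algebra.leftMulMatrix bb a) (Algebra.leftMulMatrix bb (st a))
      (by rw [← map_mul, ha, map_one]) (by rw [← map_mul, mul_comm, ha, map_one])
      (fun v => by
        rw [hrep, ← hφ v, ← hφ (φ.symm _), φ.apply_symm_apply, hQa, hQa, map_mul st,
          show a * φ v * (st a * st (φ v)) = (a * st a) * (φ v * st (φ v)) by ring, ha, one_mul])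
  refine ⟨g, fun k => ?_⟩
  have hcoe : ((g ^ k : ↥(Cfsg.isometryGroup F ⇑(stdForm n F))) : GL _ F).val =
      Algebra.leftMulMatrix bb (a ^ k) := by
    rw [map_pow]
    simp [g, mkIsometry]
  rw [← map_eq_one_iff (Algebra.leftMulMatrix bb) (Algebra.leftMulMatrix_injective bb), ← hcoe]
  exact ⟨fun h => by rw [h]; rfl, fun h => Subtype.ext (Units.ext h)⟩

section isometry

variable [Fintype F] {ι : Type} [Fintype ι] [DecidableEq ι] {Q : QuadraticForm F (ι → F)}

/-- An isometry is similar to its inverse. -/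
theorem orth_inverse_condition (hQ : (polarBilin Q).Nondegenerate) (g : ↥(Cfsg.isometryGroup F ⇑Q)) {N : ℕ}
    (hN : 1 ≤ N) (hgN : g ^ N = 1) :
    aeval ((linHom Q g) ^ (N - 1)) (minpoly F (linHom Q g)) = 0 := by
  set S := linHom Q g
  have hSN : S * S ^ (N - 1) = 1 := by
    rw [← pow_succ', Nat.sub_add_cancel hN, ← map_pow, hgN, map_one]
  have hadj : ∀ x y, polarBilin Q (S x) y = polarBilin Q x ((S ^ (N - 1)) y) := fun x y => by
    conv_lhs => rw [show y = S ((S ^ (N - 1)) y) by rw [← Module.End.mul_apply, hSN]; rfl]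
    exact polar_act Q g x _
  refine LinearMap.ext fun y => hQ.2 _ fun x => ?_
  rw [← adjoint_aeval hadj, minpoly.aeval]
  simp

/-- In odd dimension an isometry of determinant one fixes a non-zero vector. -/
theorem exists_fixed (h2 : (2 : F) ≠ 0) (hQ : (polarBilin Q).Nondegenerate) (hι : Odd (Fintype.card ι))
    (g : ↥(Cfsg.isometryGroup F ⇑Q)) (hdet : detHom g = 1) : ∃ l : ι → F, l ≠ 0 ∧ act Q g l = l := by
  set G : Matrix ι ι F := ((g : GL ι F) : Matrix ι ι F) with hG
  set B0 := LinearMap.BilinForm.toMatrix' (polarBilin Q)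
  have hB0 : B0.det ≠ 0 :=
    Matrix.nondegenerate_iff_det_ne_zero.1 (LinearMap.BilinForm.nondegenerate_toMatrix'_iff.2 hQ)
  have hdet1 : G.det = 1 := by
    have := congrArg Units.val hdet
    rwa [detHom_coe, Units.val_one] at this
  have hinv : Gᵀ * B0 * G = B0 := by
    have hc : (polarBilin Q).compl₁₂ (Matrix.toLin' G) (Matrix.toLin' G) = polarBilin Q :=
      LinearMap.ext₂ fun x y => polar_act Q g x y
    have := congrArg (fun B => LinearMap.BilinForm.toMatrix' B) hc
    simp only [LinearMap.BilinForm.toMatrix'] at this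
    rw [LinearMap.toMatrix₂'_compl₁₂, LinearMap.toMatrix'_toLin'] at this
    exact this
  have h1 : (G - 1)ᵀ * B0 * G = -(B0 * (G - 1)) := by
    rw [Matrix.transpose_sub, Matrix.transpose_one, sub_mul, sub_mul, hinv, one_mul, mul_sub, mul_one,
      neg_sub]
  have h3 := congrArg Matrix.det h1
  rw [Matrix.det_mul, Matrix.det_mul, Matrix.det_transpose, Matrix.det_neg, Matrix.det_mul, hdet1,
    hι.neg_one_pow, mul_one] at h3
  have h4 : (G - 1).det = 0 := by
    have : 2 * ((G - 1).det * B0.det) = 0 := by linear_combination h3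
    exact (mul_eq_zero.1 ((mul_eq_zero.1 this).resolve_left h2)).resolve_right hB0
  obtain ⟨l, hl, hl'⟩ := Matrix.exists_mulVec_eq_zero_iff.2 h4
  exact ⟨l, hl, sub_eq_zero.1 (by rwa [Matrix.sub_mulVec, Matrix.one_mulVec] at hl')⟩

end isometry

end CfsgLib.PrimeGraph
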