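import Cfsg.Agent.Lib.Spectrum.LinearElements
import Mathlib.LinearAlgebra.Charpoly.Basic
import Mathlib.LinearAlgebra.Eigenspace.Minpoly
import Mathlib.FieldTheory.Separable
import Mathlib.RingTheory.Radical.Basic

/-! Multiplicative orders of roots and invariant subspaces of automorphisms of prime order. -/

set_option autoImplicit false

open Polynomial Module

namespace CfsgLib.PrimeGraph

theorem dvd_pow_sub_one_iff {r q : ℕ} (hq : 1 ≤ q) (d : ℕ) :
    r ∣ q ^ d - 1 ↔ orderOf ((q : ℕ) : ZMod r) ∣ d := by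
  rw [orderOf_dvd_iff_pow_eq_one, ← Nat.modEq_iff_dvd' (Nat.one_le_pow _ _ hq), ← ZMod.natCast_eq_natCast_iff,
    Nat.cast_one, Nat.cast_pow, eq_comm]

universe u

variable {F : Type u} [Field F] [Finite F] {V : Type*} [AddCommGroup V] [Module F V] [FiniteDimensional F V]

/-- An automorphism of finite order prime to the characteristic has a root outside the zeros of any
polynomial which does not kill it. -/
theorem exists_root (A : Module.End F V) {N : ℕ} (hN : (N : F) ≠ 0) (hA : A ^ N = 1) (P : F[X])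
    (hP : aeval A P ≠ 0) :
    ∃ (K : Type u) (_ : Field K) (_ : Algebra F K) (_ : Module.Finite F K) (α : K),
      α ^ N = 1 ∧ aeval α P ≠ 0 ∧ finrank F K ≤ finrank F V ∧
        α ^ (Nat.card F ^ finrank F K - 1) = 1 := by
  have hint : IsIntegral F A := Algebra.IsIntegral.isIntegral A
  have hd : minpoly F A ∣ X ^ N - 1 := minpoly.dvd F A (by simp [hA])
  have hsep : (X ^ N - 1 : F[X]).Separable := by simpa using separable_X_pow_sub_C (1 : F) hN one_ne_zero
  have hsf : Squarefree (minpoly F A) := (hsep.of_dvd hd).squarefree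
  obtain ⟨f, hf, hfm, hfP⟩ : ∃ f : F[X], Irreducible f ∧ f ∣ minpoly F A ∧ ¬ f ∣ P := by
    by_contra h
    push Not at h
    obtain ⟨k, hk⟩ := CfsgLib.Spectrum.exists_dvd_pow_of_forall_irreducible (minpoly.ne_zero hint) h
    obtain ⟨c, hc⟩ := hsf.isRadical k P hk
    exact hP (by rw [hc, map_mul, minpoly.aeval, zero_mul])
  haveI := Fact.mk hf
  haveI : Module.Finite F (AdjoinRoot f) := (AdjoinRoot.powerBasis hf.ne_zero).finite
  haveI : Finite (AdjoinRoot f) := Module.finite_of_finite F
  haveI := Fintype.ofFinite (AdjoinRoot f)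
  have hα : AdjoinRoot.root f ^ N = 1 := by
    rw [← sub_eq_zero, ← AdjoinRoot.mk_X, ← map_pow, ← map_one (AdjoinRoot.mk f), ← map_sub,
      AdjoinRoot.mk_eq_zero]
    exact hfm.trans hd
  refine ⟨AdjoinRoot f, inferInstance, inferInstance, inferInstance, AdjoinRoot.root f, hα, ?_, ?_, ?_⟩
  · rwa [AdjoinRoot.aeval_eq, ne_eq, AdjoinRoot.mk_eq_zero]
  · rw [(AdjoinRoot.powerBasis hf.ne_zero).finrank, AdjoinRoot.powerBasis_dim, ← A.charpoly_natDegree]
    exact (natDegree_le_of_dvd hfm (minpoly.ne_zero hint)).trans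
      (natDegree_le_of_dvd A.minpoly_dvd_charpoly A.charpoly_monic.ne_zero)
  · rw [← Module.natCard_eq_pow_finrank, Nat.card_eq_fintype_card]
    refine FiniteField.pow_card_sub_one_eq_one _ fun h => ?_
    rcases eq_or_ne N 0 with rfl | hN0
    · simp at hN
    · rw [h, zero_pow hN0] at hα
      exact zero_ne_one hα

/-- A nontrivial automorphism of prime order `r` needs dimension at least the order of `q` modulo `r`. -/
theorem le_finrank {r : ℕ} (hr : r.Prime) (hrF : (r : F) ≠ 0) {A : Module.End F V} (hA : A ^ r = 1)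
    (hA1 : A ≠ 1) : orderOf ((Nat.card F : ℕ) : ZMod r) ≤ finrank F V := by
  obtain ⟨K, _, _, _, α, hα, hα1, hd, hpow⟩ := exists_root A hrF hA (X - 1) (by simpa [sub_eq_zero] using hA1)
  simp only [map_sub, aeval_X, map_one, sub_ne_zero] at hα1
  haveI := Fact.mk hr
  have h := orderOf_dvd_of_pow_eq_one hpow
  rw [orderOf_eq_prime hα hα1, dvd_pow_sub_one_iff Nat.card_pos] at h
  exact (Nat.le_of_dvd Module.finrank_pos h).trans hd

omit [Finite F] [FiniteDimensional F V] in
/-- Fixed vectors and commutators meet trivially. -/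
theorem eq_zero_of_fixed_of_mem_range {r : ℕ} (hrF : (r : F) ≠ 0) {A : Module.End F V} (hA : A ^ r = 1)
    {v : V} (hfix : A v = v) (hv : v ∈ LinearMap.range (A - 1)) : v = 0 := by
  obtain ⟨x, rfl⟩ := hv
  have hi : ∀ i : ℕ, (A ^ i) ((A - 1) x) = (A - 1) x := by
    intro i
    induction i with
    | zero => rfl
    | succ i ih => rw [pow_succ, Module.End.mul_apply, hfix, ih]
  have h := LinearMap.congr_fun (geom_sum_mul A r) x
  rw [hA, sub_self, LinearMap.zero_apply, Module.End.mul_apply, LinearMap.sum_apply,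
    Finset.sum_congr rfl fun i _ => hi i, Finset.sum_const, Finset.card_range, ← Nat.cast_smul_eq_nsmul F] at h
  exact (smul_eq_zero.1 h).resolve_left hrF

/-- Nonzero invariant subspaces without fixed vectors. -/
theorem le_finrank_of_mem_range {r : ℕ} (hr : r.Prime) (hrF : (r : F) ≠ 0) {A : Module.End F V}
    (hA : A ^ r = 1) (U : Submodule F V) (hinv : ∀ u ∈ U, A u ∈ U) (hU : U ≤ LinearMap.range (A - 1))
    (hne : U ≠ ⊥) : orderOf ((Nat.card F : ℕ) : ZMod r) ≤ finrank F U := by
  refine le_finrank hr hrF (A := A.restrict hinv) ?_ fun h => hne ?_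
  · refine LinearMap.ext fun u => Subtype.ext ?_
    rw [Module.End.pow_restrict]
    exact LinearMap.congr_fun hA (u : V)
  · rw [eq_bot_iff]
    intro u hu
    have := congrArg Subtype.val (LinearMap.congr_fun h ⟨u, hu⟩)
    exact eq_zero_of_fixed_of_mem_range hrF hA this (hU hu)

end CfsgLib.PrimeGraph
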