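import Cfsg.Agent.Lib.PrimeGraph.Basic
import Mathlib.FieldTheory.Galois.Basic
import Mathlib.FieldTheory.Minpoly.IsConjRoot
import Mathlib.FieldTheory.Finite.GaloisField
import Mathlib.FieldTheory.Finite.Extension

/-! Irreducible factors of minimal polynomials and the subspaces belonging to them. -/

set_option autoImplicit false

open Polynomial Module

namespace CfsgLib.PrimeGraph

universe u

variable {F : Type u} [Field F] {V : Type*} [AddCommGroup V] [Module F V] [FiniteDimensional F V]

/-- The kernel of a polynomial in an endomorphism. -/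
noncomputable def part (A : Module.End F V) (f : F[X]) : Submodule F V := LinearMap.ker (aeval A f)

omit [FiniteDimensional F V] in
theorem aeval_comm_apply {A E : Module.End F V} (h : Commute A E) (f : F[X]) (v : V) :
    aeval A f (E v) = E (aeval A f v) := by
  induction f using Polynomial.induction_on generalizing v with
  | C a => simp [Module.algebraMap_end_apply]
  | add P Q hP hQ => simp [hP, hQ]
  | monomial k a ih =>
    rw [pow_succ, ← mul_assoc, map_mul, aeval_X, Module.End.mul_apply, Module.End.mul_apply, ← ih]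
    congr 1
    exact LinearMap.congr_fun h.eq v

omit [FiniteDimensional F V] in
theorem part_invariant {A E : Module.End F V} (h : Commute A E) (f : F[X]) :
    ∀ v ∈ part A f, E v ∈ part A f := fun v hv => by
  rw [part, LinearMap.mem_ker] at hv ⊢
  rw [aeval_comm_apply h, hv, map_zero]

theorem part_ne_bot {A : Module.End F V} {f : F[X]} (hf : Irreducible f) (hfd : f ∣ minpoly F A) :
    part A f ≠ ⊥ := by
  intro h
  have hint : IsIntegral F A := Algebra.IsIntegral.isIntegral A
  obtain ⟨c, hc⟩ := hfd
  have h0 : aeval A c = 0 := by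
    refine LinearMap.ext fun v => LinearMap.ker_eq_bot.1 h ?_
    simp only [LinearMap.zero_apply, map_zero]
    rw [← Module.End.mul_apply, ← map_mul, ← hc, minpoly.aeval, LinearMap.zero_apply]
  have h2 := minpoly.dvd F A h0
  rw [hc] at h2
  have hc0 : c ≠ 0 := by rintro rfl; rw [mul_zero] at hc; exact minpoly.ne_zero hint hc
  exact hf.not_isUnit (isUnit_of_dvd_one ((mul_dvd_mul_iff_right hc0).1 (by rwa [one_mul])))

/-- Invariant subspaces killed by an irreducible polynomial have at least its degree. -/
theorem natDegree_le_finrank {A : Module.End F V} {f : F[X]} (hf : Irreducible f) {U : Submodule F V}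
    (hinv : ∀ v ∈ U, A v ∈ U) (hle : U ≤ part A f) (hne : U ≠ ⊥) : f.natDegree ≤ finrank F U := by
  have hU : Nontrivial U := Submodule.nontrivial_iff_ne_bot.2 hne
  set A' := A.restrict hinv
  have key : ∀ (P : F[X]) (v : U), ((aeval A' P v : U) : V) = aeval A P (v : V) := by
    intro P
    induction P using Polynomial.induction_on with
    | C a => intro v; simp [Module.algebraMap_end_apply]
    | add P Q hP hQ => intro v; simp [hP, hQ]
    | monomial k a ih =>
      intro v
      rw [pow_succ, ← mul_assoc, map_mul (aeval A'), map_mul (aeval A), aeval_X, aeval_X,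
        Module.End.mul_apply, Module.End.mul_apply, ih]
      rfl
  have h0 : aeval A' f = 0 := LinearMap.ext fun v => Subtype.ext (by
    rw [key]; exact LinearMap.mem_ker.1 (hle v.2))
  have hint : IsIntegral F A' := Algebra.IsIntegral.isIntegral A'
  have hass := ((hf.dvd_iff.1 (minpoly.dvd F A' h0)).resolve_left (minpoly.not_isUnit F A') : Associated f (minpoly F A'))
  rw [natDegree_eq_of_degree_eq (degree_eq_degree_of_associated hass)]
  exact (natDegree_le_of_dvd A'.minpoly_dvd_charpoly A'.charpoly_monic.ne_zero).trans_eq A'.charpoly_natDegree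

/-- A commuting nilpotent endomorphism which is nonzero on a part doubles its dimension. -/
theorem two_mul_natDegree_le {A E : Module.End F V} (h : Commute A E) {f : F[X]} (hf : Irreducible f)
    {N : ℕ} (hE : E ^ N = 0) {v : V} (hv : v ∈ part A f) (hEv : E v ≠ 0) :
    2 * f.natDegree ≤ finrank F (part A f) := by
  set U := part A f
  have hUA := part_invariant (Commute.refl A) f
  have hUE := part_invariant h f
  have hR : Submodule.map E U ≠ ⊥ := fun h0 => hEv ((Submodule.eq_bot_iff _).1 h0 _ (Submodule.mem_map_of_mem hv))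
  have hK : U ⊓ LinearMap.ker E ≠ ⊥ := by
    intro h0
    have : ∀ i, (E ^ i) v ∈ U ∧ (E ^ i) v ≠ 0 := by
      intro i
      induction i with
      | zero => exact ⟨hv, fun h1 => hEv (by rw [show v = 0 from h1, map_zero])⟩
      | succ i ih =>
        rw [pow_succ', Module.End.mul_apply]
        exact ⟨hUE _ ih.1, fun h1 => ih.2 ((Submodule.eq_bot_iff _).1 h0 _ ⟨ih.1, h1⟩)⟩
    exact (this N).2 (by rw [hE]; rfl)
  have h1 := natDegree_le_finrank hf (U := Submodule.map E U)
    (by rintro _ ⟨w, hw, rfl⟩; exact ⟨A w, hUA w hw, (LinearMap.congr_fun h.eq w).symm⟩)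
    (by rintro _ ⟨w, hw, rfl⟩; exact hUE w hw) hR
  have h2 := natDegree_le_finrank hf (U := U ⊓ LinearMap.ker E)
    (fun w hw => ⟨hUA w hw.1, show E (A w) = 0 by
      rw [← Module.End.mul_apply, ← h.eq, Module.End.mul_apply, LinearMap.mem_ker.1 hw.2, map_zero]⟩)
    inf_le_left hK
  have h3 := LinearMap.finrank_range_add_finrank_ker (E.domRestrict U)
  have hR' : LinearMap.range (E.domRestrict U) = Submodule.map E U := LinearMap.range_domRestrict U E
  have hN' : finrank F (LinearMap.ker (E.domRestrict U)) = finrank F ↥(U ⊓ LinearMap.ker E) := by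
    rw [LinearMap.ker_domRestrict]
    have he : Submodule.map U.subtype (Submodule.comap U.subtype (LinearMap.ker E)) = U ⊓ LinearMap.ker E :=
      Submodule.map_comap_subtype U _
    rw [← Submodule.finrank_map_subtype_eq, ← he]
  rw [hR', hN'] at h3
  omega

theorem disjoint_part {A : Module.End F V} {f g : F[X]} (h : IsCoprime f g) : part A f ⊓ part A g = ⊥ := by
  rw [Submodule.eq_bot_iff]
  rintro v ⟨h1, h2⟩
  obtain ⟨a, b, hab⟩ := h
  have := congrArg (fun P => aeval A P v) hab
  simp only [map_add, map_mul, map_one, LinearMap.add_apply, Module.End.mul_apply, Module.End.one_apply,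
    LinearMap.mem_ker.1 h1, LinearMap.mem_ker.1 h2, map_zero, add_zero] at this
  exact this.symm

theorem finrank_sup_part {A : Module.End F V} {f g : F[X]} (h : IsCoprime f g) :
    finrank F ↥(part A f ⊔ part A g) = finrank F (part A f) + finrank F (part A g) := by
  have h3 := Submodule.finrank_sup_add_finrank_inf_eq (part A f) (part A g)
  rw [disjoint_part h, finrank_bot, add_zero] at h3
  exact h3

omit [FiniteDimensional F V] in
theorem part_le_range {A : Module.End F V} {f P : F[X]} (h : IsCoprime f P) :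
    part A f ≤ LinearMap.range (aeval A P) := by
  intro v hv
  obtain ⟨a, b, hab⟩ := h
  refine ⟨aeval A b v, ?_⟩
  have := congrArg (fun Q => aeval A Q v) hab
  simp only [map_add, map_mul, map_one, LinearMap.add_apply, Module.End.mul_apply, Module.End.one_apply,
    LinearMap.mem_ker.1 hv, map_zero, zero_add] at this
  conv_rhs => rw [← this]
  rw [← Module.End.mul_apply, ← Module.End.mul_apply, ← map_mul, ← map_mul, mul_comm]

variable [Finite F]

/-- An automorphism of finite order prime to the characteristic has a factor outside any polynomial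
which does not kill it. -/
theorem exists_factor (A : Module.End F V) {N : ℕ} (hN : (N : F) ≠ 0) (hA : A ^ N = 1) (P : F[X])
    (hP : aeval A P ≠ 0) : ∃ f : F[X], Irreducible f ∧ f ∣ minpoly F A ∧ ¬ f ∣ P := by
  have hint : IsIntegral F A := Algebra.IsIntegral.isIntegral A
  have hd : minpoly F A ∣ X ^ N - 1 := minpoly.dvd F A (by simp [hA])
  have hsep : (X ^ N - 1 : F[X]).Separable := by simpa using separable_X_pow_sub_C (1 : F) hN one_ne_zero
  have hsf : Squarefree (minpoly F A) := (hsep.of_dvd hd).squarefree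
  by_contra h
  push Not at h
  obtain ⟨k, hk⟩ := CfsgLib.Spectrum.exists_dvd_pow_of_forall_irreducible (minpoly.ne_zero hint) h
  obtain ⟨c, hc⟩ := hsf.isRadical k P hk
  exact hP (by rw [hc, map_mul, minpoly.aeval, zero_mul])

/-- The order of `q` divides the degree. -/
theorem orderOf_dvd_natDegree {f : F[X]} (hf : Irreducible f) {N t r : ℕ} (hr : r.Prime)
    (hfN : f ∣ X ^ N - 1) (hN : N = r * t) (hft : ¬ f ∣ X ^ t - 1) :
    orderOf ((Nat.card F : ℕ) : ZMod r) ∣ f.natDegree := by
  haveI := Fact.mk hf
  haveI := Fact.mk hr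
  haveI : Module.Finite F (AdjoinRoot f) := (AdjoinRoot.powerBasis hf.ne_zero).finite
  haveI : Finite (AdjoinRoot f) := Module.finite_of_finite F
  haveI := Fintype.ofFinite (AdjoinRoot f)
  have h1 : (AdjoinRoot.root f ^ t) ^ r = 1 := by
    rw [← pow_mul, mul_comm, ← hN, ← sub_eq_zero, ← AdjoinRoot.mk_X, ← map_pow,
      ← map_one (AdjoinRoot.mk f), ← map_sub, AdjoinRoot.mk_eq_zero]
    exact hfN
  have h2 : AdjoinRoot.root f ^ t ≠ 1 := by
    rwa [ne_eq, ← sub_eq_zero, ← AdjoinRoot.mk_X, ← map_pow, ← map_one (AdjoinRoot.mk f), ← map_sub,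
      AdjoinRoot.mk_eq_zero]
  have hne : AdjoinRoot.root f ^ t ≠ 0 := fun h => by
    rw [h, zero_pow hr.ne_zero] at h1; exact zero_ne_one h1
  have h3 : (AdjoinRoot.root f ^ t) ^ (Nat.card F ^ f.natDegree - 1) = 1 := by
    have hfin : finrank F (AdjoinRoot f) = f.natDegree := by
      rw [(AdjoinRoot.powerBasis hf.ne_zero).finrank, AdjoinRoot.powerBasis_dim]
    rw [← hfin, ← Module.natCard_eq_pow_finrank, Nat.card_eq_fintype_card]
    exact FiniteField.pow_card_sub_one_eq_one _ hne
  have h := orderOf_dvd_of_pow_eq_one h3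
  rwa [orderOf_eq_prime h1 h2, dvd_pow_sub_one_iff Nat.card_pos] at h

/-- For an automorphism similar to its inverse, every factor is either self-reciprocal or comes with
a coprime partner. -/
theorem exists_partner {A : Module.End F V} {N : ℕ} (hN : 1 ≤ N) (hA : A ^ N = 1)
    (hinv : aeval (A ^ (N - 1)) (minpoly F A) = 0) {f : F[X]} (hf : Irreducible f) (hfd : f ∣ minpoly F A) :
    (∃ i, ∀ t, f ∣ (X ^ t) ^ (Nat.card F ^ i + 1) - 1) ∨
      ∃ g : F[X], Irreducible g ∧ g ∣ minpoly F A ∧ IsCoprime f g ∧ ∀ t, g ∣ X ^ t - 1 → f ∣ X ^ t - 1 := by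
  haveI := Fact.mk hf
  haveI : Module.Finite F (AdjoinRoot f) := (AdjoinRoot.powerBasis hf.ne_zero).finite
  haveI : Finite (AdjoinRoot f) := Module.finite_of_finite F
  haveI := Fintype.ofFinite F
  set α := AdjoinRoot.root f
  have hαN : α ^ N = 1 := by
    show AdjoinRoot.root f ^ N = 1
    rw [← sub_eq_zero, ← AdjoinRoot.mk_X, ← map_pow, ← map_one (AdjoinRoot.mk f), ← map_sub,
      AdjoinRoot.mk_eq_zero]
    exact hfd.trans (minpoly.dvd F A (by simp [hA]))
  set β := α ^ (N - 1)
  have hαβ : α * β = 1 := by rw [← pow_succ', Nat.sub_add_cancel hN, hαN]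
  have hβint : IsIntegral F β := Algebra.IsIntegral.isIntegral β
  have hg : minpoly F β ∣ minpoly F A := by
    refine minpoly.dvd F β ?_
    have h1 : minpoly F A ∣ (minpoly F A).comp (X ^ (N - 1)) :=
      minpoly.dvd F A (by rw [aeval_comp, map_pow, aeval_X, hinv])
    obtain ⟨c, hc⟩ := hfd.trans h1
    have h2 := congrArg (aeval α) hc
    rw [aeval_comp, map_pow, aeval_X, map_mul, AdjoinRoot.aeval_eq f, AdjoinRoot.mk_self, zero_mul] at h2
    exact h2
  have hgi := minpoly.irreducible hβint
  by_cases hco : IsCoprime f (minpoly F β)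
  · refine Or.inr ⟨minpoly F β, hgi, hg, hco, fun t ht => ?_⟩
    obtain ⟨c, hc⟩ := ht
    have h2 := congrArg (aeval β) hc
    rw [map_sub, map_pow, aeval_X, map_one, map_mul, minpoly.aeval, zero_mul, sub_eq_zero] at h2
    rw [← AdjoinRoot.mk_eq_zero, map_sub, map_pow, AdjoinRoot.mk_X, map_one, sub_eq_zero]
    have h3 : α ^ t * β ^ t = 1 := by rw [← mul_pow, hαβ, one_pow]
    rwa [h2, mul_one] at h3
  · left
    rw [hf.coprime_iff_not_dvd, not_not] at hco
    have hass : Associated f (minpoly F β) := hf.associated_of_dvd hgi hco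
    have hroot : aeval β (minpoly F α) = 0 := by
      have h1 : minpoly F α ∣ f := minpoly.dvd F α (by rw [AdjoinRoot.aeval_eq, AdjoinRoot.mk_self])
      have h2 : Associated (minpoly F α) f :=
        (minpoly.irreducible (Algebra.IsIntegral.isIntegral α)).associated_of_dvd hf h1
      obtain ⟨c, hc⟩ := (h2.trans hass).dvd'
      rw [hc, map_mul, minpoly.aeval, zero_mul]
    obtain ⟨σ, hσ⟩ := isConjRoot_iff_exists_algEquiv.1
      ((isConjRoot_iff_aeval_eq_zero (Algebra.IsIntegral.isIntegral α)).2 hroot).symm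
    obtain ⟨i, rfl⟩ := (FiniteField.bijective_frobeniusAlgEquivOfAlgebraic_pow F (AdjoinRoot f)).2 σ
    refine ⟨i, fun t => ?_⟩
    rw [← AdjoinRoot.mk_eq_zero, map_sub, map_pow, map_pow, AdjoinRoot.mk_X, map_one, sub_eq_zero]
    simp only [AlgEquiv.coe_pow, FiniteField.coe_frobeniusAlgEquivOfAlgebraic, pow_iterate] at hσ
    rw [Nat.card_eq_fintype_card]
    show (α ^ t) ^ (Fintype.card F ^ (i : ℕ) + 1) = 1
    rw [← pow_mul, mul_comm, pow_mul, pow_succ, hσ, mul_comm β, hαβ, one_pow]

end CfsgLib.PrimeGraph
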