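import Cfsg.Agent.Lib.PrimeGraph.SympBound

/-! Prime graph tools for spaces of dimension at most `2n+1`, and extremal primes. -/

set_option autoImplicit false

open Polynomial Module CfsgLib.Spectrum

namespace CfsgLib.PrimeGraph

universe u

section partner

variable {F : Type u} [Field F] {V : Type*} [AddCommGroup V] [Module F V] [FiniteDimensional F V] [Finite F]

/-- For an automorphism similar to its inverse, every factor is either self-reciprocal or comes with
a coprime partner. -/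
theorem exists_partner' {A : Module.End F V} {N : ℕ} (hN : 1 ≤ N) (hA : A ^ N = 1)
    (hinv : aeval (A ^ (N - 1)) (minpoly F A) = 0) {f : F[X]} (hf : Irreducible f) (hfd : f ∣ minpoly F A) :
    (∃ i, ∀ t, f ∣ (X ^ t) ^ (Nat.card F ^ i + 1) - 1) ∨
      ∃ g : F[X], Irreducible g ∧ g ∣ minpoly F A ∧ IsCoprime f g ∧ (∀ t, g ∣ X ^ t - 1 → f ∣ X ^ t - 1) ∧
        ∀ (j : ℕ) (c : F), c * c = 1 → f ∣ X ^ j - C c → g ∣ X ^ j - C c := by
  haveI := Fact.mk hf
  haveI : Module.Finite F (AdjoinRoot f) := (AdjoinRoot.powerBasis hf.ne_zero).finite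
  haveI : Finite (AdjoinRoot f) := Module.finite_of_finite F
  haveI := Fintype.ofFinite F
  set α := AdjoinRoot.root f
  have hαN : α ^ N = 1 := by
    show AdjoinRoot.root f ^ N = 1
    rw [← sub_eq_zero, ← AdjoinRoot.mk_X, ← map_pow, ← map_one (AdjoinRoot.mk f), ← map_sub,
      AdjoinRoot.mk_eq_zero]
    exact hfd.trans (minpoly.dvd F A (by simp [hA]))
  set β := α ^ (N - 1)
  have hαβ : α * β = 1 := by rw [← pow_succ', Nat.sub_add_cancel hN, hαN]
  have hβint : IsIntegral F β := Algebra.IsIntegral.isIntegral β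
  have hg : minpoly F β ∣ minpoly F A := by
    refine minpoly.dvd F β ?_
    have h1 : minpoly F A ∣ (minpoly F A).comp (X ^ (N - 1)) :=
      minpoly.dvd F A (by rw [aeval_comp, map_pow, aeval_X, hinv])
    obtain ⟨c, hc⟩ := hfd.trans h1
    have h2 := congrArg (aeval α) hc
    rw [aeval_comp, map_pow, aeval_X, map_mul, AdjoinRoot.aeval_eq f, AdjoinRoot.mk_self, zero_mul] at h2
    exact h2
  have hgi := minpoly.irreducible hβint
  by_cases hco : IsCoprime f (minpoly F β)
  · refine Or.inr ⟨minpoly F β, hgi, hg, hco, fun t ht => ?_, fun j c hc hj => minpoly.dvd F β ?_⟩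
    swap
    · rw [← AdjoinRoot.mk_eq_zero, map_sub, map_pow, AdjoinRoot.mk_X, AdjoinRoot.mk_C, sub_eq_zero] at hj
      have h3 : α ^ j * β ^ j = 1 := by rw [← mul_pow, hαβ, one_pow]
      have hα : α ^ j = algebraMap F (AdjoinRoot f) c := hj
      rw [hα] at h3
      rw [map_sub, map_pow, aeval_X, aeval_C, sub_eq_zero]
      have h4 : algebraMap F (AdjoinRoot f) c * algebraMap F (AdjoinRoot f) c = 1 := by
        rw [← map_mul, hc, map_one]
      calc β ^ j = algebraMap F (AdjoinRoot f) c * algebraMap F (AdjoinRoot f) c * β ^ j := by rw [h4, one_mul]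
        _ = _ := by rw [mul_assoc, h3, mul_one]
    obtain ⟨c, hc⟩ := ht
    have h2 := congrArg (aeval β) hc
    rw [map_sub, map_pow, aeval_X, map_one, map_mul, minpoly.aeval, zero_mul, sub_eq_zero] at h2
    rw [← AdjoinRoot.mk_eq_zero, map_sub, map_pow, AdjoinRoot.mk_X, map_one, sub_eq_zero]
    have h3 : α ^ t * β ^ t = 1 := by rw [← mul_pow, hαβ, one_pow]
    rwa [h2, mul_one] at h3
  · left
    rw [hf.coprime_iff_not_dvd, not_not] at hco
    have hass : Associated f (minpoly F β) := hf.associated_of_dvd hgi hco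
    have hroot : aeval β (minpoly F α) = 0 := by
      have h1 : minpoly F α ∣ f := minpoly.dvd F α (by rw [AdjoinRoot.aeval_eq, AdjoinRoot.mk_self])
      have h2 : Associated (minpoly F α) f :=
        (minpoly.irreducible (Algebra.IsIntegral.isIntegral α)).associated_of_dvd hf h1
      obtain ⟨c, hc⟩ := (h2.trans hass).dvd'
      rw [hc, map_mul, minpoly.aeval, zero_mul]
    obtain ⟨σ, hσ⟩ := isConjRoot_iff_exists_algEquiv.1
      ((isConjRoot_iff_aeval_eq_zero (Algebra.IsIntegral.isIntegral α)).2 hroot).symm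
    obtain ⟨i, rfl⟩ := (FiniteField.bijective_frobeniusAlgEquivOfAlgebraic_pow F (AdjoinRoot f)).2 σ
    refine ⟨i, fun t => ?_⟩
    rw [← AdjoinRoot.mk_eq_zero, map_sub, map_pow, map_pow, AdjoinRoot.mk_X, map_one, sub_eq_zero]
    simp only [AlgEquiv.coe_pow, FiniteField.coe_frobeniusAlgEquivOfAlgebraic, pow_iterate] at hσ
    rw [Nat.card_eq_fintype_card]
    show (α ^ t) ^ (Fintype.card F ^ (i : ℕ) + 1) = 1
    rw [← pow_mul, mul_comm, pow_mul, pow_succ, hσ, mul_comm β, hαβ, one_pow]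

end partner

variable {F : Type u} [Field F] [Fintype F] {V : Type*} [AddCommGroup V] [Module F V] [FiniteDimensional F V]

/-- Two commuting automorphisms of prime orders. -/
theorem eta_add_le_or' {A : Module.End F V} {r s k l ηk ηl n : ℕ} (hr : r.Prime) (hs : s.Prime)
    (hr2 : r ≠ 2) (hs2 : s ≠ 2) (hrF : (r : F) ≠ 0) (hsF : (s : F) ≠ 0) (hV : finrank F V ≤ n + n + 1)
    (hA : A ^ (r * s) = 1) (hAr : A ^ r ≠ 1) (hAs : A ^ s ≠ 1)
    (hinvA : aeval (A ^ (r * s - 1)) (minpoly F A) = 0)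
    (hinvM : aeval ((A ^ s) ^ (r - 1)) (minpoly F (A ^ s)) = 0)
    (hinvN : aeval ((A ^ r) ^ (s - 1)) (minpoly F (A ^ r)) = 0)
    (hk : k = orderOf ((Fintype.card F : ℕ) : ZMod r)) (hl : l = orderOf ((Fintype.card F : ℕ) : ZMod s))
    (hηk : IsEta k ηk) (hηl : IsEta l ηl) (hkl : ηk ≤ ηl) (hn : n < ηk + ηl) :
    ∃ t, Odd t ∧ l = k * t := by
  set M := A ^ s
  set N := A ^ r
  have hM : M ^ r = 1 := by rw [← pow_mul, mul_comm, hA]
  have hN : N ^ s = 1 := by rw [← pow_mul, hA]
  by_cases hMN : (M - 1) * (N - 1) = 0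
  · exfalso
    have hfix : ∀ v ∈ LinearMap.range (N - 1), M v = v := by
      rintro _ ⟨y, rfl⟩
      exact sub_eq_zero.1 (LinearMap.congr_fun hMN y)
    have hdis : LinearMap.range (M - 1) ⊓ LinearMap.range (N - 1) = ⊥ :=
      (Submodule.eq_bot_iff _).2 fun v hv => eq_zero_of_fixed_of_mem_range hrF hM (hfix v hv.2) hv.1
    have h1 := two_eta_le hr hr2 hrF hM hAs hinvM hk hηk
    have h2 := two_eta_le hs hs2 hsF hN hAr hinvN hl hηl
    have h3 := Submodule.finrank_sup_add_finrank_inf_eq (LinearMap.range (M - 1)) (LinearMap.range (N - 1))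
    rw [hdis, finrank_bot, add_zero] at h3
    have h4 := Submodule.finrank_le (LinearMap.range (M - 1) ⊔ LinearMap.range (N - 1))
    omega
  have hN0 : ((r * s : ℕ) : F) ≠ 0 := by rw [Nat.cast_mul]; exact mul_ne_zero hrF hsF
  obtain ⟨f, hf, hfd, hfP⟩ := exists_factor A hN0 hA ((X ^ s - 1) * (X ^ r - 1)) (by simpa using hMN)
  have hfs : ¬ f ∣ X ^ s - 1 := fun h => hfP (h.mul_right _)
  have hfr : ¬ f ∣ X ^ r - 1 := fun h => hfP (h.mul_left _)
  have hfN := dvd_X_pow_sub_one hA hfd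
  have hdeg : ∀ g : F[X], Irreducible g → g ∣ X ^ (r * s) - 1 → ¬ g ∣ X ^ s - 1 → ¬ g ∣ X ^ r - 1 →
      k ∣ g.natDegree ∧ l ∣ g.natDegree := by
    intro g hg hgN hgs hgr
    rw [hk, hl, ← Nat.card_eq_fintype_card]
    exact ⟨orderOf_dvd_natDegree hg hr hgN rfl hgs, orderOf_dvd_natDegree hg hs hgN (mul_comm r s) hgr⟩
  obtain ⟨hkd, hld⟩ := hdeg f hf hfN hfs hfr
  have hηl0 : ηk ≤ ηl ∧ 0 < ηl := ⟨hkl, by omega⟩
  have hlt : ∀ {d}, l ∣ d → 0 < d → d < l + l → d = l := by
    rintro d ⟨c, rfl⟩ hd hd'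
    rcases Nat.lt_or_ge c 2 with hc | hc
    · rcases Nat.eq_zero_or_pos c with rfl | hc0
      · simp at hd
      · rw [show c = 1 by omega, mul_one]
    · have := Nat.mul_le_mul_left l hc; omega
  rcases exists_partner (Nat.mul_pos hr.pos hs.pos) hA hinvA hf hfd with ⟨i, hi⟩ | ⟨g, hg, hgd, hco, hgt⟩
  · obtain ⟨hek, a, ha, hia⟩ := half_of_dvd_succ Fintype.card_pos hr hr2 hk hηk
      (selfRecip_dvd_succ hf hr hi (by exact hfN) hfs)
    obtain ⟨hel, b, hb, hib⟩ := half_of_dvd_succ Fintype.card_pos hs hs2 hl hηl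
      (selfRecip_dvd_succ hf hs hi (by rwa [mul_comm]) hfr)
    have h1 := natDegree_le_finrank hf (part_invariant (Commute.refl A) f) le_rfl (part_ne_bot hf hfd)
    have h2 := Submodule.finrank_le (part A f)
    rw [hlt hld hf.natDegree_pos (by omega)] at hkd
    obtain ⟨t, ht⟩ := hkd
    refine ⟨t, ?_, ht⟩
    have hk0 : 0 < ηk := by
      rcases Nat.eq_zero_or_pos ηk with h | h
      · have : l = 0 := by rw [ht, ← hek, h, mul_zero, zero_mul]
        omega
      · exact h
    have h5 : ηl = ηk * t := by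
      have : 2 * ηl = 2 * (ηk * t) := by rw [hel, ht, ← hek, mul_assoc]
      omega
    rw [hib, h5, mul_assoc] at hia
    have h6 : t * b = a := Nat.eq_of_mul_eq_mul_left hk0 hia
    rw [← h6] at ha
    exact (Nat.odd_mul.1 ha).1
  · have hgs : ¬ g ∣ X ^ s - 1 := fun h => hfs (hgt s h)
    have hgr : ¬ g ∣ X ^ r - 1 := fun h => hfr (hgt r h)
    obtain ⟨hkg, hlg⟩ := hdeg g hg (dvd_X_pow_sub_one hA hgd) hgs hgr
    have h1 := natDegree_le_finrank hf (part_invariant (Commute.refl A) f) le_rfl (part_ne_bot hf hfd)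
    have h1' := natDegree_le_finrank hg (part_invariant (Commute.refl A) g) le_rfl (part_ne_bot hg hgd)
    have h2 := Submodule.finrank_le (part A f ⊔ part A g)
    rw [finrank_sup_part hco] at h2
    have h3 := Nat.le_of_dvd hf.natDegree_pos hld
    have h4 := Nat.le_of_dvd hg.natDegree_pos hlg
    rcases hηl with ⟨hol, hel⟩ | ⟨-, hel⟩
    · have hkl' : k ∣ l := by
        rcases le_total f.natDegree g.natDegree with h | h
        · rwa [hlt hld hf.natDegree_pos (by omega)] at hkd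
        · rwa [hlt hlg hg.natDegree_pos (by omega)] at hkg
      obtain ⟨t, ht⟩ := hkl'
      rw [ht] at hol
      exact ⟨t, (Nat.odd_mul.1 hol).2, ht⟩
    · omega

/-- When the moved space has only the minimal dimension `2η`, it is one orbit of factors. -/
theorem range_eq_family {M : Module.End F V} {r t k η N : ℕ} (hr : r.Prime) (hr2 : r ≠ 2)
    (hN : N = r * t) (hN0 : 1 ≤ N) (hM : M ^ N = 1)
    (hinv : aeval (M ^ (N - 1)) (minpoly F M) = 0)
    (hk : k = orderOf ((Fintype.card F : ℕ) : ZMod r)) (hη : IsEta k η)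
    {f : F[X]} (hf : Irreducible f) (hfd : f ∣ minpoly F M) (hft : ¬ f ∣ X ^ t - 1)
    (hle : finrank F (LinearMap.range (M ^ t - 1)) ≤ 2 * η) :
    (LinearMap.range (M ^ t - 1) = part M f ∧ finrank F (part M f) = 2 * η ∧ 2 * η = k ∧
        k ∣ f.natDegree ∧
        ∃ i b, Odd b ∧ i = η * b ∧ r ∣ Fintype.card F ^ η + 1 ∧
          ∀ j, f ∣ (X ^ j) ^ (Fintype.card F ^ i + 1) - 1) ∨
      ∃ g : F[X], Irreducible g ∧ IsCoprime f g ∧
        LinearMap.range (M ^ t - 1) = part M f ⊔ part M g ∧ η = k ∧ Odd k ∧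
        f.natDegree = k ∧ g.natDegree = k ∧ finrank F (part M f) = k ∧ finrank F (part M g) = k ∧
        r ∣ Fintype.card F ^ η - 1 ∧
        ∀ (j : ℕ) (c : F), c * c = 1 → f ∣ X ^ j - C c → g ∣ X ^ j - C c := by
  have hfN : f ∣ X ^ N - 1 := dvd_X_pow_sub_one hM hfd
  have hkd : k ∣ f.natDegree := by
    rw [hk, ← Nat.card_eq_fintype_card]
    exact orderOf_dvd_natDegree hf hr hfN hN hft
  have hlef : ∀ g : F[X], Irreducible g → ¬ g ∣ X ^ t - 1 → part M g ≤ LinearMap.range (M ^ t - 1) := by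
    intro g hg hg1
    have := part_le_range (A := M) (hg.coprime_iff_not_dvd.2 hg1)
    simpa using this
  have h1 := natDegree_le_finrank hf (part_invariant (Commute.refl M) f) le_rfl (part_ne_bot hf hfd)
  have h3 := Nat.le_of_dvd hf.natDegree_pos hkd
  have hk0 : 0 < k := Nat.pos_of_dvd_of_pos hkd hf.natDegree_pos
  have hkdvd := (dvd_pow_sub_one_iff (r := r) (Fintype.card_pos (α := F)) k).2 (hk ▸ dvd_rfl)
  rcases exists_partner' hN0 hM hinv hf hfd with ⟨i, hi⟩ | ⟨g, hg, hgd, hco, hgt, hgc⟩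
  · left
    obtain ⟨he, b, hb, hib⟩ := half_of_dvd_succ Fintype.card_pos hr hr2 hk hη
      (selfRecip_dvd_succ hf hr hi (by rw [← hN]; exact hfN) hft)
    have h2 := Submodule.finrank_mono (hlef f hf hft)
    refine ⟨(Submodule.eq_of_le_of_finrank_le (hlef f hf hft) (by omega)).symm, by omega, he, hkd,
      i, b, hb, hib, ?_, by rw [← Nat.card_eq_fintype_card]; exact hi⟩
    rw [← he, mul_comm, pow_mul,
      show (Fintype.card F ^ η) ^ 2 - 1 = (Fintype.card F ^ η + 1) * (Fintype.card F ^ η - 1) by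
        rw [← Nat.sq_sub_sq, one_pow]] at hkdvd
    refine (hr.dvd_mul.1 hkdvd).resolve_right fun h => ?_
    rw [dvd_pow_sub_one_iff Fintype.card_pos, ← hk] at h
    have := Nat.le_of_dvd (by omega) h
    omega
  · right
    have hg1 : ¬ g ∣ X ^ t - 1 := fun h => hft (hgt t h)
    have hkd' : k ∣ g.natDegree := by
      rw [hk, ← Nat.card_eq_fintype_card]
      exact orderOf_dvd_natDegree hg hr (dvd_X_pow_sub_one hM hgd) hN hg1
    have h1' := natDegree_le_finrank hg (part_invariant (Commute.refl M) g) le_rfl (part_ne_bot hg hgd)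
    have h4 := Nat.le_of_dvd hg.natDegree_pos hkd'
    have hsup := sup_le (hlef f hf hft) (hlef g hg hg1)
    have h2 := Submodule.finrank_mono hsup
    rw [finrank_sup_part hco] at h2
    obtain ⟨ho, he⟩ : Odd k ∧ η = k := by
      rcases hη with h | ⟨-, h⟩
      · exact h
      · omega
    refine ⟨g, hg, hco, (Submodule.eq_of_le_of_finrank_le hsup ?_).symm, he, ho, by omega, by omega,
      by omega, by omega, he ▸ hkdvd, hgc⟩
    rw [finrank_sup_part hco]
    omega

/-- In the extremal case the scalar values of a factor are values on the whole moved space. -/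
theorem pow_apply_eq {M : Module.End F V} {r t k η N : ℕ} (hr : r.Prime) (hr2 : r ≠ 2)
    (hN : N = r * t) (hN0 : 1 ≤ N) (hM : M ^ N = 1)
    (hinv : aeval (M ^ (N - 1)) (minpoly F M) = 0)
    (hk : k = orderOf ((Fintype.card F : ℕ) : ZMod r)) (hη : IsEta k η)
    {f : F[X]} (hf : Irreducible f) (hfd : f ∣ minpoly F M) (hft : ¬ f ∣ X ^ t - 1)
    (hle : finrank F (LinearMap.range (M ^ t - 1)) ≤ 2 * η)
    {j : ℕ} {c : F} (hc : c * c = 1) (hj : f ∣ X ^ j - C c) :
    ∀ x ∈ LinearMap.range (M ^ t - 1), (M ^ j) x = c • x := by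
  have key : ∀ g : F[X], g ∣ X ^ j - C c → ∀ x ∈ part M g, (M ^ j) x = c • x := by
    intro g hg x hx
    obtain ⟨d, hd⟩ := hg
    have := congrArg (fun P => aeval M P x) hd
    simp only [map_sub, map_pow, aeval_X, aeval_C, LinearMap.sub_apply, Module.algebraMap_end_apply] at this
    rw [mul_comm, map_mul, Module.End.mul_apply, LinearMap.mem_ker.1 hx, map_zero, sub_eq_zero] at this
    exact this
  intro x hx
  rcases range_eq_family hr hr2 hN hN0 hM hinv hk hη hf hfd hft hle with ⟨he, -⟩ | ⟨g, -, -, he, -, -, -, -, -, -, -, hgc⟩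
  · rw [he] at hx
    exact key f hj x hx
  · rw [he] at hx
    obtain ⟨y, hy, z, hz, rfl⟩ := Submodule.mem_sup.1 hx
    rw [map_add, key f hj y hy, key g (hgc j c hc hj) z hz, smul_add]

/-- A commuting nilpotent map kills the moved space of an extremal prime. -/
theorem nilpotent_eq_zero {M E : Module.End F V} {r k η N : ℕ} (hr : r.Prime) (hr2 : r ≠ 2)
    (hrF : (r : F) ≠ 0) (hM : M ^ r = 1) (hM1 : M ≠ 1) (hinv : aeval (M ^ (r - 1)) (minpoly F M) = 0)
    (hcomm : Commute M E) (hEN : E ^ N = 0)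
    (hk : k = orderOf ((Fintype.card F : ℕ) : ZMod r)) (hη : IsEta k η)
    (hle : finrank F (LinearMap.range (M - 1)) ≤ 2 * η) :
    ∀ x ∈ LinearMap.range (M - 1), E x = 0 := by
  obtain ⟨f, hf, hfd, hf1⟩ := exists_factor M hrF hM (X - 1) (by simpa [sub_eq_zero] using hM1)
  have hfam := range_eq_family (t := 1) hr hr2 (by rw [mul_one]) hr.one_le hM hinv hk hη hf hfd
    (by rwa [pow_one]) (by rwa [pow_one])
  rw [pow_one] at hfam
  intro x hx
  rcases hfam with ⟨he, hdim, h2k, hkd, -⟩ | ⟨g, hg, -, he, -, -, hfk, hgk, hfdim, hgdim, -, -⟩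
  · rw [he] at hx
    by_contra h
    have h1 := two_mul_natDegree_le hcomm hf hEN hx h
    have h3 := Nat.le_of_dvd hf.natDegree_pos hkd
    have := hf.natDegree_pos
    omega
  · rw [he] at hx
    obtain ⟨y, hy, z, hz, rfl⟩ := Submodule.mem_sup.1 hx
    have h1 : E y = 0 := by
      by_contra h
      have := two_mul_natDegree_le hcomm hf hEN hy h
      have := hf.natDegree_pos
      omega
    have h2 : E z = 0 := by
      by_contra h
      have := two_mul_natDegree_le hcomm hg hEN hz h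
      have := hg.natDegree_pos
      omega
    rw [map_add, h1, h2, add_zero]

end CfsgLib.PrimeGraph
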