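import Cfsg.Agent.Lib.PrimeGraph.Basic
import Cfsg.Agent.Lib.Spectrum.RankTwo
import Cfsg.Agent.Lib.SL2Trace.Products
import Mathlib.LinearAlgebra.Matrix.GeneralLinearGroup.Card

/-! Adjacency in the prime graph of the projective special linear groups. -/

set_option autoImplicit false

open Polynomial Module CfsgLib.Spectrum

namespace CfsgLib.PrimeGraph

variable {F : Type*} [Field F] [Fintype F]

theorem coprime_card_sub_one {r : ℕ} (hr : r.Prime) (h : 2 ≤ orderOf ((Fintype.card F : ℕ) : ZMod r)) :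
    (Fintype.card F - 1).Coprime r := by
  refine Nat.Coprime.symm (hr.coprime_iff_not_dvd.2 fun hd => ?_)
  rw [← pow_one (Fintype.card F), dvd_pow_sub_one_iff Fintype.card_pos, Nat.dvd_one] at hd
  omega

theorem eq_one_of_pow_eq_one {N : ℕ} (hN : (Fintype.card F - 1).Coprime N) (hN0 : N ≠ 0) {c : F}
    (hc : c ^ N = 1) : c = 1 := by
  have hc0 : c ≠ 0 := by rintro rfl; rw [zero_pow hN0] at hc; exact zero_ne_one hc
  have h := pow_gcd_eq_one.2 ⟨FiniteField.pow_card_sub_one_eq_one c hc0, hc⟩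
  rwa [hN.gcd_eq_one, pow_one] at h

/-- Elements of `PSL` of order prime to `q - 1` lift to matrices of the same order. -/
theorem exists_lift {n N : ℕ} [NeZero n] (hN : (Fintype.card F - 1).Coprime N)
    (x : Matrix.ProjectiveSpecialLinearGroup (Fin n) F) (hx : orderOf x = N) :
    ∃ A : Module.End F (Fin n → F), A ^ N = 1 ∧ ∀ j, A ^ j = 1 → N ∣ j := by
  classical
  obtain ⟨g, rfl⟩ := QuotientGroup.mk_surjective x
  obtain ⟨c, hc⟩ := (pslMk_pow_eq_one_iff g N).1 (hx ▸ pow_orderOf_eq_one _)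
  have hc0 : c ≠ 0 := by
    rintro rfl
    have := congrArg Matrix.det hc
    rw [Matrix.det_pow, g.2, one_pow] at this
    simp [NeZero.ne n] at this
  obtain ⟨c', hc'⟩ := (powCoprime (G := Fˣ) (n := N) (by
    rwa [Nat.card_eq_fintype_card, Fintype.card_units])).surjective (Units.mk0 c hc0)
  have hc'' : (c' : F) ^ N = c := by
    have := congrArg Units.val hc'
    rwa [powCoprime_apply, Units.val_pow_eq_pow_val, Units.val_mk0] at this
  set G : Matrix (Fin n) (Fin n) F := (c' : F)⁻¹ • (g : Matrix (Fin n) (Fin n) F)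
  refine ⟨Matrix.toLinAlgEquiv' G, ?_, fun j hj => ?_⟩
  · rw [← map_pow, smul_pow, hc, inv_pow, hc'', show c⁻¹ • Matrix.scalar (Fin n) c = 1 by
      ext a b; by_cases hab : a = b <;> simp [Matrix.one_apply, Matrix.diagonal_apply, hc0, hab], map_one]
  · rw [← map_pow, map_eq_one_iff _ Matrix.toLinAlgEquiv'.injective, smul_pow, inv_pow] at hj
    rw [← hx]
    refine orderOf_dvd_of_pow_eq_one ((pslMk_pow_eq_one_iff g j).2 ⟨(c' : F) ^ j, ?_⟩)
    have h := congrArg (((c' : F) ^ j) • ·) hj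
    simp only [smul_smul, mul_inv_cancel₀ (pow_ne_zero j c'.ne_zero), one_smul] at h
    rw [h]
    ext a b
    simp [Matrix.scalar_apply, Matrix.one_apply, Matrix.diagonal_apply]

theorem orderOf_card_le (p : ℕ) [Fact p.Prime] [CharP F p] {n r : ℕ} (hr : r.Prime) (hrp : r ≠ p)
    (hrG : r ∣ Nat.card (Matrix.ProjectiveSpecialLinearGroup (Fin n) F)) :
    1 ≤ orderOf ((Fintype.card F : ℕ) : ZMod r) ∧ orderOf ((Fintype.card F : ℕ) : ZMod r) ≤ n := by
  haveI := Fact.mk hr
  have hq : ¬ r ∣ Fintype.card F := by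
    obtain ⟨a, -, hcard⟩ := FiniteField.card F p
    rw [hcard]
    exact fun h => hrp ((Nat.prime_dvd_prime_iff_eq hr Fact.out).1 (hr.dvd_of_dvd_pow h))
  have hne : ((Fintype.card F : ℕ) : ZMod r) ≠ 0 := by rwa [Ne, ZMod.natCast_eq_zero_iff]
  have hpos : 1 ≤ orderOf ((Fintype.card F : ℕ) : ZMod r) :=
    orderOf_pos_iff.2 (isOfFinOrder_iff_pow_eq_one.2 ⟨r - 1, by have := hr.two_le; omega,
      ZMod.pow_card_sub_one_eq_one hne⟩)
  refine ⟨hpos, ?_⟩
  classical
  have h1 : r ∣ Nat.card (GL (Fin n) F) := (hrG.trans (Subgroup.card_quotient_dvd_card _)).trans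
    (Subgroup.card_dvd_of_injective Matrix.SpecialLinearGroup.toGL Matrix.SpecialLinearGroup.toGL_injective)
  rw [Matrix.card_GL_field, (Nat.Prime.prime hr).dvd_finsetProd_iff] at h1
  obtain ⟨i, -, hi⟩ := h1
  have e : Fintype.card F ^ n - Fintype.card F ^ (i : ℕ) =
      Fintype.card F ^ (i : ℕ) * (Fintype.card F ^ (n - i) - 1) := by
    rw [Nat.mul_sub, mul_one, ← pow_add, Nat.add_sub_cancel' i.2.le]
  rw [e, hr.dvd_mul] at hi
  rcases hi with hi | hi
  · exact absurd (hr.dvd_of_dvd_pow hi) hq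
  · rw [dvd_pow_sub_one_iff Fintype.card_pos] at hi
    have := Nat.le_of_dvd (by have := i.2; omega) hi
    omega

/-- An element of order `r * p` forces room for a two-dimensional unipotent block. -/
theorem le_sub_two (p : ℕ) [Fact p.Prime] [CharP F p] {n r : ℕ} [NeZero n] (hr : r.Prime) (hrp : r ≠ p)
    (hk : 2 ≤ orderOf ((Fintype.card F : ℕ) : ZMod r))
    (hx : r * p ∈ Set.range (orderOf : Matrix.ProjectiveSpecialLinearGroup (Fin n) F → ℕ)) :
    orderOf ((Fintype.card F : ℕ) : ZMod r) + 2 ≤ n := by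
  obtain ⟨x, hx⟩ := hx
  have hp : p.Prime := Fact.out
  set q := Fintype.card F
  set k := orderOf ((q : ℕ) : ZMod r) with hkdef
  have hpq : (q - 1).Coprime p := by
    refine Nat.Coprime.symm (hp.coprime_iff_not_dvd.2 fun h => ?_)
    obtain ⟨a, -, hcard⟩ := FiniteField.card F p
    have h3 := Nat.dvd_sub (show p ∣ Fintype.card F from hcard ▸ dvd_pow_self p a.ne_zero) h
    rw [Nat.sub_sub_self Fintype.card_pos] at h3
    exact hp.ne_one (Nat.dvd_one.1 h3)
  obtain ⟨A, hA, hAord⟩ := exists_lift ((coprime_card_sub_one hr hk).mul_right hpq) x hx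
  have hrF : (r : F) ≠ 0 := fun h => by
    rw [CharP.cast_eq_zero_iff F p] at h
    exact hrp ((Nat.prime_dvd_prime_iff_eq hp hr).1 h).symm
  set M := A ^ p
  set E := A ^ r - 1 with hE
  have hM : M ^ r = 1 := by rw [← pow_mul, mul_comm, hA]
  have hM1 : M ≠ 1 := fun h => by
    have h1 := Nat.le_of_dvd hp.pos (hAord p h)
    have h2 := Nat.mul_le_mul_right p hr.two_le
    have := hp.two_le
    omega
  have hE0 : E ≠ 0 := fun h => by
    have h1 := Nat.le_of_dvd hr.pos (hAord r (sub_eq_zero.1 h))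
    have h2 := Nat.mul_le_mul_left r hp.two_le
    have := hr.two_le
    omega
  haveI : Nonempty (Fin n) := ⟨0⟩
  haveI : CharP (Module.End F (Fin n → F)) p :=
    charP_of_injective_algebraMap (algebraMap F (Module.End F (Fin n → F))).injective p
  have hEp : E ^ p = 0 := by rw [hE, sub_pow_char_of_commute p (Commute.one_right _), one_pow, ← pow_mul, hA, sub_self]
  have hcomm : Commute M E := ((Commute.pow_pow_self A p r).sub_right (Commute.one_right _))
  have hcomm' : ∀ v, M (E v) = E (M v) := fun v => LinearMap.congr_fun hcomm.eq v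
  set W := LinearMap.range (M - 1) with hW
  have hWinv : ∀ v ∈ W, M v ∈ W := by
    rintro _ ⟨x, rfl⟩; exact ⟨M x, by simp⟩
  have hWE : ∀ v ∈ W, E v ∈ W := by
    rintro _ ⟨x, rfl⟩; exact ⟨E x, by simp [hcomm']⟩
  have hle : ∀ U : Submodule F (Fin n → F), (∀ u ∈ U, M u ∈ U) → U ≤ W → U ≠ ⊥ → k ≤ finrank F U := by
    intro U h1 h2 h3
    have := le_finrank_of_mem_range hr hrF hM U h1 h2 h3
    rwa [Nat.card_eq_fintype_card] at this
  have hn : finrank F (Fin n → F) = n := finrank_fin_fun F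
  have hnil : ∀ v, ((E ^ p) v) = 0 := fun v => by rw [hEp]; rfl
  have hker : ∀ U : Submodule F (Fin n → F), (∀ u ∈ U, E u ∈ U) → ∀ v ∈ U, v ≠ 0 → ∃ u ∈ U, u ≠ 0 ∧ E u = 0 := by
    intro U hU v hv hv0
    by_contra h
    push Not at h
    have : ∀ i, (E ^ i) v ∈ U ∧ (E ^ i) v ≠ 0 := by
      intro i
      induction i with
      | zero => exact ⟨hv, hv0⟩
      | succ i ih => rw [pow_succ', Module.End.mul_apply]; exact ⟨hU _ ih.1, h _ ih.1 ih.2⟩
    exact (this p).2 (hnil v)
  by_cases hEW : ∀ v ∈ W, E v = 0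
  · obtain ⟨y, hy⟩ := DFunLike.ne_iff.1 hE0
    obtain ⟨u, ⟨z, hz⟩, hu0, huE⟩ := hker (LinearMap.range E)
      (fun w _ => LinearMap.mem_range_self E w) _ (LinearMap.mem_range_self E y) hy
    have hufix : M u = u := by
      have := hEW ((M - 1) z) ⟨z, rfl⟩
      rw [show (M - 1) z = M z - z from rfl, map_sub, sub_eq_zero, ← hcomm', hz] at this
      exact this
    have hWne : W ≠ ⊥ := fun h => hM1 (sub_eq_zero.1 (LinearMap.range_eq_bot.1 h))
    have huW : u ∉ W := fun h => hu0 (eq_zero_of_fixed_of_mem_range hrF hM hufix h)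
    have hlt : W < LinearMap.ker E :=
      lt_of_le_of_ne (fun v hv => hEW v hv) fun h => huW (h ▸ huE)
    have hlt2 : LinearMap.ker E < ⊤ := lt_top_iff_ne_top.2 fun h => hE0 (LinearMap.ker_eq_top.1 h)
    have h1 := Submodule.finrank_lt_finrank_of_lt hlt
    have h2 := Submodule.finrank_lt_finrank_of_lt hlt2
    rw [finrank_top, hn] at h2
    have h3 := hle W hWinv le_rfl hWne
    omega
  · push Not at hEW
    obtain ⟨v, hv, hEv⟩ := hEW
    obtain ⟨u, huW, hu0, huE⟩ := hker W hWE v hv (fun h => hEv (by rw [h, map_zero]))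
    set R := Submodule.map E W
    set N := W ⊓ LinearMap.ker E
    have hR : R ≠ ⊥ := fun h => hEv ((Submodule.eq_bot_iff _).1 h _ (Submodule.mem_map_of_mem hv))
    have hN : N ≠ ⊥ := fun h => hu0 ((Submodule.eq_bot_iff _).1 h u ⟨huW, huE⟩)
    have h1 := hle R (by rintro _ ⟨w, hw, rfl⟩; exact ⟨M w, hWinv w hw, (hcomm' w).symm⟩)
      (by rintro _ ⟨w, hw, rfl⟩; exact hWE w hw) hR
    have h2 := hle N (fun w hw => ⟨hWinv w hw.1, show E (M w) = 0 by rw [← hcomm', LinearMap.mem_ker.1 hw.2, map_zero]⟩)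
      inf_le_left hN
    have h3 := LinearMap.finrank_range_add_finrank_ker (E.domRestrict W)
    have hR' : LinearMap.range (E.domRestrict W) = R := LinearMap.range_domRestrict W E
    have hN' : finrank F (LinearMap.ker (E.domRestrict W)) = finrank F N := by
      rw [LinearMap.ker_domRestrict]
      have he : Submodule.map W.subtype (Submodule.comap W.subtype (LinearMap.ker E)) = N :=
        Submodule.map_comap_subtype W _
      rw [← Submodule.finrank_map_subtype_eq, ← he]
    rw [hR', hN'] at h3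
    have h4 := Submodule.finrank_le W
    rw [hn] at h4
    omega

theorem exists_unit_orderOf {K : Type*} [Field K] [Finite K] {N : ℕ} (h : N ∣ Nat.card K - 1) :
    ∃ ζ : Kˣ, orderOf ζ = N := by
  obtain ⟨γ, hγ⟩ := IsCyclic.exists_ofOrder_eq_natCard (α := Kˣ)
  rw [Nat.card_units] at hγ
  have h1 : 1 < Nat.card K := Finite.one_lt_card
  exact ⟨γ ^ ((Nat.card K - 1) / N), by rw [← hγ]; exact orderOf_pow_orderOf_div (by omega) (hγ ▸ h)⟩

/-- A unit of order `N` prime to `q - 1` in the extension of degree `d`. -/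
theorem exists_field_elt (p : ℕ) [Fact p.Prime] [CharP F p] {N d : ℕ} [NeZero d]
    (hN : N ∣ Fintype.card F ^ d - 1) (hco : (Fintype.card F - 1).Coprime N) :
    ∃ ζ : FiniteField.Extension F p d, (∀ j, ζ ^ j = 1 ↔ N ∣ j) ∧ Algebra.norm F ζ = 1 := by
  haveI : Finite (FiniteField.Extension F p d) := Module.finite_of_finite F
  obtain ⟨ζ, hζ⟩ := exists_unit_orderOf (K := FiniteField.Extension F p d) (N := N)
    (by rwa [FiniteField.natCard_extension, Nat.card_eq_fintype_card])
  refine ⟨(ζ : FiniteField.Extension F p d), fun j => ?_, eq_one_of_pow_eq_one hco ?_ ?_⟩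
  · rw [← Units.val_pow_eq_pow_val, Units.val_eq_one, ← hζ, orderOf_dvd_iff_pow_eq_one]
  · rw [← hζ]; exact (orderOf_pos ζ).ne'
  · rw [← map_pow, ← Units.val_pow_eq_pow_val, ← hζ, pow_orderOf_eq_one, Units.val_one, map_one]

theorem exists_orderOf_of_algebra {A : Type*} [CommRing A] [Algebra F A] [Module.Finite F A] {n N : ℕ}
    (hA : Module.finrank F A = n) (x : A) (hx : Algebra.norm F x = 1)
    (hN : ∀ j, (∃ c : F, x ^ j = algebraMap F A c) ↔ N ∣ j) :
    N ∈ Set.range (orderOf : Matrix.ProjectiveSpecialLinearGroup (Fin n) F → ℕ) := by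
  obtain ⟨g, hg⟩ := exists_psl_of_algebra hA x hx
  exact ⟨g, orderOf_eq_of_pow_iff g fun j => (hg j).trans (hN j)⟩

omit [Fintype F] in
theorem norm_prod {A B : Type*} [CommRing A] [Algebra F A] [Module.Finite F A] [CommRing B] [Algebra F B]
    [Module.Finite F B] (a : A) (b : B) :
    Algebra.norm F (a, b) = Algebra.norm F a * Algebra.norm F b := by
  rw [Algebra.norm_apply, Algebra.norm_apply, Algebra.norm_apply,
    show (Algebra.lmul F (A × B)) (a, b) = ((Algebra.lmul F A) a).prodMap ((Algebra.lmul F B) b) from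
      LinearMap.ext fun y => rfl, LinearMap.det_prodMap]

theorem mem_range_of_dvd {n N M : ℕ} (h : M ∈ Set.range (orderOf : Matrix.ProjectiveSpecialLinearGroup (Fin n) F → ℕ))
    (hd : N ∣ M) : N ∈ Set.range (orderOf : Matrix.ProjectiveSpecialLinearGroup (Fin n) F → ℕ) := by
  haveI : Finite (Matrix.ProjectiveSpecialLinearGroup (Fin n) F) := by
    classical exact Finite.of_surjective _ QuotientGroup.mk_surjective
  obtain ⟨g, rfl⟩ := h
  exact exists_orderOf_eq_of_dvd_orderOf g hd

/-- Existence of elements of order `r * p`, the order of `q` modulo `r` at least two. -/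
theorem mul_char_mem (p : ℕ) [Fact p.Prime] [CharP F p] {n r : ℕ} (hr : r.Prime) (hrp : r ≠ p)
    (hk : 2 ≤ orderOf ((Fintype.card F : ℕ) : ZMod r)) (hn : orderOf ((Fintype.card F : ℕ) : ZMod r) + 2 ≤ n) :
    r * p ∈ Set.range (orderOf : Matrix.ProjectiveSpecialLinearGroup (Fin n) F → ℕ) := by
  set k := orderOf ((Fintype.card F : ℕ) : ZMod r)
  haveI : NeZero k := ⟨by omega⟩
  have hp : p.Prime := Fact.out
  have hco := coprime_card_sub_one hr hk
  obtain ⟨ζ, hζ, hnorm⟩ := exists_field_elt (F := F) p (d := k)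
    ((dvd_pow_sub_one_iff Fintype.card_pos k).2 dvd_rfl) hco
  obtain ⟨hfin, hord, ⟨ev, hev⟩, hwnorm⟩ := truncated_one_add_root (F := F) p (show 1 ≤ n - k by omega)
  set B := AdjoinRoot (X ^ (n - k) : F[X])
  set w : B := 1 + AdjoinRoot.root (X ^ (n - k) : F[X])
  haveI : Module.Finite F B := (AdjoinRoot.powerBasis (pow_ne_zero _ X_ne_zero)).finite
  refine mem_range_of_dvd (exists_orderOf_of_algebra (n := n) (N := r * p ^ Nat.clog p (n - k))
    (A := FiniteField.Extension F p k × B) ?_ (ζ, w) ?_ fun j => ?_) ?_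
  · rw [Module.finrank_prod, FiniteField.finrank_extension, hfin]; omega
  · rw [norm_prod, hnorm, hwnorm, one_mul]
  · constructor
    · rintro ⟨c, hc⟩
      rw [Prod.pow_mk, Prod.algebraMap_apply, Prod.mk.injEq] at hc
      have hc1 : c = 1 := by
        have := congrArg ev hc.2
        rw [map_pow, hev, one_pow, AlgHom.commutes] at this
        simpa using this.symm
      rw [hc1, map_one, map_one] at hc
      exact Nat.Coprime.mul_dvd_of_dvd_of_dvd (Nat.Coprime.pow_right _ ((Nat.coprime_primes hr hp).2 hrp))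
        ((hζ j).1 hc.1) (hord ▸ orderOf_dvd_of_pow_eq_one hc.2)
    · intro h
      refine ⟨1, ?_⟩
      rw [map_one, Prod.pow_mk, (hζ j).2 ((dvd_mul_right _ _).trans h),
        orderOf_dvd_iff_pow_eq_one.1 (hord ▸ (dvd_mul_left _ _).trans h)]
      rfl
  · exact mul_dvd_mul_left r (dvd_pow_self p (Nat.clog_pos hp.one_lt (by omega)).ne')

/-- Existence of elements of order `r * p`, `r` dividing `q - 1`, dimension at least four. -/
theorem mul_char_mem_of_dvd (p : ℕ) [Fact p.Prime] [CharP F p] {n r : ℕ} (hr : r.Prime) (hrp : r ≠ p)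
    (hrq : r ∣ Fintype.card F - 1) (hn : 4 ≤ n) :
    r * p ∈ Set.range (orderOf : Matrix.ProjectiveSpecialLinearGroup (Fin n) F → ℕ) := by
  obtain ⟨ζ, hζ⟩ := exists_orderOf_eq_of_prime_dvd_card_sub_one hr hrq
  have hp : p.Prime := Fact.out
  obtain ⟨hfin, hord, ⟨ev, hev⟩, hwnorm⟩ := truncated_one_add_root (F := F) p (show 1 ≤ n - 2 by omega)
  set B := AdjoinRoot (X ^ (n - 2) : F[X])
  set w : B := 1 + AdjoinRoot.root (X ^ (n - 2) : F[X])
  haveI : Module.Finite F B := (AdjoinRoot.powerBasis (pow_ne_zero _ X_ne_zero)).finite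
  refine mem_range_of_dvd (exists_orderOf_of_algebra (n := n) (N := r * p ^ Nat.clog p (n - 2))
    (A := (F × F) × B) ?_ (((ζ : F), (ζ : F)⁻¹), w) ?_ fun j => ?_) ?_
  · rw [Module.finrank_prod, Module.finrank_prod, Module.finrank_self, hfin]; omega
  · rw [norm_prod, norm_prod, hwnorm, mul_one, Algebra.norm_self, MonoidHom.id_apply, MonoidHom.id_apply,
      mul_inv_cancel₀ ζ.ne_zero]
  · have hz : (ζ : F) ^ j = 1 ↔ r ∣ j := by
      rw [← Units.val_pow_eq_pow_val, Units.val_eq_one, ← hζ, orderOf_dvd_iff_pow_eq_one]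
    constructor
    · rintro ⟨c, hc⟩
      simp only [Prod.pow_mk, Prod.algebraMap_apply, Prod.mk.injEq, Algebra.algebraMap_self,
        RingHom.id_apply] at hc
      have hc1 : c = 1 := by
        have := congrArg ev hc.2
        rw [map_pow, hev, one_pow, AlgHom.commutes] at this
        simpa using this.symm
      rw [hc1, map_one] at hc
      exact Nat.Coprime.mul_dvd_of_dvd_of_dvd (Nat.Coprime.pow_right _ ((Nat.coprime_primes hr hp).2 hrp))
        (hz.1 hc.1.1) (hord ▸ orderOf_dvd_of_pow_eq_one hc.2)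
    · intro h
      refine ⟨1, ?_⟩
      simp only [map_one, Prod.pow_mk, hz.2 ((dvd_mul_right _ _).trans h), inv_pow, inv_one,
        orderOf_dvd_iff_pow_eq_one.1 (hord ▸ (dvd_mul_left _ _).trans h)]
      rfl
  · exact mul_dvd_mul_left r (dvd_pow_self p (Nat.clog_pos hp.one_lt (by omega)).ne')

/-- The criterion for the characteristic. -/
theorem mul_char_notMem_iff (p : ℕ) [Fact p.Prime] [CharP F p] (n : ℕ) (hn : 2 ≤ n)
    (r : ℕ) (hr : r.Prime) (hr2 : r ≠ 2) (hrp : r ≠ p)
    (hrG : r ∣ Nat.card (Matrix.ProjectiveSpecialLinearGroup (Fin n) F))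
    (k : ℕ) (hk : k = orderOf ((Fintype.card F : ℕ) : ZMod r)) :
    (r * p ∉ Set.range (orderOf : Matrix.ProjectiveSpecialLinearGroup (Fin n) F → ℕ)) ↔
      (n - 2 < k ∨ (n = 3 ∧ r = 3 ∧ 3 ∣ Fintype.card F - 1 ∧ ¬ 9 ∣ Fintype.card F - 1)) := by
  haveI : NeZero n := ⟨by omega⟩
  obtain ⟨hk1, -⟩ := orderOf_card_le p hr hrp hrG
  have hp : p.Prime := Fact.out
  subst hk
  have h1dvd : r ∣ Fintype.card F - 1 ↔ orderOf ((Fintype.card F : ℕ) : ZMod r) = 1 := by
    rw [← pow_one (Fintype.card F), dvd_pow_sub_one_iff Fintype.card_pos, pow_one, Nat.dvd_one]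
  constructor
  · intro h
    by_contra hc
    push Not at hc
    obtain ⟨hc1, hc2⟩ := hc
    rcases Nat.eq_or_lt_of_le hk1 with he | hlt
    · have hrq : r ∣ Fintype.card F - 1 := h1dvd.2 he.symm
      rcases Nat.eq_or_lt_of_le (show 3 ≤ n by omega) with rfl | h4
      · obtain ⟨g, hg⟩ := exists_orderOf_pslThreeMixed (F := F) p _ _ rfl rfl
        refine h (mem_range_of_dvd ⟨g, hg⟩ ?_)
        rw [mul_comm r p, Nat.mul_div_assoc _ (Nat.gcd_dvd_right _ _)]
        refine mul_dvd_mul_left p ?_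
        by_cases h3 : r = 3
        · subst h3
          have h9 := hc2 rfl rfl hrq
          rw [show Nat.gcd 3 (Fintype.card F - 1) = 3 from Nat.gcd_eq_left hrq]
          obtain ⟨t, ht⟩ := h9
          exact ⟨t, by omega⟩
        · rw [show Nat.gcd 3 (Fintype.card F - 1) = Nat.gcd 3 (Fintype.card F - 1) from rfl]
          have hd := Nat.div_mul_cancel (Nat.gcd_dvd_right 3 (Fintype.card F - 1))
          rw [← hd] at hrq
          exact (hr.dvd_mul.1 hrq).resolve_right fun h' => h3
            ((Nat.prime_dvd_prime_iff_eq hr Nat.prime_three).1 (h'.trans (Nat.gcd_dvd_left _ _)))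
      · exact h (mul_char_mem_of_dvd p hr hrp hrq h4)
    · exact h (mul_char_mem p hr hrp hlt (by omega))
  · intro hcond hx
    rcases Nat.eq_or_lt_of_le hk1 with he | hlt
    · have hrq : r ∣ Fintype.card F - 1 := h1dvd.2 he.symm
      have hpq : ¬ p ∣ Fintype.card F - 1 := fun h => by
        obtain ⟨a, -, hcard⟩ := FiniteField.card F p
        have h3 := Nat.dvd_sub (show p ∣ Fintype.card F from hcard ▸ dvd_pow_self p a.ne_zero) h
        rw [Nat.sub_sub_self Fintype.card_pos] at h3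
        exact hp.ne_one (Nat.dvd_one.1 h3)
      obtain ⟨g, hg⟩ := hx
      rcases hcond with hc | ⟨rfl, rfl, h3, h9⟩
      · have hn2 : n = 2 := by omega
        subst hn2
        have hdp : p ∣ Fintype.card F := by
          obtain ⟨a, -, hcard⟩ := FiniteField.card F p
          exact hcard ▸ dvd_pow_self p a.ne_zero
        have hpp : r * p ∣ p → False := fun h => by
          have := (Nat.prime_dvd_prime_iff_eq hr hp).1 ((dvd_mul_right r p).trans h)
          exact hrp this
        rcases CfsgLib.SL2Trace.psl_pow_cases p g with h | h | h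
        · exact hpp (hg ▸ orderOf_dvd_of_pow_eq_one h)
        · exact hpq ((dvd_mul_left p r).trans ((hg ▸ orderOf_dvd_of_pow_eq_one h).trans
            (Nat.div_dvd_of_dvd (Nat.gcd_dvd_right _ _))))
        · have h1 := (dvd_mul_left p r).trans ((hg ▸ orderOf_dvd_of_pow_eq_one h).trans
            (Nat.div_dvd_of_dvd (CfsgLib.SL2Trace.gcd_two_card' (F := F) ▸ Nat.gcd_dvd_right _ _)))
          have h2 := Nat.dvd_sub h1 hdp
          rw [Nat.add_sub_cancel_left] at h2
          exact hp.ne_one (Nat.dvd_one.1 h2)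
      · obtain ⟨g, rfl⟩ := QuotientGroup.mk_surjective g
        have hgcd : Nat.gcd 3 (Fintype.card F - 1) = 3 := Nat.gcd_eq_left h3
        have hd := orderOf_psl_three_dvd p g _ _ rfl rfl
        simp only [hg, hgcd] at hd
        have hdp : p ∣ Fintype.card F := by
          obtain ⟨a, -, hcard⟩ := FiniteField.card F p
          exact hcard ▸ dvd_pow_self p a.ne_zero
        have hq3 : Fintype.card F % 3 = 1 := by have := Fintype.card_pos (α := F); omega
        rcases hd with h | h | h | h | ⟨rfl, h⟩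
        · have h1 := ((dvd_mul_left p 3).trans h).trans (Nat.div_dvd_of_dvd
            (Nat.dvd_of_mod_eq_zero (by simp [Nat.add_mod, Nat.pow_mod, hq3])))
          have h2 : p ∣ Fintype.card F ^ 2 + Fintype.card F := dvd_add (hdp.trans (dvd_pow_self _ two_ne_zero)) hdp
          exact hp.ne_one (Nat.dvd_one.1 ((Nat.dvd_add_right h2).1 h1))
        · have h1 := ((dvd_mul_left p 3).trans h).trans (Nat.div_dvd_of_dvd (h3.trans (by
            simpa using Nat.sub_one_dvd_pow_sub_one (Fintype.card F) 2)))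
          have h2 := Nat.dvd_sub (hdp.trans (dvd_pow_self _ two_ne_zero)) h1
          rw [Nat.sub_sub_self (Nat.one_le_pow _ _ Fintype.card_pos)] at h2
          exact hp.ne_one (Nat.dvd_one.1 h2)
        · exact hpq ((dvd_mul_left p 3).trans h)
        · rw [Nat.mul_div_assoc _ h3, mul_comm 3 p] at h
          obtain ⟨t, ht⟩ := Nat.dvd_of_mul_dvd_mul_left hp.pos h
          obtain ⟨u, hu⟩ := h3
          rw [hu, Nat.mul_div_cancel_left _ three_pos] at ht
          exact h9 ⟨t, by omega⟩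
        · exact absurd h (by norm_num)
    · have := le_sub_two p hr hrp hlt hx
      rcases hcond with hc | ⟨rfl, rfl, h3, -⟩
      · omega
      · exact absurd (h1dvd.1 h3) (by omega)

/-- Elements of order `r * s`. -/
theorem exists_of_mul_order (p : ℕ) [Fact p.Prime] [CharP F p] {n r s : ℕ} [NeZero n]
    (hr : r.Prime) (hs : s.Prime) (hrp : r ≠ p) (hsp : s ≠ p) (hrs : r ≠ s)
    (hk : 2 ≤ orderOf ((Fintype.card F : ℕ) : ZMod r))
    (hl : orderOf ((Fintype.card F : ℕ) : ZMod r) ≤ orderOf ((Fintype.card F : ℕ) : ZMod s))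
    (hx : r * s ∈ Set.range (orderOf : Matrix.ProjectiveSpecialLinearGroup (Fin n) F → ℕ)) :
    orderOf ((Fintype.card F : ℕ) : ZMod r) + orderOf ((Fintype.card F : ℕ) : ZMod s) ≤ n ∨
      orderOf ((Fintype.card F : ℕ) : ZMod r) ∣ orderOf ((Fintype.card F : ℕ) : ZMod s) := by
  obtain ⟨x, hx⟩ := hx
  set q := Fintype.card F
  set k := orderOf ((q : ℕ) : ZMod r)
  set l := orderOf ((q : ℕ) : ZMod s)
  obtain ⟨A, hA, hAord⟩ :=
    exists_lift ((coprime_card_sub_one hr hk).mul_right (coprime_card_sub_one hs (hk.trans hl))) x hx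
  have hcast : ∀ {t : ℕ}, t.Prime → t ≠ p → (t : F) ≠ 0 := fun {t} ht htp h => by
    rw [CharP.cast_eq_zero_iff F p] at h
    exact htp ((Nat.prime_dvd_prime_iff_eq Fact.out ht).1 h).symm
  have hrF := hcast hr hrp
  have hsF := hcast hs hsp
  set M := A ^ s
  set N := A ^ r
  have hM : M ^ r = 1 := by rw [← pow_mul, mul_comm, hA]
  have hN : N ^ s = 1 := by rw [← pow_mul, hA]
  have hM1 : M ≠ 1 := fun h => by
    have h1 := Nat.le_of_dvd hs.pos (hAord s h)
    have h2 := Nat.mul_le_mul_right s hr.two_le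
    have := hs.two_le
    omega
  have hN1 : N ≠ 1 := fun h => by
    have h1 := Nat.le_of_dvd hr.pos (hAord r h)
    have h2 := Nat.mul_le_mul_left r hs.two_le
    have := hr.two_le
    omega
  have hn : finrank F (Fin n → F) = n := finrank_fin_fun F
  by_cases hMN : (M - 1) * (N - 1) = 0
  · left
    have hfix : ∀ v ∈ LinearMap.range (N - 1), M v = v := by
      rintro _ ⟨y, rfl⟩
      exact sub_eq_zero.1 (LinearMap.congr_fun hMN y)
    have hdis : LinearMap.range (M - 1) ⊓ LinearMap.range (N - 1) = ⊥ :=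
      (Submodule.eq_bot_iff _).2 fun v hv => eq_zero_of_fixed_of_mem_range hrF hM (hfix v hv.2) hv.1
    have h1 := le_finrank_of_mem_range hr hrF hM (LinearMap.range (M - 1))
      (by rintro _ ⟨y, rfl⟩; exact ⟨M y, by simp⟩) le_rfl fun h => hM1 (sub_eq_zero.1 (LinearMap.range_eq_bot.1 h))
    have h2 := le_finrank_of_mem_range hs hsF hN (LinearMap.range (N - 1))
      (by rintro _ ⟨y, rfl⟩; exact ⟨N y, by simp⟩) le_rfl fun h => hN1 (sub_eq_zero.1 (LinearMap.range_eq_bot.1 h))
    rw [Nat.card_eq_fintype_card] at h1 h2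
    change k ≤ _ at h1
    change l ≤ _ at h2
    have h3 := Submodule.finrank_sup_add_finrank_inf_eq (LinearMap.range (M - 1)) (LinearMap.range (N - 1))
    rw [hdis, finrank_bot, add_zero] at h3
    have h4 := Submodule.finrank_le (LinearMap.range (M - 1) ⊔ LinearMap.range (N - 1))
    rw [hn] at h4
    omega
  · obtain ⟨K, _, _, _, α, hα, hα1, hd, hpow⟩ := exists_root A (N := r * s)
      (by rw [Nat.cast_mul]; exact mul_ne_zero hrF hsF) hA ((X ^ s - 1) * (X ^ r - 1)) (by simpa using hMN)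
    rw [map_mul, mul_ne_zero_iff] at hα1
    simp only [map_sub, map_pow, aeval_X, map_one, sub_ne_zero] at hα1
    rw [Nat.card_eq_fintype_card] at hpow
    haveI := Fact.mk hr
    haveI := Fact.mk hs
    have hor : orderOf (α ^ s) = r := orderOf_eq_prime (by rw [← pow_mul, mul_comm, hα]) hα1.1
    have hos : orderOf (α ^ r) = s := orderOf_eq_prime (by rw [← pow_mul, hα]) hα1.2
    have hkd : k ∣ finrank F K := (dvd_pow_sub_one_iff Fintype.card_pos _).1 (hor ▸ orderOf_dvd_of_pow_eq_one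
      (by rw [← pow_mul, mul_comm, pow_mul, hpow, one_pow]))
    have hld : l ∣ finrank F K := (dvd_pow_sub_one_iff Fintype.card_pos _).1 (hos ▸ orderOf_dvd_of_pow_eq_one
      (by rw [← pow_mul, mul_comm, pow_mul, hpow, one_pow]))
    by_cases hle : k + l ≤ n
    · exact Or.inl hle
    · right
      obtain ⟨t, ht⟩ := hld
      have ht0 : t ≠ 0 := fun h => by rw [h, mul_zero] at ht; exact Module.finrank_pos.ne' ht
      have ht2 : t < 2 := by
        by_contra h
        push Not at h
        have := Nat.mul_le_mul_left l h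
        omega
      rw [show t = 1 by omega, mul_one] at ht
      rwa [← ht]

theorem mul_mem_of_dvd (p : ℕ) [Fact p.Prime] [CharP F p] {n r s : ℕ} (hr : r.Prime) (hs : s.Prime)
    (hrs : r ≠ s) (hk : 2 ≤ orderOf ((Fintype.card F : ℕ) : ZMod r))
    (hl : 2 ≤ orderOf ((Fintype.card F : ℕ) : ZMod s))
    (hdvd : orderOf ((Fintype.card F : ℕ) : ZMod r) ∣ orderOf ((Fintype.card F : ℕ) : ZMod s))
    (hn : orderOf ((Fintype.card F : ℕ) : ZMod s) ≤ n) :
    r * s ∈ Set.range (orderOf : Matrix.ProjectiveSpecialLinearGroup (Fin n) F → ℕ) := by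
  set l := orderOf ((Fintype.card F : ℕ) : ZMod s)
  haveI : NeZero l := ⟨by omega⟩
  have hco := (coprime_card_sub_one hr hk).mul_right (coprime_card_sub_one hs hl)
  obtain ⟨ζ, hζ, hnorm⟩ := exists_field_elt (F := F) p (d := l) (((Nat.coprime_primes hr hs).2 hrs).mul_dvd_of_dvd_of_dvd
    ((dvd_pow_sub_one_iff Fintype.card_pos l).2 hdvd) ((dvd_pow_sub_one_iff Fintype.card_pos l).2 dvd_rfl)) hco
  refine exists_orderOf_of_algebra (A := FiniteField.Extension F p l × (Fin (n - l) → F)) ?_ (ζ, 1) ?_ fun j => ?_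
  · rw [Module.finrank_prod, FiniteField.finrank_extension, Module.finrank_fin_fun]; omega
  · rw [norm_prod, hnorm, map_one, one_mul]
  · constructor
    · rintro ⟨c, hc⟩
      rw [Prod.pow_mk, Prod.algebraMap_apply, Prod.mk.injEq] at hc
      refine (hζ j).1 ?_
      have : c ^ (r * s) = 1 := (algebraMap F (FiniteField.Extension F p l)).injective (by
        rw [map_pow, ← hc.1, ← pow_mul, mul_comm, pow_mul, (hζ _).2 dvd_rfl, one_pow, map_one])
      rw [hc.1, eq_one_of_pow_eq_one hco (mul_ne_zero hr.ne_zero hs.ne_zero) this, map_one]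
    · intro h
      exact ⟨1, by rw [map_one, Prod.pow_mk, (hζ j).2 h, one_pow]; rfl⟩

theorem mul_mem_of_add_le (p : ℕ) [Fact p.Prime] [CharP F p] {n r s : ℕ} (hr : r.Prime) (hs : s.Prime)
    (hrs : r ≠ s) (hk : 2 ≤ orderOf ((Fintype.card F : ℕ) : ZMod r))
    (hl : 2 ≤ orderOf ((Fintype.card F : ℕ) : ZMod s))
    (hn : orderOf ((Fintype.card F : ℕ) : ZMod r) + orderOf ((Fintype.card F : ℕ) : ZMod s) ≤ n) :
    r * s ∈ Set.range (orderOf : Matrix.ProjectiveSpecialLinearGroup (Fin n) F → ℕ) := by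
  set k := orderOf ((Fintype.card F : ℕ) : ZMod r)
  set l := orderOf ((Fintype.card F : ℕ) : ZMod s)
  haveI : NeZero k := ⟨by omega⟩
  haveI : NeZero l := ⟨by omega⟩
  obtain ⟨ζ, hζ, hnorm⟩ := exists_field_elt (F := F) p (d := k)
    ((dvd_pow_sub_one_iff Fintype.card_pos k).2 dvd_rfl) (coprime_card_sub_one hr hk)
  obtain ⟨η, hη, hnorm'⟩ := exists_field_elt (F := F) p (d := l)
    ((dvd_pow_sub_one_iff Fintype.card_pos l).2 dvd_rfl) (coprime_card_sub_one hs hl)
  refine exists_orderOf_of_algebra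
    (A := (FiniteField.Extension F p k × FiniteField.Extension F p l) × (Fin (n - k - l) → F)) ?_ ((ζ, η), 1) ?_
    fun j => ?_
  · rw [Module.finrank_prod, Module.finrank_prod, FiniteField.finrank_extension, FiniteField.finrank_extension,
      Module.finrank_fin_fun]
    omega
  · rw [norm_prod, norm_prod, hnorm, hnorm', map_one, one_mul, one_mul]
  · constructor
    · rintro ⟨c, hc⟩
      simp only [Prod.pow_mk, Prod.algebraMap_apply, Prod.mk.injEq] at hc
      have h1 : c ^ r = 1 := (algebraMap F (FiniteField.Extension F p k)).injective (by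
        rw [map_pow, ← hc.1.1, ← pow_mul, mul_comm, pow_mul, (hζ _).2 dvd_rfl, one_pow, map_one])
      rw [eq_one_of_pow_eq_one (coprime_card_sub_one hr hk) hr.ne_zero h1, map_one, map_one] at hc
      exact ((Nat.coprime_primes hr hs).2 hrs).mul_dvd_of_dvd_of_dvd ((hζ j).1 hc.1.1) ((hη j).1 hc.1.2)
    · intro h
      exact ⟨1, by rw [map_one, Prod.pow_mk, Prod.pow_mk, (hζ j).2 ((dvd_mul_right r s).trans h),
        (hη j).2 ((dvd_mul_left s r).trans h), one_pow]; rfl⟩

/-- The criterion for two primes. -/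
theorem mul_notMem_iff (p : ℕ) [Fact p.Prime] [CharP F p] (n : ℕ) (hn : 2 ≤ n)
    (r s : ℕ) (hr : r.Prime) (hs : s.Prime) (hrp : r ≠ p) (hsp : s ≠ p) (hrs : r ≠ s)
    (hsG : s ∣ Nat.card (Matrix.ProjectiveSpecialLinearGroup (Fin n) F))
    (k l : ℕ) (hk : k = orderOf ((Fintype.card F : ℕ) : ZMod r)) (hl : l = orderOf ((Fintype.card F : ℕ) : ZMod s))
    (h2k : 2 ≤ k) (hkl : k ≤ l) :
    (r * s ∉ Set.range (orderOf : Matrix.ProjectiveSpecialLinearGroup (Fin n) F → ℕ)) ↔ (n < k + l ∧ ¬ k ∣ l) := by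
  haveI : NeZero n := ⟨by omega⟩
  subst hk hl
  obtain ⟨-, hln⟩ := orderOf_card_le p hs hsp hsG
  constructor
  · intro h
    refine ⟨?_, fun hd => h (mul_mem_of_dvd p hr hs hrs h2k (h2k.trans hkl) hd hln)⟩
    by_contra hc
    push Not at hc
    exact h (mul_mem_of_add_le p hr hs hrs h2k (h2k.trans hkl) hc)
  · rintro ⟨h1, h2⟩ hx
    rcases exists_of_mul_order p hr hs hrp hsp hrs h2k hkl hx with h | h
    · omega
    · exact h2 h

end CfsgLib.PrimeGraph
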