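import Cfsg.Agent.Lib.SmallOrder.Auto
import Cfsg.Agent.Lib.OddOrder.PiCore
import Cfsg.Agent.Lib.Char.Burnside

/-!
A group of order 7920 with disconnected prime graph is simple.
-/

set_option autoImplicit false

open Subgroup
open scoped commutatorElement

namespace CfsgLib.PrimeGraph.Order7920

universe u
variable {G : Type u} [Group G] [Finite G]

/-- A subgroup acting without fixed points on a normal subgroup has order dividing its order less one. -/
theorem card_dvd_sub_one (Q N : Subgroup G) [N.Normal]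
    (hfree : ∀ q ∈ Q, ∀ x ∈ N, x ≠ 1 → q * x = x * q → q = 1) :
    Nat.card Q ∣ Nat.card N - 1 := by
  classical
  let X := {x : N // x ≠ 1}
  let act : MulAction Q X :=
    { smul := fun q x => ⟨⟨(q : G) * (x.1 : G) * (q : G)⁻¹, Subgroup.Normal.conj_mem ‹_› _ x.1.2 _⟩, fun h => by
        have h' : (q : G) * (x.1 : G) * (q : G)⁻¹ = 1 := congrArg Subtype.val h
        exact x.2 (Subtype.ext (conj_eq_one_iff.mp h'))⟩
      one_smul := fun x => Subtype.ext (Subtype.ext (show (1 : G) * (x.1 : G) * (1 : G)⁻¹ = _ by simp))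
      mul_smul := fun a b x => Subtype.ext (Subtype.ext (show ((a : G) * b) * (x.1 : G) * ((a : G) * b)⁻¹ =
        (a : G) * ((b : G) * (x.1 : G) * (b : G)⁻¹) * (a : G)⁻¹ by group)) }
  have : Fintype (MulAction.orbitRel.Quotient Q X) := Fintype.ofFinite _
  have hX : Nat.card X = Nat.card N - 1 := by
    have : Fintype N := Fintype.ofFinite N
    rw [Nat.card_eq_fintype_card, Fintype.card_subtype_compl, Fintype.card_subtype_eq,
      Nat.card_eq_fintype_card]
  rw [← hX, Nat.card_congr (MulAction.selfEquivSigmaOrbits Q X), Nat.card_sigma]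
  refine Finset.dvd_sum fun o _ => dvd_of_eq ?_
  rw [← MulAction.index_stabilizer_of_transitive Q (⟨o.out, MulAction.mem_orbit_self _⟩ :
    MulAction.orbit Q o.out)]
  have hst : MulAction.stabilizer Q (⟨o.out, MulAction.mem_orbit_self _⟩ : MulAction.orbit Q o.out) = ⊥ := by
    rw [eq_bot_iff]
    intro q hq
    rw [MulAction.mem_stabilizer_iff] at hq
    have h1 : q • o.out = o.out := congrArg Subtype.val hq
    have h2 : (q : G) * ((o.out : X).1 : G) * (q : G)⁻¹ = ((o.out : X).1 : G) :=
      congrArg (fun x : X => (x.1 : G)) h1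
    rw [mul_inv_eq_iff_eq_mul] at h2
    rw [Subgroup.mem_bot]
    exact Subtype.ext (hfree q q.2 _ (o.out : X).1.2 (fun h => (o.out : X).2 (Subtype.ext h)) h2)
  rw [hst, Subgroup.index_bot]

omit [Finite G] in
/-- A supplement of a normal subgroup has index dividing its order. -/
theorem index_dvd_of_sup_eq_top [Finite G] (L N : Subgroup G) [N.Normal] (h : L ⊔ N = ⊤) :
    L.index ∣ Nat.card N := by
  have h1 : N.relIndex (L ⊔ N) = N.relIndex L := Subgroup.relIndex_sup_right (H := L) (K := N)
  rw [h, Subgroup.relIndex_top_right] at h1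
  have h2 : Nat.card (N.subgroupOf L) * N.index = Nat.card L := by
    rw [h1]; exact (N.subgroupOf L).card_mul_index
  refine ⟨Nat.card (N.subgroupOf L), ?_⟩
  refine Nat.eq_of_mul_eq_mul_right (Nat.pos_of_ne_zero (Subgroup.index_ne_zero_of_finite (H := N))) ?_
  rw [mul_assoc, h2, N.card_mul_index, mul_comm, L.card_mul_index]

/-- An element of prime order normalising a subgroup centralises it when the arithmetic forces it. -/
theorem centralizes {p : ℕ} [Fact p.Prime] {x : G} (hx : orderOf x = p) (N : Subgroup G)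
    (hN : ∀ n ∈ N, x * n * x⁻¹ ∈ N)
    (harith : ∀ d, d ∣ Nat.card N → d % p = Nat.card N % p → d = Nat.card N) :
    ∀ n ∈ N, Commute x n := by
  classical
  let Z := Subgroup.zpowers x
  have hnorm : ∀ z ∈ Z, ∀ n ∈ N, z * n * z⁻¹ ∈ N := by
    have : Z ≤ normalizer (N : Set G) := by
      rw [Subgroup.zpowers_le, Subgroup.mem_normalizer_iff]
      refine fun n => ⟨hN n, fun h => ?_⟩
      have hinj : Function.Injective fun m : N => (⟨x * m * x⁻¹, hN m m.2⟩ : N) := fun a b h => by
        have := congrArg Subtype.val h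
        exact Subtype.ext (mul_left_cancel (mul_right_cancel this))
      obtain ⟨m, hm⟩ := Finite.surjective_of_injective hinj ⟨_, h⟩
      have := congrArg Subtype.val hm
      simp only at this
      rw [← mul_left_cancel (mul_right_cancel this)]
      exact m.2
    exact fun z hz n hn => (Subgroup.mem_normalizer_iff.mp (this hz) n).mp hn
  let act : MulAction Z N :=
    { smul := fun z n => ⟨(z : G) * n * (z : G)⁻¹, hnorm z z.2 n n.2⟩
      one_smul := fun n => Subtype.ext (show (1 : G) * (n : G) * (1 : G)⁻¹ = _ by simp)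
      mul_smul := fun a b n => Subtype.ext (show ((a : G) * b) * (n : G) * ((a : G) * b)⁻¹ =
        (a : G) * ((b : G) * (n : G) * (b : G)⁻¹) * (a : G)⁻¹ by group) }
  have hZ : IsPGroup p Z := IsPGroup.of_card (n := 1) (by rw [Nat.card_zpowers, hx, pow_one])
  have hmod := hZ.card_modEq_card_fixedPoints N
  let C : Subgroup N := (Subgroup.centralizer ({x} : Set G)).subgroupOf N
  have hfix : Nat.card (MulAction.fixedPoints Z N) = Nat.card C := by
    refine Nat.card_congr (Equiv.subtypeEquivRight fun n => ?_)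
    simp only [MulAction.mem_fixedPoints, C, Subgroup.mem_subgroupOf, mem_centralizer_singleton_iff]
    constructor
    · intro h
      have h1 : x * (n : G) * x⁻¹ = n := congrArg Subtype.val (h ⟨x, Subgroup.mem_zpowers x⟩)
      exact (mul_inv_eq_iff_eq_mul.mp h1).symm
    · intro h z
      refine Subtype.ext (show (z : G) * n * (z : G)⁻¹ = n from ?_)
      obtain ⟨k, hk⟩ := Subgroup.mem_zpowers_iff.mp z.2
      rw [← hk, mul_inv_eq_iff_eq_mul]
      exact ((show Commute (n : G) x from h).zpow_right k).eq.symm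
  rw [hfix] at hmod
  have hC : C = ⊤ := Subgroup.eq_top_of_card_eq C
    (harith _ (Subgroup.card_subgroup_dvd_card C) hmod.symm)
  intro n hn
  have : (⟨n, hn⟩ : N) ∈ C := hC ▸ Subgroup.mem_top _
  exact (mem_centralizer_singleton_iff.mp this).symm

/-- The hypotheses: the order and a separation of the prime divisors. -/
structure Hyp (G : Type u) [Group G] where
  card : Nat.card G = 7920
  A : Set ℕ
  split : ¬ ((2 ∈ A ↔ 3 ∈ A) ∧ (2 ∈ A ↔ 5 ∈ A) ∧ (2 ∈ A ↔ 11 ∈ A))
  sep : ∀ a b : ℕ, a.Prime → b.Prime → a ∣ Nat.card G → b ∣ Nat.card G → ∀ g : G,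
    orderOf g = a * b → (a ∈ A ↔ b ∈ A)

variable (H : Hyp G)

omit [Finite G] in
theorem prime_cases {p : ℕ} (hp : p.Prime) (h : p ∣ 7920) : p = 2 ∨ p = 3 ∨ p = 5 ∨ p = 11 := by
  rw [show (7920 : ℕ) = 2 ^ 4 * 3 ^ 2 * 5 * 11 by norm_num] at h
  rcases hp.dvd_mul.mp h with h | h
  · rcases hp.dvd_mul.mp h with h | h
    · rcases hp.dvd_mul.mp h with h | h
      · exact Or.inl ((Nat.prime_dvd_prime_iff_eq hp Nat.prime_two).mp (hp.dvd_of_dvd_pow h))
      · exact Or.inr (Or.inl ((Nat.prime_dvd_prime_iff_eq hp Nat.prime_three).mp (hp.dvd_of_dvd_pow h)))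
    · exact Or.inr (Or.inr (Or.inl ((Nat.prime_dvd_prime_iff_eq hp (by norm_num)).mp h)))
  · exact Or.inr (Or.inr (Or.inr ((Nat.prime_dvd_prime_iff_eq hp (by norm_num)).mp h)))

include H in
theorem exists_order {p : ℕ} [Fact p.Prime] (h : p ∣ 7920) : ∃ x : G, orderOf x = p :=
  exists_prime_orderOf_dvd_card' p (H.card ▸ h)

theorem same_side {a b : ℕ} (ha : a.Prime) (hb : b.Prime) {x y : G} (hx : orderOf x = a)
    (hy : orderOf y = b) (h : Commute x y) : a ∈ H.A ↔ b ∈ H.A := by
  by_cases hab : a = b
  · rw [hab]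
  refine H.sep a b ha hb (hx ▸ orderOf_dvd_natCard x) (hy ▸ orderOf_dvd_natCard y) (x * y) ?_
  rw [h.orderOf_mul_eq_mul_orderOf_of_coprime (by rw [hx, hy]; exact (Nat.coprime_primes ha hb).mpr hab), hx, hy]

theorem same_side_of_subgroup {a b : ℕ} (ha : a.Prime) [hb : Fact b.Prime] {x : G} (hx : orderOf x = a)
    (K : Subgroup G) (hc : ∀ k ∈ K, Commute x k) (hK : b ∣ Nat.card K) : a ∈ H.A ↔ b ∈ H.A := by
  obtain ⟨y, hy⟩ := exists_prime_orderOf_dvd_card' (G := K) b hK
  exact same_side H ha hb.out hx (by rw [Subgroup.orderOf_coe, hy]) (hc y y.2)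

/-- An element whose order only involves primes on one side commutes with no element of a prime
order on the other side. -/
theorem eq_one_of_commute {a : ℕ} (ha : a.Prime) {x n : G} (hx : orderOf x = a) (h : Commute x n)
    (hn : ∀ b : ℕ, b.Prime → b ∣ orderOf n → ¬ (a ∈ H.A ↔ b ∈ H.A)) : n = 1 := by
  by_contra hne
  obtain ⟨b, hb, hbn⟩ := Nat.exists_prime_and_dvd (fun h1 => hne (orderOf_eq_one_iff.mp h1))
  refine hn b hb hbn (same_side H ha hb hx (y := n ^ (orderOf n / b)) ?_ (h.pow_right _))
  rw [orderOf_pow_orderOf_div (orderOf_pos n).ne' hbn]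

include H in
/-- There is no normal subgroup of order eleven. -/
theorem card_normal_ne_eleven (N : Subgroup G) [N.Normal] : Nat.card N ≠ 11 := by
  intro hN
  have : Fact (11 : ℕ).Prime := ⟨by norm_num⟩
  have : IsCyclic N := isCyclic_of_prime_card hN
  obtain ⟨z, hz⟩ := IsCyclic.exists_generator (α := N)
  set C := Subgroup.centralizer (N : Set G)
  have hCz : ∀ g : G, g * z * g⁻¹ = z → g ∈ C := by
    intro g hg
    rw [mem_centralizer_iff]
    intro m hm
    obtain ⟨k, hk⟩ := Subgroup.mem_zpowers_iff.mp (hz ⟨m, hm⟩)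
    have : Commute g (z : G) := mul_inv_eq_iff_eq_mul.mp hg
    have h2 := (this.zpow_right k).eq.symm
    rw [← Subgroup.coe_zpow, hk] at h2
    exact h2
  have hidx : C.index ≤ 10 := by
    have hsub : ∀ g : G, (⟨g * z * g⁻¹, Subgroup.Normal.conj_mem ‹_› _ z.2 g⟩ : N) ≠ 1 := fun g h => by
      have h' : g * (z : G) * g⁻¹ = 1 := congrArg Subtype.val h
      have h1 : z = 1 := Subtype.ext (conj_eq_one_iff.mp h')
      have h2 := orderOf_eq_card_of_forall_mem_zpowers hz
      rw [h1, orderOf_one, hN] at h2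
      omega
    rw [Subgroup.index_eq_card]
    calc Nat.card (G ⧸ C) ≤ Nat.card {m : N // m ≠ 1} := by
          refine Nat.card_le_card_of_injective (fun q => ⟨_, hsub q.out⟩) fun a b h => ?_
          have h' : a.out * (z : G) * a.out⁻¹ = b.out * (z : G) * b.out⁻¹ :=
            congrArg (fun m : {m : N // m ≠ 1} => (m.1 : G)) h
          rw [← a.out_eq', ← b.out_eq', QuotientGroup.eq]
          refine hCz _ ?_
          calc a.out⁻¹ * b.out * z * (a.out⁻¹ * b.out)⁻¹ = a.out⁻¹ * (b.out * z * b.out⁻¹) * a.out := by group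
            _ = z := by rw [← h']; group
      _ = 10 := by
        have : Fintype N := Fintype.ofFinite N
        classical
        rw [Nat.card_eq_fintype_card, Fintype.card_subtype_compl, Fintype.card_subtype_eq,
          ← Nat.card_eq_fintype_card, hN]
  have hmul := C.card_mul_index
  rw [H.card] at hmul
  obtain ⟨y, hy⟩ := exists_prime_orderOf_dvd_card' (G := N) 11 (dvd_of_eq hN.symm)
  have hyG : orderOf (y : G) = 11 := by rw [Subgroup.orderOf_coe, hy]
  have hycomm : ∀ c ∈ C, Commute (y : G) c := fun c hc => mem_centralizer_iff.mp hc y y.2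
  have hedge : ∀ b : ℕ, b.Prime → b ∣ Nat.card C → (11 ∈ H.A ↔ b ∈ H.A) := fun b hb h => by
    have : Fact b.Prime := ⟨hb⟩
    exact same_side_of_subgroup H (by norm_num) hyG C hycomm h
  have h11 : 11 ∣ Nat.card C := by
    have hle : N ≤ C := fun a ha => mem_centralizer_iff.mpr fun b hb =>
      (congrArg Subtype.val ((IsCyclic.commGroup (α := N)).mul_comm ⟨b, hb⟩ ⟨a, ha⟩) :)
    exact hN ▸ Subgroup.card_dvd_of_le hle
  have h2 : 2 ∣ Nat.card C := by
    have h0 := Subgroup.index_ne_zero_of_finite (H := C)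
    generalize C.index = j at hmul hidx h0
    interval_cases j <;> omega
  have h3 : 3 ∣ Nat.card C := by
    have : Fact (3 : ℕ).Prime := ⟨Nat.prime_three⟩
    obtain ⟨x, hx⟩ := exists_order H (p := 3) (by norm_num)
    have hxC : x ∈ C := mem_centralizer_iff.mpr fun n hn =>
      (centralizes hx N (fun n hn => Subgroup.Normal.conj_mem ‹_› n hn x) (fun d hd he => by
        rw [hN] at hd he ⊢
        rcases (Nat.dvd_prime (by norm_num)).mp hd with rfl | rfl
        · norm_num at he
        · rfl) n hn).eq.symm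
    exact hx ▸ C.orderOf_dvd_natCard hxC
  have h5 : ¬ 5 ∣ Nat.card C := by
    intro h5
    have e2 := hedge 2 Nat.prime_two h2
    have e3 := hedge 3 Nat.prime_three h3
    have e5 := hedge 5 (by norm_num) h5
    exact H.split ⟨e2.symm.trans e3, e2.symm.trans e5, e2.symm⟩
  have hside : ∀ b : ℕ, b.Prime → b ∣ Nat.card C → ¬ (5 ∈ H.A ↔ b ∈ H.A) := fun b hb hbC h => by
    have e := (hedge b hb hbC).trans h.symm
    exact H.split ⟨((hedge 2 Nat.prime_two h2).symm.trans (hedge 3 Nat.prime_three h3)),
      (hedge 2 Nat.prime_two h2).symm.trans e, (hedge 2 Nat.prime_two h2).symm⟩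
  have : Fact (5 : ℕ).Prime := ⟨by norm_num⟩
  obtain ⟨x, hx⟩ := exists_order H (p := 5) (by norm_num)
  have hdvd := card_dvd_sub_one (Subgroup.zpowers x) C fun q hq c hc hc1 hcomm => by
    by_contra hq1
    refine hc1 (eq_one_of_commute H (a := 5) (by norm_num) (x := q) ?_ hcomm fun b hb hbc =>
      hside b hb (hbc.trans (C.orderOf_dvd_natCard hc)))
    have : orderOf q ∣ 5 := hx ▸ orderOf_dvd_of_mem_zpowers hq
    exact (Nat.dvd_prime (by norm_num)).mp this |>.resolve_left fun h => hq1 (orderOf_eq_one_iff.mp h)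
  rw [Nat.card_zpowers, hx] at hdvd
  have h0 := Subgroup.index_ne_zero_of_finite (H := C)
  generalize C.index = j at hmul hidx h0
  interval_cases j <;> omega

include H in
/-- There is no abelian normal subgroup of prime exponent. -/
theorem eq_bot_of_elementary (N : Subgroup G) [N.Normal] (hab : ∀ a ∈ N, ∀ b ∈ N, a * b = b * a)
    {p : ℕ} [hp : Fact p.Prime] (hexp : ∀ a ∈ N, a ^ p = 1) : N = ⊥ := by
  by_contra hne
  have hP : IsPGroup p N := fun a => ⟨1, Subtype.ext (by simpa using hexp a a.2)⟩
  obtain ⟨k, hk⟩ := hP.exists_card_eq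
  have hk0 : k ≠ 0 := fun h => hne (Subgroup.card_eq_one.mp (by rw [hk, h, pow_zero]))
  have hdvd : p ^ k ∣ 7920 := hk ▸ H.card ▸ Subgroup.card_subgroup_dvd_card N
  obtain ⟨y, hy⟩ := exists_prime_orderOf_dvd_card' (G := N) p (hk ▸ dvd_pow_self p hk0)
  have hyG : orderOf (y : G) = p := by rw [Subgroup.orderOf_coe, hy]
  have : Fact (2 : ℕ).Prime := ⟨Nat.prime_two⟩
  have : Fact (3 : ℕ).Prime := ⟨Nat.prime_three⟩
  have : Fact (5 : ℕ).Prime := ⟨by norm_num⟩
  have : Fact (11 : ℕ).Prime := ⟨by norm_num⟩
  -- an element of prime order centralising `N`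
  have cent : ∀ (q : ℕ) [Fact q.Prime], q ∣ 7920 →
      (∀ d, d ∣ p ^ k → d % q = p ^ k % q → d = p ^ k) → (p ∈ H.A ↔ q ∈ H.A) := by
    intro q hq hq' har
    obtain ⟨x, hx⟩ := exists_order H hq'
    exact (same_side H hq.out hp.out hx hyG (centralizes hx N (fun n hn =>
      Subgroup.Normal.conj_mem ‹_› n hn x) (hk ▸ har) y y.2)).symm
  -- a subgroup on the other side acts freely
  have free : ∀ (q e : ℕ) [Fact q.Prime], q ^ e ∣ 7920 → ¬ (q ∈ H.A ↔ p ∈ H.A) → q ^ e ∣ p ^ k - 1 := by
    intro q e hq hd hs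
    obtain ⟨Q, hQ⟩ := Sylow.exists_subgroup_card_pow_prime q (H.card ▸ hd)
    rw [← hk, ← hQ]
    refine card_dvd_sub_one Q N fun a ha n hn hn1 hcomm => ?_
    by_contra ha1
    obtain ⟨j, hj⟩ : ∃ j, orderOf a = q ^ j := by
      obtain ⟨j, -, hj⟩ := (Nat.dvd_prime_pow hq.out).mp (hQ ▸ Q.orderOf_dvd_natCard ha)
      exact ⟨j, hj⟩
    have hn' : orderOf n = p := orderOf_eq_prime (hexp n hn) hn1
    refine ha1 (eq_one_of_commute H hp.out hn' (Commute.symm hcomm) fun b hb hba => ?_)
    rw [(Nat.prime_dvd_prime_iff_eq hb hq.out).mp (hb.dvd_of_dvd_pow (hj ▸ hba))]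
    exact fun h => hs h.symm
  have hk1' : 1 ≤ k := Nat.one_le_iff_ne_zero.mpr hk0
  have hk11 : k ≤ 4 := by
    by_contra hc
    have h5 : p ^ 5 ∣ 7920 := (pow_dvd_pow p (by omega)).trans hdvd
    rcases prime_cases hp.out ((dvd_pow_self p (by norm_num)).trans h5) with rfl | rfl | rfl | rfl <;>
      norm_num at h5
  rcases prime_cases hp.out ((dvd_pow_self p hk0).trans hdvd) with rfl | rfl | rfl | rfl
  · -- p = 2
    have e11 : 2 ∈ H.A ↔ 11 ∈ H.A := cent 11 (by norm_num) fun d hd he => by
      have hle := Nat.le_of_dvd (pow_pos two_pos k) hd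
      interval_cases k <;> simp only [Nat.reducePow] at hd he hle ⊢ <;> interval_cases d <;> omega
    have e3 : 2 ∈ H.A ↔ 3 ∈ H.A := by
      by_contra hc
      have := free 3 2 (by norm_num) (fun h => hc h.symm)
      interval_cases k <;> norm_num at this
    have e5 : ¬ (5 ∈ H.A ↔ 2 ∈ H.A) := fun h => H.split ⟨e3, h.symm, e11⟩
    have hk4 : k = 4 := by
      have := free 5 1 (by norm_num) e5
      interval_cases k <;> first | rfl | norm_num at this
    subst hk4
    set C := Subgroup.centralizer (N : Set G)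
    have hNC : N ≤ C := fun a ha => mem_centralizer_iff.mpr fun b hb => hab b hb a ha
    have h16 : 16 ∣ Nat.card C := by
      have := Subgroup.card_dvd_of_le hNC
      rwa [hk] at this
    obtain ⟨x11, hx11⟩ := exists_order H (p := 11) (by norm_num)
    have hx11C : x11 ∈ C := mem_centralizer_iff.mpr fun n hn =>
      (centralizes hx11 N (fun n hn => Subgroup.Normal.conj_mem ‹_› n hn x11) (fun d hd he => by
        rw [hk] at hd he ⊢
        have hle := Nat.le_of_dvd (by norm_num) hd
        norm_num at hd he hle ⊢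
        interval_cases d <;> omega) n hn).eq.symm
    have h11 : 11 ∣ Nat.card C := hx11 ▸ C.orderOf_dvd_natCard hx11C
    have hside : ∀ b : ℕ, b.Prime → b ∣ Nat.card C → (2 ∈ H.A ↔ b ∈ H.A) := fun b hb h => by
      have : Fact b.Prime := ⟨hb⟩
      exact same_side_of_subgroup H Nat.prime_two hyG C
        (fun c hc => mem_centralizer_iff.mp hc y y.2) h
    obtain ⟨x, hx⟩ := exists_order H (p := 5) (by norm_num)
    have hfree := card_dvd_sub_one (Subgroup.zpowers x) C fun q hq c hc hc1 hcomm => by
      by_contra hq1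
      refine hc1 (eq_one_of_commute H (a := 5) (by norm_num) (x := q) ?_ hcomm fun b hb hbc h =>
        e5 (h.trans (hside b hb (hbc.trans (C.orderOf_dvd_natCard hc))).symm))
      have : orderOf q ∣ 5 := hx ▸ orderOf_dvd_of_mem_zpowers hq
      exact (Nat.dvd_prime (by norm_num)).mp this |>.resolve_left fun h => hq1 (orderOf_eq_one_iff.mp h)
    rw [Nat.card_zpowers, hx] at hfree
    have hC : Nat.card C = 176 := by
      have hd : Nat.card C ∣ 7920 := H.card ▸ Subgroup.card_subgroup_dvd_card C
      obtain ⟨e, he⟩ : 176 ∣ Nat.card C := Nat.Coprime.mul_dvd_of_dvd_of_dvd (by norm_num) h16 h11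
      rw [he] at hd hfree ⊢
      have hd' : e ∣ 45 := Nat.dvd_of_mul_dvd_mul_left (by norm_num) (show 176 * e ∣ 176 * 45 from hd)
      have hle := Nat.le_of_dvd (by norm_num) hd'
      interval_cases e <;> first | rfl | omega
    have hsyl : Nat.card (Sylow 11 C) = 1 := by
      obtain ⟨P⟩ := (inferInstance : Nonempty (Sylow 11 C))
      have hP := SmallOrder.card_sylow_eq (e := 1) (m := 16) (by rw [hC]; norm_num) (by norm_num) P
      have hd := P.card_dvd_index
      have hi : (P : Subgroup C).index = 16 := by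
        have := (P : Subgroup C).card_mul_index
        rw [hP, hC] at this
        omega
      rw [hi] at hd
      have hm := card_sylow_modEq_one 11 C
      unfold Nat.ModEq at hm
      have hle := Nat.le_of_dvd (by norm_num) hd
      have hpos : 0 < Nat.card (Sylow 11 C) := Nat.card_pos
      generalize Nat.card (Sylow 11 C) = j at hd hm hle hpos
      interval_cases j <;> omega
    obtain ⟨P⟩ := (inferInstance : Nonempty (Sylow 11 C))
    have : Subsingleton (Sylow 11 C) := (Nat.card_eq_one_iff_unique.mp hsyl).1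
    have : (P : Subgroup C).Normal := Sylow.normal_of_subsingleton P
    have : (P : Subgroup C).Characteristic := Sylow.characteristic_of_normal P this
    have : ((P : Subgroup C).map C.subtype).Normal := inferInstance
    refine card_normal_ne_eleven H ((P : Subgroup C).map C.subtype) ?_
    rw [Subgroup.card_map_of_injective C.subtype_injective,
      SmallOrder.card_sylow_eq (e := 1) (m := 16) (by rw [hC]; norm_num) (by norm_num) P, pow_one]
  · -- p = 3
    have hk2 : k ≤ 2 := by
      by_contra hc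
      have h3 : 3 ^ 3 ∣ 7920 := (pow_dvd_pow 3 (by omega)).trans hdvd
      norm_num at h3
    have e11 : 3 ∈ H.A ↔ 11 ∈ H.A := cent 11 (by norm_num) fun d hd he => by
      have hle := Nat.le_of_dvd (pow_pos (by norm_num) k) hd
      interval_cases k <;> simp only [Nat.reducePow] at hd he hle ⊢ <;> interval_cases d <;> omega
    have e5 : 3 ∈ H.A ↔ 5 ∈ H.A := cent 5 (by norm_num) fun d hd he => by
      have hle := Nat.le_of_dvd (pow_pos (by norm_num) k) hd
      interval_cases k <;> simp only [Nat.reducePow] at hd he hle ⊢ <;> interval_cases d <;> omega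
    have := free 2 4 (by norm_num) fun h => H.split ⟨h, h.trans e5, h.trans e11⟩
    interval_cases k <;> norm_num at this
  · -- p = 5
    have hk1 : k = 1 := by
      by_contra hc
      have h5 : 5 ^ 2 ∣ 7920 := (pow_dvd_pow 5 (by omega)).trans hdvd
      norm_num at h5
    subst hk1
    have e11 : 5 ∈ H.A ↔ 11 ∈ H.A := cent 11 (by norm_num) fun d hd he => by
      have hle := Nat.le_of_dvd (by norm_num) hd
      norm_num at hd he hle ⊢
      interval_cases d <;> omega
    have e3 : 5 ∈ H.A ↔ 3 ∈ H.A := cent 3 (by norm_num) fun d hd he => by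
      have hle := Nat.le_of_dvd (by norm_num) hd
      norm_num at hd he hle ⊢
      interval_cases d <;> omega
    have := free 2 4 (by norm_num) fun h => H.split ⟨h.trans e3, h, h.trans e11⟩
    norm_num at this
  · -- p = 11
    have hk1 : k = 1 := by
      by_contra hc
      have h5 : 11 ^ 2 ∣ 7920 := (pow_dvd_pow 11 (by omega)).trans hdvd
      norm_num at h5
    exact card_normal_ne_eleven H N (by rw [hk, hk1, pow_one])

include H in
/-- There is no non-trivial solvable normal subgroup. -/
theorem eq_bot_of_solvable (N : Subgroup G) [N.Normal] [Group.IsSolvable N] : N = ⊥ := by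
  by_contra hne
  obtain ⟨M, hM, hmin⟩ := exists_minimal_of_wellFoundedLT (fun M : Subgroup G => M.Normal ∧ M ≠ ⊥ ∧ M ≤ N)
    ⟨N, ‹_›, hne, le_rfl⟩
  obtain ⟨hMn, hM0, hMN⟩ := hM
  have : Group.IsSolvable M := Group.isSolvable_of_isSolvable_injective (f := Subgroup.inclusion hMN) (Subgroup.inclusion_injective hMN)
  have hnt : Nontrivial M := (Subgroup.nontrivial_iff_ne_bot M).mpr hM0
  -- the derived subgroup is trivial
  have hab : ∀ a ∈ M, ∀ b ∈ M, a * b = b * a := by
    have hlt : commutator M < ⊤ := Group.IsSolvable.commutator_lt_top_of_nontrivial M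
    let D := (commutator M).map M.subtype
    have hD : D ≤ M := Subgroup.map_subtype_le _
    have : D.Normal := inferInstance
    have hDb : D = ⊥ := by
      by_contra h
      have := hmin ⟨this, h, hD.trans hMN⟩ hD
      refine hlt.ne (eq_top_iff.mpr fun m _ => ?_)
      obtain ⟨m', hm', he⟩ := this m.2
      rwa [← Subtype.ext he]
    intro a ha b hb
    have h1 : (⁅(⟨a, ha⟩ : M), ⟨b, hb⟩⁆ : M) = 1 := by
      have hm : ((⁅(⟨a, ha⟩ : M), ⟨b, hb⟩⁆ : M) : G) ∈ D :=
        ⟨_, Subgroup.commutator_mem_commutator (Subgroup.mem_top _) (Subgroup.mem_top _), rfl⟩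
      rw [hDb, Subgroup.mem_bot] at hm
      exact Subtype.ext hm
    exact congrArg Subtype.val (commutatorElement_eq_one_iff_mul_comm.mp h1)
  obtain ⟨p, hp, hpd⟩ := Nat.exists_prime_and_dvd (n := Nat.card M) (by
    intro h; exact hM0 (Subgroup.card_eq_one.mp h))
  have : Fact p.Prime := ⟨hp⟩
  let E : Subgroup G :=
    { carrier := {a | a ∈ M ∧ a ^ p = 1}
      one_mem' := ⟨one_mem _, one_pow p⟩
      mul_mem' := fun {a b} ha hb => ⟨mul_mem ha.1 hb.1, by
        rw [(show Commute a b from hab a ha.1 b hb.1).mul_pow, ha.2, hb.2, one_mul]⟩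
      inv_mem' := fun {a} ha => ⟨inv_mem ha.1, by rw [inv_pow, ha.2, inv_one]⟩ }
  have : E.Normal := ⟨fun a ha g => ⟨hMn.conj_mem a ha.1 g, by rw [conj_pow, ha.2, mul_one, mul_inv_cancel]⟩⟩
  have hE := eq_bot_of_elementary H E (fun a ha b hb => hab a ha.1 b hb.1) fun a ha => ha.2
  obtain ⟨y, hy⟩ := exists_prime_orderOf_dvd_card' (G := M) p hpd
  have : (y : G) ∈ E := ⟨y.2, by rw [← Subgroup.coe_pow, ← hy, pow_orderOf_eq_one]; rfl⟩
  rw [hE, Subgroup.mem_bot] at this
  have h1 : y = 1 := Subtype.ext this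
  rw [h1, orderOf_one] at hy
  exact hp.one_lt.ne hy

omit [Finite G] in
/-- Orders with at most two of the three small primes give solvable groups. -/
theorem solvable_of_dvd {K : Type u} [Group K] [Finite K] {p q a b : ℕ} (hp : p.Prime) (hq : q.Prime)
    (h : Nat.card K ∣ p ^ a * q ^ b) : Group.IsSolvable K := by
  obtain ⟨d, e, hd, he, hde⟩ := Nat.dvd_mul.mp h
  obtain ⟨i, -, rfl⟩ := (Nat.dvd_prime_pow hp).mp hd
  obtain ⟨j, -, rfl⟩ := (Nat.dvd_prime_pow hq).mp he
  exact Char.isSolvable_of_card_eq_prime_pow_mul hp hq hde.symm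

include H in
/-- A non-trivial normal subgroup has order divisible by eleven. -/
theorem eleven_dvd (N : Subgroup G) [N.Normal] (hne : N ≠ ⊥) : 11 ∣ Nat.card N := by
  by_contra h11
  have hd : Nat.card N ∣ 720 := by
    have h := (H.card ▸ Subgroup.card_subgroup_dvd_card N : Nat.card N ∣ 7920)
    exact (Nat.Coprime.dvd_of_dvd_mul_right ((Nat.Prime.coprime_iff_not_dvd (by norm_num)).mpr h11).symm
      (show Nat.card N ∣ 720 * 11 from h))
  have : Fact (11 : ℕ).Prime := ⟨by norm_num⟩
  -- every prime divisor of the order lies on the side of eleven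
  have hside : ∀ r : ℕ, r.Prime → r ∣ Nat.card N → (r ∈ H.A ↔ 11 ∈ H.A) := by
    intro r hr hrN
    have : Fact r.Prime := ⟨hr⟩
    obtain ⟨Q⟩ := (inferInstance : Nonempty (Sylow r N))
    have hF := Sylow.normalizer_sup_eq_top Q
    set L := Subgroup.normalizer (((Q : Subgroup N).map N.subtype : Subgroup G) : Set G)
    have hL : 11 ∣ Nat.card L := by
      have hidx : L.index ∣ Nat.card N := index_dvd_of_sup_eq_top L N hF
      have h1 := L.card_mul_index
      rw [H.card] at h1
      rcases (Nat.Prime.dvd_mul (by norm_num : Nat.Prime 11)).mp (h1 ▸ (by norm_num : 11 ∣ 7920)) with h | h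
      · exact h
      · exact absurd (h.trans hidx) h11
    obtain ⟨x, hx⟩ := exists_prime_orderOf_dvd_card' (G := L) 11 hL
    have hxG : orderOf (x : G) = 11 := by rw [Subgroup.orderOf_coe, hx]
    obtain ⟨k, hk⟩ := Q.2.exists_card_eq
    have hk' : Nat.card ((Q : Subgroup N).map N.subtype) = r ^ k := by
      rw [Subgroup.card_map_of_injective N.subtype_injective, hk]
    have hrk : r ^ k ∣ 720 := hk ▸ (Subgroup.card_subgroup_dvd_card _).trans hd
    have hN720 := hd
    have hcomm := centralizes hxG ((Q : Subgroup N).map N.subtype)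
      (fun n hn => (Subgroup.mem_normalizer_iff.mp x.2 n).mp hn) (fun d hd he => by
        rw [hk'] at hd he ⊢
        have hle := Nat.le_of_dvd (pow_pos hr.pos k) hd
        have hcases : r ^ k ∈ ({1, 2, 4, 8, 16, 3, 9, 5} : Finset ℕ) := by
          have hk4 : k ≤ 4 := by
            by_contra hc
            have h5 : r ^ 5 ∣ 720 := (pow_dvd_pow r (by omega)).trans hrk
            rcases prime_cases hr ((dvd_pow_self r (by norm_num)).trans (h5.trans (by norm_num)))
              with rfl | rfl | rfl | rfl <;> norm_num at h5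
          rcases prime_cases hr (hrN.trans (hN720.trans (by norm_num)))
            with rfl | rfl | rfl | rfl <;> interval_cases k <;> first | decide | norm_num at hrk
        simp only [Finset.mem_insert, Finset.mem_singleton] at hcases
        generalize r ^ k = m at hd he hle hcases ⊢
        rcases hcases with rfl | rfl | rfl | rfl | rfl | rfl | rfl | rfl <;>
          interval_cases d <;> omega)
    refine (same_side_of_subgroup H (by norm_num) hxG _ hcomm ?_).symm
    rw [hk']
    refine dvd_pow_self r ?_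
    rintro rfl
    have hc : (Q : Subgroup N) = ⊥ := Subgroup.card_eq_one.mp (by rw [hk, pow_zero])
    exact Q.ne_bot_of_dvd_card hrN hc
  have hns : ¬ Group.IsSolvable N := fun h => hne (eq_bot_of_solvable H N)
  have hall : ∀ r, r = 2 ∨ r = 3 ∨ r = 5 → r ∣ Nat.card N := by
    intro r hr
    by_contra hc
    apply hns
    rcases hr with rfl | rfl | rfl
    · refine solvable_of_dvd (p := 3) (q := 5) (a := 2) (b := 1) Nat.prime_three (by norm_num) ?_
      exact (Nat.Coprime.dvd_of_dvd_mul_left
        ((Nat.prime_two.coprime_iff_not_dvd.mpr hc).symm.pow_right 4) (show Nat.card N ∣ 2 ^ 4 * 45 from hd))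
    · refine solvable_of_dvd (p := 2) (q := 5) (a := 4) (b := 1) Nat.prime_two (by norm_num) ?_
      exact (Nat.Coprime.dvd_of_dvd_mul_left
        ((Nat.prime_three.coprime_iff_not_dvd.mpr hc).symm.pow_right 2) (show Nat.card N ∣ 3 ^ 2 * 80 from hd))
    · refine solvable_of_dvd (p := 2) (q := 3) (a := 4) (b := 2) Nat.prime_two Nat.prime_three ?_
      exact (Nat.Coprime.dvd_of_dvd_mul_left
        (((by norm_num : Nat.Prime 5).coprime_iff_not_dvd.mpr hc).symm.pow_right 1)
        (show Nat.card N ∣ 5 ^ 1 * 144 from hd))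
  have e2 := hside 2 Nat.prime_two (hall 2 (Or.inl rfl))
  exact H.split ⟨e2.trans (hside 3 Nat.prime_three (hall 3 (Or.inr (Or.inl rfl)))).symm,
    e2.trans (hside 5 (by norm_num) (hall 5 (Or.inr (Or.inr rfl)))).symm, e2⟩

include H in
/-- A minimal normal subgroup different from the whole group does not exist. -/
theorem isSimple : IsSimpleGroup G := by
  have : Nontrivial G := Finite.one_lt_card_iff_nontrivial.mp (by rw [H.card]; norm_num)
  have : Fact (11 : ℕ).Prime := ⟨by norm_num⟩
  refine ⟨fun N₀ hN₀ => ?_⟩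
  by_contra hc
  push Not at hc
  obtain ⟨hb, ht⟩ := hc
  obtain ⟨N, hN, hmin⟩ := exists_minimal_of_wellFoundedLT (fun M : Subgroup G => M.Normal ∧ M ≠ ⊥ ∧ M ≤ N₀)
    ⟨N₀, hN₀, hb, le_rfl⟩
  obtain ⟨hNn, hN0, hNN⟩ := hN
  have hmin' : ∀ M : Subgroup G, M.Normal → M ≠ ⊥ → M ≤ N → M = N := fun M h1 h2 h3 =>
    le_antisymm h3 (hmin ⟨h1, h2, h3.trans hNN⟩ h3)
  have hd : Nat.card N ∣ 7920 := H.card ▸ Subgroup.card_subgroup_dvd_card N
  have h11 := eleven_dvd H N hN0
  have hns : ¬ Group.IsSolvable N := fun h => hN0 (eq_bot_of_solvable H N)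
  have : Nontrivial N := (Subgroup.nontrivial_iff_ne_bot N).mpr hN0
  have hnoeleven : ∀ M : Subgroup G, M.Normal → ¬ 11 ∣ Nat.card M → M = ⊥ := fun M h1 h2 =>
    by_contra fun h => h2 (eleven_dvd H M h)
  have h121 : ¬ 11 * 11 ∣ Nat.card N := fun h => by
    have := h.trans hd
    norm_num at this
  have hsimple : IsSimpleGroup N := by
    refine ⟨fun S hS => ?_⟩
    by_cases h : 11 ∣ Nat.card S
    · right
      have hz : ∀ z : N, z ^ 11 = 1 → z ∈ S := by
        intro z hz
        have h1 : orderOf (QuotientGroup.mk z : N ⧸ S) ∣ 11 :=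
          (orderOf_map_dvd (QuotientGroup.mk' S) z).trans (orderOf_dvd_of_pow_eq_one hz)
        rcases (Nat.dvd_prime (by norm_num)).mp h1 with h2 | h2
        · exact (QuotientGroup.eq_one_iff z).mp (orderOf_eq_one_iff.mp h2)
        · exfalso
          apply h121
          rw [Subgroup.card_eq_card_quotient_mul_card_subgroup S]
          exact Nat.mul_dvd_mul (h2 ▸ orderOf_dvd_natCard _) h
      let R := Subgroup.closure {z : G | z ∈ N ∧ z ^ 11 = 1}
      have hRn : R.Normal := by
        refine ⟨fun r hr g => ?_⟩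
        induction hr using Subgroup.closure_induction with
        | mem a ha =>
          exact Subgroup.subset_closure
            ⟨hNn.conj_mem a ha.1 g, by rw [conj_pow, ha.2, mul_one, mul_inv_cancel]⟩
        | one => simp
        | mul a b _ _ ha hb => rw [show g * (a * b) * g⁻¹ = g * a * g⁻¹ * (g * b * g⁻¹) by group]; exact mul_mem ha hb
        | inv a _ ha => rw [show g * a⁻¹ * g⁻¹ = (g * a * g⁻¹)⁻¹ by group]; exact inv_mem ha
      have hRS : R ≤ S.map N.subtype := (Subgroup.closure_le _).mpr fun z hz' =>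
        ⟨⟨z, hz'.1⟩, hz _ (Subtype.ext hz'.2), rfl⟩
      obtain ⟨y, hy⟩ := exists_prime_orderOf_dvd_card' (G := N) 11 h11
      have hR0 : R ≠ ⊥ := fun h => by
        have hm : (y : G) ∈ R := Subgroup.subset_closure
          ⟨y.2, by rw [← Subgroup.coe_pow, ← hy, pow_orderOf_eq_one]; rfl⟩
        rw [h, Subgroup.mem_bot] at hm
        rw [show y = 1 from Subtype.ext hm, orderOf_one] at hy
        omega
      have := hmin' R hRn hR0 (hRS.trans (Subgroup.map_subtype_le S))
      refine eq_top_iff.mpr fun z _ => ?_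
      obtain ⟨z', hz', he⟩ := hRS (this.symm ▸ z.2 : (z : G) ∈ R)
      rwa [← Subtype.ext he]
    · left
      have hS' : Cfsg.IsPiSubgroup {r | r ≠ 11} S := fun r _ hr h' => h (h' ▸ hr)
      have hle : S ≤ Cfsg.piCore {r | r ≠ 11} N := OddOrder.le_piCore hS hS'
      have := OddOrder.piCore_characteristic {r | r ≠ 11} N
      have hb : (Cfsg.piCore {r | r ≠ 11} N).map N.subtype = ⊥ := hnoeleven _ inferInstance fun h' => by
        rw [Subgroup.card_map_of_injective N.subtype_injective] at h'
        exact OddOrder.piCore_isPiSubgroup {r | r ≠ 11} N 11 (by norm_num) h' rfl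
      rw [Subgroup.map_eq_bot_iff_of_injective _ N.subtype_injective] at hb
      exact le_bot_iff.mp (hb ▸ hle)
  have hnc : ¬ IsMulCommutative N := fun h => hns (Group.isSolvable_of_comm (fun a b => h.is_comm.comm a b))
  have hlt : Nat.card N < 7920 := by
    rw [← H.card]
    refine lt_of_le_of_ne (Subgroup.card_le_card_group N) fun he => ht ?_
    exact eq_top_iff.mpr ((Subgroup.eq_top_of_card_eq N he).ge.trans hNN)
  have h660 : Nat.card N = 660 := by
    obtain ⟨e, he⟩ := h11
    have he720 : e ∣ 720 := Nat.dvd_of_mul_dvd_mul_left (by norm_num) (show 11 * e ∣ 11 * 720 from he ▸ hd)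
    have hmem : e ∈ Nat.divisors 720 := Nat.mem_divisors.mpr ⟨he720, by norm_num⟩
    have hdec : ∀ e ∈ Nat.divisors 720, e = 60 ∨ e = 720 ∨ SmallOrder.orderExcluded (11 * e) = true := by
      decide +kernel
    rcases hdec e hmem with h | h | h
    · rw [he, h]
    · rw [he, h] at hlt; norm_num at hlt
    · exact absurd he (SmallOrder.card_ne_of_orderExcluded hnc h)
  obtain ⟨P⟩ := (inferInstance : Nonempty (Sylow 11 G))
  have hP : Nat.card (P : Subgroup G) = 11 := by
    rw [SmallOrder.card_sylow_eq (e := 1) (m := 720) (by rw [H.card]; norm_num) (by norm_num) P, pow_one]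
  have hPN : (P : Subgroup G) ≤ N := by
    intro x hx
    have h1 : orderOf (QuotientGroup.mk x : G ⧸ N) ∣ 11 :=
      (orderOf_map_dvd (QuotientGroup.mk' N) x).trans (hP ▸ (P : Subgroup G).orderOf_dvd_natCard hx)
    rcases (Nat.dvd_prime (by norm_num)).mp h1 with h2 | h2
    · exact (QuotientGroup.eq_one_iff x).mp (orderOf_eq_one_iff.mp h2)
    · exfalso
      have : 11 * 11 ∣ Nat.card G := by
        rw [Subgroup.card_eq_card_quotient_mul_card_subgroup N]
        exact Nat.mul_dvd_mul (h2 ▸ orderOf_dvd_natCard _) h11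
      rw [H.card] at this
      norm_num at this
  -- the Sylow number is twelve
  have hF := Sylow.normalizer_sup_eq_top' P hPN
  set L := Subgroup.normalizer ((P : Subgroup G) : Set G) with hLdef
  have hnot : ¬ N ≤ L := by
    intro hle
    have hnorm : ((P : Subgroup G).subgroupOf N).Normal := by
      refine ⟨fun a ha g => ?_⟩
      rw [Subgroup.mem_subgroupOf] at ha ⊢
      exact (Subgroup.mem_normalizer_iff.mp (hle g.2) a).mp ha
    rcases hsimple.eq_bot_or_eq_top_of_normal _ hnorm with h | h
    · have := congrArg (fun S : Subgroup N => Nat.card S) h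
      simp only [Subgroup.card_bot] at this
      rw [Nat.card_congr (Subgroup.subgroupOfEquivOfLe hPN).toEquiv, hP] at this
      norm_num at this
    · rw [Subgroup.subgroupOf_eq_top] at h
      have := Subgroup.card_dvd_of_le h
      rw [hP, h660] at this
      norm_num at this
  have hcard : Nat.card (Sylow 11 G) = 12 := by
    have hd' : Nat.card (Sylow 11 G) ∣ 660 := by
      rw [P.card_eq_index_normalizer, ← h660]
      exact index_dvd_of_sup_eq_top L N hF
    have hm := card_sylow_modEq_one 11 G
    unfold Nat.ModEq at hm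
    have hne1 : Nat.card (Sylow 11 G) ≠ 1 := fun h => by
      rw [P.card_eq_index_normalizer, Subgroup.index_eq_one] at h
      exact hnot fun g _ => (eq_top_iff.mp h) (Subgroup.mem_top g)
    have hidx : Nat.card (Sylow 11 G) ∣ 720 := by
      have h := P.card_dvd_index
      have h' := (P : Subgroup G).card_mul_index
      rw [hP, H.card] at h'
      rwa [show (P : Subgroup G).index = 720 by omega] at h
    have hd60 : Nat.card (Sylow 11 G) ∣ 60 :=
      (Nat.dvd_gcd hd' hidx).trans (by norm_num)
    have hle := Nat.le_of_dvd (by norm_num) hd60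
    have hpos : 0 < Nat.card (Sylow 11 G) := Nat.card_pos
    generalize Nat.card (Sylow 11 G) = j at hd60 hm hne1 hle hpos
    interval_cases j <;> omega
  have hL : Nat.card L = 660 := by
    have := L.card_mul_index
    have e : Nat.card (Sylow 11 G) = L.index := P.card_eq_index_normalizer
    rw [← e, hcard, H.card] at this
    omega
  -- the centraliser of `P` is `P`
  set C := Subgroup.centralizer ((P : Subgroup G) : Set G)
  have hCP : C ≤ (P : Subgroup G) := by
    intro c hc
    have hfix : ∀ Q : Sylow 11 G, (∀ a ∈ (P : Subgroup G), a • Q = Q) → Q = P := by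
      intro Q hQ
      have : (P : Subgroup G) ≤ Subgroup.normalizer ((Q : Subgroup G) : Set G) := fun a ha =>
        Sylow.smul_eq_iff_mem_normalizer.mp (hQ a ha)
      have hPQ : (P : Subgroup G) ≤ Q := by
        have h : (P : Subgroup G) ⊓ Subgroup.normalizer ((Q : Subgroup G) : Set G) =
            (P : Subgroup G) ⊓ (Q : Subgroup G) := P.2.inf_normalizer_sylow Q
        rw [inf_eq_left.mpr this] at h
        exact inf_eq_left.mp h.symm
      have hQc : Nat.card (Q : Subgroup G) = 11 := by
        rw [SmallOrder.card_sylow_eq (e := 1) (m := 720) (by rw [H.card]; norm_num) (by norm_num) Q, pow_one]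
      exact (Sylow.ext (Subgroup.eq_of_le_of_card_ge hPQ (by rw [hP, hQc]))).symm
    obtain ⟨Q₀, hQ₀⟩ : ∃ Q₀ : Sylow 11 G, Q₀ ≠ P := by
      by_contra h
      push Not at h
      have : Subsingleton (Sylow 11 G) := ⟨fun a b => (h a).trans (h b).symm⟩
      have := Finite.card_le_one_iff_subsingleton.mpr this
      omega
    -- the orbit of `Q₀` under `P` is everything but `P`
    have horb : ∀ Q : Sylow 11 G, Q ≠ P → ∃ a ∈ (P : Subgroup G), a • Q₀ = Q := by
      classical
      have hstab : MulAction.stabilizer (P : Subgroup G) Q₀ = ⊥ := by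
        have hd'' := Subgroup.card_subgroup_dvd_card (MulAction.stabilizer (P : Subgroup G) Q₀)
        rw [hP] at hd''
        rcases (Nat.dvd_prime (by norm_num)).mp hd'' with h | h
        · exact Subgroup.card_eq_one.mp h
        · exfalso
          have ht' := Subgroup.eq_top_of_card_eq _ (h.trans hP.symm)
          exact hQ₀ (hfix Q₀ fun a ha => by
            have hm : (⟨a, ha⟩ : (P : Subgroup G)) ∈ MulAction.stabilizer (P : Subgroup G) Q₀ := by
              rw [ht']; exact Subgroup.mem_top _
            exact MulAction.mem_stabilizer_iff.mp hm)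
      have hPfix : ∀ a : (P : Subgroup G), a • P = P := fun a =>
        Sylow.smul_eq_iff_mem_normalizer.mpr (Subgroup.le_normalizer a.2)
      have hsub : MulAction.orbit (P : Subgroup G) Q₀ ⊆ {Q | Q ≠ P} := by
        rintro _ ⟨a, rfl⟩ he
        exact hQ₀ (MulAction.injective a (he.trans (hPfix a).symm))
      have heq : MulAction.orbit (P : Subgroup G) Q₀ = {Q | Q ≠ P} := by
        refine Set.eq_of_subset_of_ncard_le hsub ?_ (Set.toFinite _)
        rw [← MulAction.index_stabilizer, hstab, Subgroup.index_bot, hP]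
        have hcompl : ({Q | Q ≠ P} : Set (Sylow 11 G)) = {P}ᶜ := rfl
        rw [hcompl, Set.ncard_compl, Set.ncard_singleton, hcard]
      intro Q hQ
      obtain ⟨a, ha⟩ := (heq.symm ▸ hQ : Q ∈ MulAction.orbit (P : Subgroup G) Q₀)
      exact ⟨a, a.2, ha⟩
    have hcP : c • P = P := Sylow.smul_eq_iff_mem_normalizer.mpr (Subgroup.centralizer_le_normalizer _ hc)
    obtain ⟨a, ha, hac⟩ := horb (c • Q₀) fun h => hQ₀ (MulAction.injective c (h.trans hcP.symm))
    have hker : a⁻¹ * c ∈ (MulAction.toPermHom G (Sylow 11 G)).ker := by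
      refine Equiv.ext fun Q => ?_
      show (a⁻¹ * c) • Q = Q
      by_cases hQ : Q = P
      · rw [hQ, mul_smul, hcP, inv_smul_eq_iff]
        exact (Sylow.smul_eq_iff_mem_normalizer.mpr (Subgroup.le_normalizer ha)).symm
      · obtain ⟨b, hb, rfl⟩ := horb Q hQ
        have hcb : c * b = b * c := (mem_centralizer_iff.mp hc b hb).symm
        have : IsCyclic (P : Subgroup G) := isCyclic_of_prime_card hP
        have hab : a * b = b * a :=
          congrArg Subtype.val ((IsCyclic.commGroup (α := (P : Subgroup G))).mul_comm ⟨a, ha⟩ ⟨b, hb⟩)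
        rw [← mul_smul, mul_assoc, hcb, mul_smul, mul_smul, ← hac, ← mul_smul b, ← hab, mul_smul,
          inv_smul_smul]
    set K := (MulAction.toPermHom G (Sylow 11 G)).ker
    have hKL : K ≤ L := fun g hg => Sylow.smul_eq_iff_mem_normalizer.mp
      (show g • P = P from congrArg (fun e : Equiv.Perm (Sylow 11 G) => e P) hg)
    have hK : K = ⊥ := by
      refine hnoeleven K inferInstance fun h' => ?_
      have hKN : K ⊓ N = ⊥ := by
        by_contra hne
        exact hnot ((hmin' _ inferInstance hne inf_le_right).ge.trans (inf_le_left.trans hKL))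
      obtain ⟨z, hz⟩ := exists_prime_orderOf_dvd_card' (G := K) 11 h'
      have hzN : (z : G) ∈ N := by
        rw [← QuotientGroup.eq_one_iff, ← orderOf_eq_one_iff]
        have h1 : orderOf (QuotientGroup.mk (z : G) : G ⧸ N) ∣ 11 :=
          (orderOf_map_dvd (QuotientGroup.mk' N) (z : G)).trans (by rw [Subgroup.orderOf_coe, hz])
        refine ((Nat.dvd_prime (by norm_num)).mp h1).resolve_right fun h2 => ?_
        have : 11 * 11 ∣ Nat.card G := by
          rw [Subgroup.card_eq_card_quotient_mul_card_subgroup N]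
          exact Nat.mul_dvd_mul (h2 ▸ orderOf_dvd_natCard _) h11
        rw [H.card] at this
        norm_num at this
      have hz1 : (z : G) ∈ K ⊓ N := ⟨z.2, hzN⟩
      rw [hKN, Subgroup.mem_bot] at hz1
      rw [show z = 1 from Subtype.ext hz1, orderOf_one] at hz
      omega
    rw [hK, Subgroup.mem_bot, inv_mul_eq_one] at hker
    exact hker ▸ ha
  -- too many elements in the normaliser
  have hzne : ∃ z ∈ (P : Subgroup G), z ≠ 1 := by
    by_contra h
    push Not at h
    have hbot : (P : Subgroup G) = ⊥ := (Subgroup.eq_bot_iff_forall _).mpr h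
    rw [hbot, Subgroup.card_bot] at hP
    omega
  obtain ⟨z, hz, hz1⟩ := hzne
  have hgen : Subgroup.zpowers z = (P : Subgroup G) := by
    refine Subgroup.eq_of_le_of_card_ge ((Subgroup.zpowers_le).mpr hz) ?_
    rw [hP, Nat.card_zpowers]
    have := hP ▸ (P : Subgroup G).orderOf_dvd_natCard hz
    rcases (Nat.dvd_prime (by norm_num)).mp this with h | h
    · exact absurd (orderOf_eq_one_iff.mp h) hz1
    · omega
  have hinj : Nat.card (L ⧸ C.subgroupOf L) ≤ Nat.card (P : Subgroup G) := by
    refine Nat.card_le_card_of_injective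
      (fun q => ⟨(q.out : G) * z * (q.out : G)⁻¹, (Subgroup.mem_normalizer_iff.mp q.out.2 z).mp hz⟩) fun a b h => ?_
    have h' : (a.out : G) * z * (a.out : G)⁻¹ = (b.out : G) * z * (b.out : G)⁻¹ := congrArg Subtype.val h
    rw [← a.out_eq', ← b.out_eq', QuotientGroup.eq, Subgroup.mem_subgroupOf, mem_centralizer_iff]
    intro m hm
    rw [SetLike.mem_coe, ← hgen] at hm
    obtain ⟨k, rfl⟩ := Subgroup.mem_zpowers_iff.mp hm
    have hc : Commute z ((a.out⁻¹ * b.out : L) : G) := by
      show z * ((a.out : G)⁻¹ * (b.out : G)) = ((a.out : G)⁻¹ * (b.out : G)) * z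
      calc z * ((a.out : G)⁻¹ * (b.out : G))
          = (a.out : G)⁻¹ * ((a.out : G) * z * (a.out : G)⁻¹) * (b.out : G) := by group
        _ = _ := by rw [h']; group
    exact (hc.zpow_left k).eq
  have hCle : Nat.card (C.subgroupOf L) ≤ 11 := by
    rw [← hP]
    exact Nat.card_le_card_of_injective (fun c => (⟨(c.1 : G), hCP c.2⟩ : (P : Subgroup G)))
      fun a b h => Subtype.ext (Subtype.ext (congrArg (fun x : (P : Subgroup G) => (x : G)) h))
  have := Subgroup.card_eq_card_quotient_mul_card_subgroup (C.subgroupOf L)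
  rw [hP] at hinj
  have : Nat.card L ≤ 11 * 11 := this ▸ Nat.mul_le_mul hinj hCle
  omega

end CfsgLib.PrimeGraph.Order7920
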