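import Cfsg.Agent.Lib.PrimeGraph.OrthOddBridge
import Cfsg.Agent.Lib.PrimeGraph.Family

/-! Necessary conditions for adjacency in the prime graph of the odd dimensional orthogonal groups. -/

set_option autoImplicit false

open Polynomial Module
open QuadraticMap (polar polarBilin)

namespace CfsgLib.PrimeGraph

open CfsgLib.Classical.Quad CfsgLib.OrthSpinor
open CfsgLib.Spectrum.OrthOddMixed (linHom linHom_apply linHom_injective det_linHom sign_of_semiregular)

variable {F : Type*} [Field F] [Fintype F] {n : ℕ}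

omit [Fintype F] in
theorem finrank_std : finrank F (Unit ⊕ (Fin n ⊕ Fin n) → F) = n + n + 1 := by simp; omega

/-- An element of prime order whose moved space has dimension at least `2n`. -/
theorem fix_data (h2 : (2 : F) ≠ 0) {r : ℕ} (hrF : (r : F) ≠ 0)
    (h : ↥(Cfsg.isometryGroup F ⇑(stdForm n F))) (hM : linHom (stdForm n F) h ^ r = 1)
    {l : Unit ⊕ (Fin n ⊕ Fin n) → F} (hl0 : l ≠ 0) (hl : act (stdForm n F) h l = l)
    (hdim : n + n ≤ finrank F (LinearMap.range (linHom (stdForm n F) h - 1))) :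
    finrank F (LinearMap.range (linHom (stdForm n F) h - 1)) = n + n ∧
      (∀ x, ∃ y ∈ LinearMap.range (linHom (stdForm n F) h - 1), ∃ b : F, x = y + b • l) ∧
      (∀ x, act (stdForm n F) h x = x → ∃ b : F, x = b • l) ∧ stdForm n F l ≠ 0 := by
  set M := linHom (stdForm n F) h with hMdef
  set R := LinearMap.range (M - 1) with hR
  have hlR : l ∉ R := fun hmem => hl0 (eq_zero_of_fixed_of_mem_range hrF hM hl hmem)
  have hlt : finrank F R < finrank F ↥(R ⊔ F ∙ l) :=
    Submodule.finrank_lt_finrank_of_lt (lt_of_le_of_ne le_sup_left fun h =>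
      hlR (h ▸ Submodule.mem_sup_right (Submodule.mem_span_singleton_self l)))
  have hle := Submodule.finrank_le (R ⊔ F ∙ l)
  rw [finrank_std] at hle
  have htop : R ⊔ F ∙ l = ⊤ := Submodule.eq_top_of_finrank_eq (by rw [finrank_std]; omega)
  have hdec : ∀ x, ∃ y ∈ R, ∃ b : F, x = y + b • l := fun x => by
    obtain ⟨y, hy, z, hz, rfl⟩ := Submodule.mem_sup.1 (htop ▸ Submodule.mem_top : x ∈ R ⊔ F ∙ l)
    obtain ⟨b, rfl⟩ := Submodule.mem_span_singleton.1 hz
    exact ⟨y, hy, b, rfl⟩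
  refine ⟨by omega, hdec, fun x hx => ?_, fun hQl => ?_⟩
  · obtain ⟨y, hy, b, rfl⟩ := hdec x
    refine ⟨b, ?_⟩
    rw [eq_zero_of_fixed_of_mem_range hrF hM (v := y) ?_ hy, zero_add]
    rw [act_add, act_smul, hl] at hx
    exact add_right_cancel hx
  · refine hl0 ((stdForm_nondeg n h2).1 l fun x => ?_)
    obtain ⟨y, ⟨z, rfl⟩, b, rfl⟩ := hdec x
    have h1 : polar (⇑(stdForm n F)) l ((M - 1) z) = 0 := by
      rw [LinearMap.sub_apply, Module.End.one_apply, hMdef, linHom_apply, QuadraticMap.polar_sub_right]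
      nth_rewrite 1 [← hl]
      rw [polar_act, sub_self]
    rw [QuadraticMap.polarBilin_apply_apply, QuadraticMap.polar_add_right, h1, QuadraticMap.polar_smul_right,
      CfsgLib.OrthSpinor.polar_self', hQl, mul_zero, smul_zero, add_zero]

theorem linHom_pow_eq_one_iff (g : ↥(Cfsg.isometryGroup F ⇑(stdForm n F))) (k : ℕ) :
    linHom (stdForm n F) g ^ k = 1 ↔ g ^ k = 1 := by
  rw [← map_pow, map_eq_one_iff _ linHom_injective]

variable (p : ℕ) [Fact p.Prime] [CharP F p]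
include p

/-- The moved space of an element of prime order. -/
theorem two_eta_le_orth (h2 : (2 : F) ≠ 0) {r k η : ℕ} (hr : r.Prime) (hr2 : r ≠ 2) (hrp : r ≠ p)
    (hk : k = orderOf ((Fintype.card F : ℕ) : ZMod r)) (hη : IsEta k η)
    {g : ↥(Cfsg.isometryGroup F ⇑(stdForm n F))} (hgr : g ^ r = 1) (hg1 : g ≠ 1) :
    2 * η ≤ finrank F (LinearMap.range (linHom (stdForm n F) g - 1)) :=
  two_eta_le hr hr2 (cast_ne_zero p hr hrp) ((linHom_pow_eq_one_iff g r).2 hgr)
    (fun h => hg1 ((map_eq_one_iff _ linHom_injective).1 h))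
    (orth_inverse_condition (stdForm_nondeg n h2) g hr.one_le hgr) hk hη

theorem eta_le_orth (h2 : (2 : F) ≠ 0) {r k η : ℕ} (hr : r.Prime) (hr2 : r ≠ 2) (hrp : r ≠ p)
    (hk : k = orderOf ((Fintype.card F : ℕ) : ZMod r)) (hη : IsEta k η)
    {g : ↥(Cfsg.isometryGroup F ⇑(stdForm n F))} (hgr : r ∣ orderOf g) : η ≤ n := by
  haveI : Finite ↥(Cfsg.isometryGroup F ⇑(stdForm n F)) := inferInstance
  obtain ⟨y, hy⟩ := CfsgLib.Spectrum.exists_orderOf_eq_of_dvd_orderOf g hgr
  have h1 := two_eta_le_orth p h2 hr hr2 hrp hk hη (g := y) (hy ▸ pow_orderOf_eq_one y)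
    (fun h => hr.ne_one (by rw [← hy, h, orderOf_one]))
  have h2' := Submodule.finrank_le (LinearMap.range (linHom (stdForm n F) y - 1))
  rw [finrank_std] at h2'
  omega

/-- Two odd primes different from the characteristic. -/
theorem odd_pair_orth (h2 : (2 : F) ≠ 0) {r s k l ηk ηl : ℕ} (hr : r.Prime) (hs : s.Prime) (hr2 : r ≠ 2)
    (hs2 : s ≠ 2) (hrp : r ≠ p) (hsp : s ≠ p) (hrs : r ≠ s)
    (hk : k = orderOf ((Fintype.card F : ℕ) : ZMod r)) (hl : l = orderOf ((Fintype.card F : ℕ) : ZMod s))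
    (hηk : IsEta k ηk) (hηl : IsEta l ηl) (hkl : ηk ≤ ηl)
    {g : ↥(Cfsg.isometryGroup F ⇑(stdForm n F))} (hg : orderOf g = r * s) :
    ηl ≤ n ∧ (ηk + ηl ≤ n ∨ ∃ t, Odd t ∧ l = k * t) := by
  refine ⟨eta_le_orth p h2 hs hs2 hsp hl hηl (hg ▸ dvd_mul_left s r), or_iff_not_imp_left.2 fun hlt => ?_⟩
  set A := linHom (stdForm n F) g
  have hN : g ^ (r * s) = 1 := hg ▸ pow_orderOf_eq_one g
  have hne : ∀ {a}, 0 < a → a < r * s → g ^ a ≠ 1 := fun ha hlt h =>
    absurd (Nat.le_of_dvd ha (hg ▸ orderOf_dvd_of_pow_eq_one h)) (not_le.2 hlt)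
  have hnd := stdForm_nondeg (F := F) n h2
  refine eta_add_le_or' (A := A) hr hs hr2 hs2 (cast_ne_zero p hr hrp) (cast_ne_zero p hs hsp)
    finrank_std.le ((linHom_pow_eq_one_iff g _).2 hN) ?_ ?_
    (orth_inverse_condition hnd g (Nat.mul_pos hr.pos hs.pos) hN) ?_ ?_ hk hl hηk hηl hkl (not_le.1 hlt)
  · rw [Ne, linHom_pow_eq_one_iff]
    exact hne hr.pos (lt_mul_of_one_lt_right hr.pos hs.one_lt)
  · rw [Ne, linHom_pow_eq_one_iff]
    exact hne hs.pos (lt_mul_of_one_lt_left hs.pos hr.one_lt)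
  · rw [← map_pow (linHom (stdForm n F)) g s]
    exact orth_inverse_condition hnd (g ^ s) hr.one_le (by rw [← pow_mul, mul_comm, hN])
  · rw [← map_pow (linHom (stdForm n F)) g r]
    exact orth_inverse_condition hnd (g ^ r) hs.one_le (by rw [← pow_mul, hN])

/-- An odd prime and the characteristic. -/
theorem char_pair_orth (h2 : (2 : F) ≠ 0) (hn : 2 ≤ n) {r k η : ℕ} (hr : r.Prime) (hr2 : r ≠ 2) (hrp : r ≠ p)
    (hk : k = orderOf ((Fintype.card F : ℕ) : ZMod r)) (hη : IsEta k η)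
    {g : ↥(Cfsg.isometryGroup F ⇑(stdForm n F))} (hgΩ : g ∈ Cfsg.Omega F ⇑(stdForm n F))
    (hg : orderOf g = r * p) : η < n := by
  by_contra hlt
  have hp : p.Prime := Fact.out
  have hnd := stdForm_nondeg (F := F) n h2
  have hrF : (r : F) ≠ 0 := cast_ne_zero p hr hrp
  have hN : g ^ (r * p) = 1 := hg ▸ pow_orderOf_eq_one g
  have hηn := eta_le_orth p h2 hr hr2 hrp hk hη (hg ▸ dvd_mul_right r p)
  have hpr : g ^ p ≠ 1 := fun h =>
    absurd (Nat.le_of_dvd hp.pos (hg ▸ orderOf_dvd_of_pow_eq_one h)) (not_le.2 (lt_mul_of_one_lt_left hp.pos hr.one_lt))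
  have hrr : g ^ r ≠ 1 := fun h =>
    absurd (Nat.le_of_dvd hr.pos (hg ▸ orderOf_dvd_of_pow_eq_one h)) (not_le.2 (lt_mul_of_one_lt_right hr.pos hp.one_lt))
  have hMr : (g ^ p) ^ r = 1 := by rw [← pow_mul, mul_comm, hN]
  obtain ⟨l, hl0, hl⟩ := exists_fixed h2 hnd (by simp [parity_simps]) g
    ((mem_Omega_iff h2 hnd (by simp; omega) one_ne_zero g).1 hgΩ).1
  have hlpow : ∀ j, act (stdForm n F) (g ^ j) l = l := fun j => by
    induction j with
    | zero => simp
    | succ j ih => rw [pow_succ, act_mul, hl, ih]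
  have hdim := two_eta_le_orth p h2 hr hr2 hrp hk hη hMr hpr
  obtain ⟨hRdim, hdec, -, -⟩ := fix_data h2 hrF (g ^ p) ((linHom_pow_eq_one_iff _ r).2 hMr) hl0 (hlpow p)
    (by omega)
  set E := linHom (stdForm n F) (g ^ r) - 1 with hE
  haveI : Nontrivial (Module.End F (Unit ⊕ (Fin n ⊕ Fin n) → F)) := inferInstance
  haveI : CharP (Module.End F (Unit ⊕ (Fin n ⊕ Fin n) → F)) p :=
    charP_of_injective_algebraMap (algebraMap F _).injective p
  have hEp : E ^ p = 0 := by
    rw [hE, sub_pow_char_of_commute p (Commute.one_right _), one_pow, ← map_pow, ← pow_mul, hN, map_one,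
      sub_self]
  have hzero := nilpotent_eq_zero (N := p) hr hr2 hrF ((linHom_pow_eq_one_iff _ r).2 hMr)
    (fun h => hpr ((map_eq_one_iff _ linHom_injective).1 h))
    (orth_inverse_condition hnd (g ^ p) hr.one_le hMr)
    (((Commute.pow_pow_self g p r).map (linHom (stdForm n F))).sub_right (Commute.one_right _)) hEp hk hη
    (by omega)
  refine hrr ((map_eq_one_iff _ linHom_injective).1 (sub_eq_zero.1 (LinearMap.ext fun x => ?_ : E = 0)))
  obtain ⟨y, hy, b, rfl⟩ := hdec x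
  have hEl : E l = 0 := by
    rw [hE, LinearMap.sub_apply, Module.End.one_apply, linHom_apply, hlpow, sub_self]
  rw [map_add, map_smul, hzero y hy, hEl, smul_zero, add_zero, LinearMap.zero_apply]

theorem card_level_std (hn : 1 ≤ n) {c : F} (hc : c ≠ 0) (h2 : (2 : F) ≠ 0) :
    Nat.card {x : Unit ⊕ (Fin n ⊕ Fin n) → F // stdForm n F x = c} =
      Fintype.card F ^ n * (Fintype.card F ^ n + 1) ∨
    Nat.card {x : Unit ⊕ (Fin n ⊕ Fin n) → F // stdForm n F x = c} =
      Fintype.card F ^ n * (Fintype.card F ^ n - 1) := by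
  rw [stdForm_coe, card_level_model (oddEquiv n F) (oddEquiv_spec n), card_level_hypForm,
    Nat.card_fun, Nat.card_unique (α := Unit), pow_one, Nat.card_eq_fintype_card (α := F)]
  obtain ⟨Q, hQ⟩ : ∃ Q, Fintype.card F ^ n = Q + 1 :=
    ⟨Fintype.card F ^ n - 1, (Nat.sub_add_cancel (Nat.one_le_pow _ _ Fintype.card_pos)).symm⟩
  have hsucc : Fintype.card F ^ (n - 1) * Fintype.card F = Fintype.card F ^ n := by
    rw [← pow_succ, Nat.sub_add_cancel hn]
  by_cases hsq : IsSquare c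
  · left
    obtain ⟨s, rfl⟩ := hsq
    have hs : s ≠ 0 := fun h => hc (by rw [h, zero_mul])
    have h2s : Nat.card {w : Unit → F // lineForm F w = s * s} = 2 := by
      rw [Nat.card_eq_two_iff]
      refine ⟨⟨fun _ => s, by rw [lineForm_apply]⟩, ⟨fun _ => -s, by rw [lineForm_apply, neg_mul_neg]⟩, ?_, ?_⟩
      · intro h
        have h' := congrFun (congrArg Subtype.val h) ()
        exact hs ((mul_eq_zero.1 (show (2 : F) * s = 0 by linear_combination h')).resolve_left h2)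
      · rw [Set.eq_univ_iff_forall]
        rintro ⟨w, hw⟩
        rw [lineForm_apply] at hw
        rcases mul_self_eq_mul_self_iff.1 hw with h | h
        · exact Or.inl (Subtype.ext (funext fun _ => h))
        · exact Or.inr (Subtype.ext (funext fun _ => h))
    rw [h2s, mul_assoc, hsucc, hQ, Nat.add_sub_cancel]
    ring
  · right
    haveI : IsEmpty {w : Unit → F // lineForm F w = c} := ⟨fun w => hsq ⟨w.1 (), by rw [← lineForm_apply]; exact w.2.symm⟩⟩
    rw [Nat.card_of_isEmpty, mul_zero, add_zero, mul_assoc, hsucc, mul_comm]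

/-- An odd prime and two, in the extremal case. -/
theorem two_pair_orth (h2 : (2 : F) ≠ 0) (hn : 2 ≤ n) {r k η : ℕ} (hr : r.Prime) (hr2 : r ≠ 2) (hrp : r ≠ p)
    (hk : k = orderOf ((Fintype.card F : ℕ) : ZMod r)) (hη : IsEta k η)
    {g : ↥(Cfsg.isometryGroup F ⇑(stdForm n F))} (hgΩ : g ∈ Cfsg.Omega F ⇑(stdForm n F))
    (hg : orderOf g = 2 * r) :
    η < n ∨ (η = n ∧ (4 * r ∣ Fintype.card F ^ n + 1 ∨ 4 * r ∣ Fintype.card F ^ n - 1)) := by
  rcases lt_or_ge η n with hlt | hge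
  · exact Or.inl hlt
  right
  have hηn : η = n := le_antisymm (eta_le_orth p h2 hr hr2 hrp hk hη (hg ▸ dvd_mul_left r 2)) hge
  refine ⟨hηn, ?_⟩
  subst hηn
  classical
  have hp : p.Prime := Fact.out
  have hnd := stdForm_nondeg (F := F) η h2
  have hι : 2 ≤ Fintype.card (Unit ⊕ (Fin η ⊕ Fin η)) := by simp; omega
  have hrF : (r : F) ≠ 0 := cast_ne_zero p hr hrp
  have h2rF : ((2 * r : ℕ) : F) ≠ 0 := by rw [Nat.cast_mul, Nat.cast_two]; exact mul_ne_zero h2 hrF
  have hN : g ^ (2 * r) = 1 := hg ▸ pow_orderOf_eq_one g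
  have hgr : g ^ r ≠ 1 := fun h => by
    have := Nat.le_of_dvd hr.pos (hg ▸ orderOf_dvd_of_pow_eq_one h)
    have := hr.pos
    omega
  have hg2 : g ^ 2 ≠ 1 := fun h => by
    have := Nat.le_of_dvd two_pos (hg ▸ orderOf_dvd_of_pow_eq_one h)
    have := hr.two_le
    omega
  obtain ⟨hdet, -⟩ := (mem_Omega_iff h2 hnd hι one_ne_zero g).1 hgΩ
  obtain ⟨l, hl0, hl⟩ := exists_fixed h2 hnd (by simp [parity_simps]) g hdet
  have hlpow : ∀ j, act (stdForm η F) (g ^ j) l = l := fun j => by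
    induction j with
    | zero => simp
    | succ j ih => rw [pow_succ, act_mul, hl, ih]
  have h2r : (g ^ 2) ^ r = 1 := by rw [← pow_mul, hN]
  obtain ⟨hRdim, hdec, hfix, hQl⟩ := fix_data h2 hrF (g ^ 2) ((linHom_pow_eq_one_iff _ r).2 h2r) hl0 (hlpow 2)
    (by have := two_eta_le_orth p h2 hr hr2 hrp hk hη h2r hg2; omega)
  rw [map_pow] at hRdim hdec
  set M := linHom (stdForm η F) g with hMdef
  have hM : M ^ (r * 2) = 1 := by rw [mul_comm, hMdef, linHom_pow_eq_one_iff, hN]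
  obtain ⟨f, hf, hfd, hf1⟩ := exists_factor M (by rwa [mul_comm] : ((r * 2 : ℕ) : F) ≠ 0) hM (X ^ 2 - 1) (by
    rw [map_sub, map_pow, aeval_X, map_one, sub_ne_zero, hMdef, Ne, linHom_pow_eq_one_iff]
    exact hg2)
  have hval := fun (c : F) (hc : c * c = 1) (hj : f ∣ X ^ r - C c) =>
    pow_apply_eq (t := 2) hr hr2 rfl (Nat.mul_pos hr.pos two_pos) hM
      (orth_inverse_condition hnd g (Nat.mul_pos hr.pos two_pos) (by rw [mul_comm, hN])) hk hη hf hfd hf1
      (by omega) hc hj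
  have hneg : ∀ y ∈ LinearMap.range (M ^ 2 - 1), (M ^ r) y = -y := by
    have hprod : f ∣ (X ^ r - C 1) * (X ^ r - C (-1)) := by
      refine (dvd_X_pow_sub_one hM hfd).trans (dvd_of_eq ?_)
      rw [C_1, map_neg, C_1, pow_mul]; ring
    rcases hf.prime.dvd_mul.1 hprod with h | h
    · exfalso
      refine hgr ((linHom_pow_eq_one_iff g r).1 (LinearMap.ext fun x => ?_))
      obtain ⟨y, hy, b, rfl⟩ := hdec x
      rw [← hMdef, map_add, map_smul, hval 1 (one_mul 1) h y hy, one_smul, hMdef, ← map_pow, linHom_apply,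
        hlpow, Module.End.one_apply]
    · intro y hy
      rw [hval (-1) (by ring) h y hy, neg_one_smul]
  have hfree : ∀ x, (∀ b : F, x ≠ b • l) → ∀ j : ℕ, act (stdForm η F) (g ^ j) x = x → 2 * r ∣ j := by
    intro x hx j hj
    by_contra hnd2
    by_cases hrj : r ∣ j
    · obtain ⟨i, rfl⟩ := hrj
      have hi : Odd i := Nat.not_even_iff_odd.1 fun ⟨a, ha⟩ => hnd2 ⟨a, by rw [ha]; ring⟩
      obtain ⟨y, hy, b, rfl⟩ := hdec x
      have hy' : act (stdForm η F) (g ^ (r * i)) y = -y := by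
        obtain ⟨a, rfl⟩ := hi
        rw [mul_add, mul_one, pow_add, ← mul_assoc, mul_comm r 2, pow_mul, hN, one_pow, one_mul,
          ← linHom_apply, map_pow, ← hMdef, hneg y hy]
      rw [act_add, act_smul, hlpow, hy'] at hj
      have h0 : y = 0 := by
        have hyy : (2 : F) • y = 0 := by
          rw [two_smul]
          nth_rewrite 1 [← add_right_cancel hj]
          exact neg_add_cancel y
        exact (smul_eq_zero.1 hyy).resolve_left h2
      exact hx b (by rw [h0, zero_add])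
    · obtain ⟨m, hm⟩ := exists_pow_eq_self_of_coprime (x := g ^ 2) (n := j) (by
        rw [orderOf_pow_of_dvd two_ne_zero (hg ▸ dvd_mul_right 2 r), hg, Nat.mul_div_cancel_left _ two_pos]
        exact (hr.coprime_iff_not_dvd.2 hrj).symm)
      obtain ⟨b, hb⟩ := hfix x (by
        rw [← hm, ← pow_mul, ← pow_mul, show 2 * (j * m) = j * (2 * m) by ring]
        induction (2 * m) with
        | zero => simp
        | succ i ih => rw [mul_add, mul_one, pow_add, act_mul, hj, ih])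
      exact hx b hb
  obtain ⟨ν, hν, hns⟩ := exists_nonsquare' (F := F) h2
  set c := ν * stdForm η F l with hc
  have hc0 : c ≠ 0 := mul_ne_zero hν hQl
  have hline : ∀ x : {x // stdForm η F x = c}, ∀ b : F, (x : Unit ⊕ (Fin η ⊕ Fin η) → F) ≠ b • l := by
    rintro ⟨x, hx⟩ b rfl
    rw [map_smul', hc] at hx
    exact hns ⟨b, (mul_right_cancel₀ hQl hx).symm⟩
  set π := normPerm (Q := stdForm η F) c g with hπ
  have hiff : ∀ x, ∀ j : ℕ, (π ^ j) x = x ↔ 2 * r ∣ j := by
    intro x j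
    rw [Subtype.ext_iff, CfsgLib.Spectrum.OrthOddMixed.normPerm_pow_apply]
    refine ⟨hfree x.1 (hline x) j, fun h => ?_⟩
    rw [orderOf_dvd_iff_pow_eq_one.1 (hg ▸ h), act_one]
  obtain ⟨cc, hcard, hsign⟩ := sign_of_semiregular π (even_two_mul r) fun x _ j => hiff x j
  have hθ : theta (Q := stdForm η F) c g = Equiv.Perm.sign π := by unfold theta; rfl
  have hsupp : π.support = Finset.univ := Finset.eq_univ_iff_forall.2 fun x => Equiv.Perm.mem_support.2 fun h => by
    have := Nat.le_of_dvd one_pos ((hiff x 1).1 (by rwa [pow_one]))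
    have := hr.pos
    omega
  rw [((mem_Omega_iff h2 hnd hι hc0 g).1 hgΩ).2, hsign] at hθ
  have hev : Even cc := (neg_one_pow_eq_one_iff_even (show (-1 : ℤˣ) ≠ 1 by decide)).1 hθ.symm
  rw [hsupp, Finset.card_univ, ← Nat.card_eq_fintype_card] at hcard
  obtain ⟨a, ha⟩ := hev
  have h4 : 4 * r ∣ Nat.card {x : Unit ⊕ (Fin η ⊕ Fin η) → F // stdForm η F x = c} :=
    ⟨a, by rw [hcard, ha]; ring⟩
  obtain ⟨e, -, hq⟩ := FiniteField.card F p
  have hp2 : p ≠ 2 := by rintro rfl; exact h2 (by exact_mod_cast CharP.cast_eq_zero F 2)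
  have hco : (4 * r).Coprime (Fintype.card F ^ η) := by
    rw [hq]
    refine (Nat.Coprime.pow_right _ ?_).pow_right _
    rw [Nat.coprime_comm, hp.coprime_iff_not_dvd]
    intro h
    rcases hp.dvd_mul.1 h with h | h
    · exact hp2 ((Nat.prime_dvd_prime_iff_eq hp Nat.prime_two).1 (hp.dvd_of_dvd_pow (show p ∣ 2 ^ 2 from h)))
    · exact hrp ((Nat.prime_dvd_prime_iff_eq hp hr).1 h).symm
  rcases card_level_std p (n := η) (by omega) hc0 h2 with h | h <;> rw [h] at h4
  · exact Or.inl (hco.dvd_of_dvd_mul_left h4)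
  · exact Or.inr (hco.dvd_of_dvd_mul_left h4)

end CfsgLib.PrimeGraph
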