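import Cfsg.Agent.Lib.PrimeGraph.SympBound
import Cfsg.Agent.Lib.PrimeGraph.Linear

/-! Symplectic elements from algebras with an alternating form, in any characteristic. -/

set_option autoImplicit false

open Polynomial Module CfsgLib.Spectrum

namespace CfsgLib.PrimeGraph

variable {F : Type*} [Field F]

/-- A commutative algebra whose involution and functional give a nondegenerate alternating form. -/
structure AltForm {A : Type*} [CommRing A] [Algebra F A] (st : A →ₐ[F] A) (lam : A →ₗ[F] F) : Prop where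
  alt : ∀ z, lam (z * st z) = 0
  nondeg : ∀ z : A, z ≠ 0 → ∃ y, lam (z * st y) ≠ 0

theorem AltForm.prod {A B : Type*} [CommRing A] [Algebra F A] [CommRing B] [Algebra F B]
    {st : A →ₐ[F] A} {lam : A →ₗ[F] F} {st' : B →ₐ[F] B} {lam' : B →ₗ[F] F}
    (h : AltForm st lam) (h' : AltForm st' lam') : AltForm (AlgHom.prodMap st st') (lam.coprod lam') where
  alt z := by
    obtain ⟨a, b⟩ := z
    show lam (a * st a) + lam' (b * st' b) = 0
    rw [h.alt, h'.alt, add_zero]
  nondeg z hz := by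
    obtain ⟨a, b⟩ := z
    by_cases ha : a = 0
    · obtain ⟨y, hy⟩ := h'.nondeg b (fun hb => hz (by rw [ha, hb]; rfl))
      exact ⟨(0, y), show lam (a * st 0) + lam' (b * st' y) ≠ 0 by simpa using hy⟩
    · obtain ⟨y, hy⟩ := h.nondeg a ha
      exact ⟨(y, 0), show lam (a * st y) + lam' (b * st' 0) ≠ 0 by simpa using hy⟩

theorem exists_psp_of_altForm {n : ℕ} (hn : 1 ≤ n) {A : Type*} [CommRing A]
    [Algebra F A] [Module.Finite F A] (hfin : Module.finrank F A = n + n) {st : A →ₐ[F] A}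
    {lam : A →ₗ[F] F} (h : AltForm st lam) (a : A) (ha : a * st a = 1) :
    ∃ g : Cfsg.PSp n F, ∀ k : ℕ, g ^ k = 1 ↔ a ^ k = 1 ∨ a ^ k = -1 := by
  let B : LinearMap.BilinForm F A := LinearMap.mk₂ F (fun x y => lam (x * st y))
    (fun x x' y => by rw [add_mul, map_add])
    (fun c x y => by rw [smul_mul_assoc, map_smul])
    (fun x y y' => by rw [map_add, mul_add, map_add])
    (fun c x y => by rw [map_smul st, mul_smul_comm, map_smul])
  have hB : ∀ x y, B x y = lam (x * st y) := fun x y => rfl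
  have halt : B.IsAlt := fun x => h.alt x
  have hsw : ∀ x y, B y x = - B x y := fun x y => (LinearMap.IsAlt.neg halt x y).symm
  obtain ⟨m, k, b, hmk, hspan, hb1, hb2, hb3, hb4⟩ :=
    CfsgLib.Forms.exists_symplectic_family B halt (n + n) ⊤ (by rw [finrank_top, hfin])
  have hli : LinearIndependent F b :=
    linearIndependent_of_top_le_span_of_card_eq_finrank hspan.ge (by simp [hfin, hmk])
  have hk : k = 0 := by
    by_contra hk
    let j : Fin k := ⟨0, Nat.pos_of_ne_zero hk⟩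
    obtain ⟨y, hy⟩ := h.nondeg (b (.inr j)) (hli.ne_zero _)
    exact hy (hb4 j y Submodule.mem_top)
  obtain rfl : m = n := by omega
  subst hk
  let e : Fin m ⊕ Fin m ≃ (Fin m ⊕ Fin m) ⊕ Fin 0 := (Equiv.sumEmpty _ _).symm
  let bb : Module.Basis (Fin m ⊕ Fin m) F A :=
    (Module.Basis.mk hli hspan.ge).reindex e.symm
  have hbb : ∀ i, bb i = b (.inl i) := fun i => by simp [bb, e]
  have hform : ∀ x y, Cfsg.sympForm m F (bb.repr x) (bb.repr y) = - B x y := by
    intro x y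
    rw [CfsgLib.Linear.Symp.sympForm_eq_sum]
    conv_rhs => rw [← bb.sum_repr x, ← bb.sum_repr y]
    simp only [Fintype.sum_sum_type, hbb, map_add, map_sum, map_smul, LinearMap.add_apply,
      LinearMap.coe_sum, Finset.sum_apply, LinearMap.smul_apply, smul_eq_mul, hb1, hb2, hb3,
      mul_zero, Finset.sum_const_zero, add_zero, zero_add]
    have hb1' : ∀ i j : Fin m, B (b (.inl (.inr i))) (b (.inl (.inl j))) = if i = j then -1 else 0 := by
      intro i j
      rw [hsw (b (.inl (.inl j))), hb1]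
      rcases eq_or_ne i j with rfl | hij
      · simp
      · simp [hij, Ne.symm hij]
    simp only [hb1', mul_ite, mul_one, mul_zero, mul_neg, Finset.sum_ite_eq, Finset.sum_ite_eq',
      Finset.mem_univ, if_true, Finset.sum_neg_distrib, Finset.sum_sub_distrib]
    rw [show (∑ i : Fin m, bb.repr y (.inr i) * bb.repr x (.inl i)) =
      ∑ i : Fin m, bb.repr x (.inl i) * bb.repr y (.inr i) from
      Finset.sum_congr rfl fun i _ => mul_comm _ _]
    have hcomm : ∀ (u v : Fin m → F), ∑ i, u i * v i = ∑ i, v i * u i :=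
      fun u v => Finset.sum_congr rfl fun i _ => mul_comm _ _
    rw [hcomm (fun i => bb.repr y (.inl i))]
    ring
  let M := Algebra.leftMulMatrix bb a
  have hMem : M ∈ Matrix.symplecticGroup (Fin m) F := by
    refine CfsgLib.Linear.Symp.mem_of_form_mulVec fun u v => ?_
    obtain ⟨x, rfl⟩ : ∃ x, (bb.repr x : Fin m ⊕ Fin m → F) = u :=
      ⟨bb.equivFun.symm u, bb.equivFun.apply_symm_apply u⟩
    obtain ⟨y, rfl⟩ : ∃ y, (bb.repr y : Fin m ⊕ Fin m → F) = v :=
      ⟨bb.equivFun.symm v, bb.equivFun.apply_symm_apply v⟩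
    rw [Algebra.leftMulMatrix_mulVec_repr, Algebra.leftMulMatrix_mulVec_repr, hform, hform, hB, hB,
      map_mul st, show a * x * (st a * st y) = (a * st a) * (x * st y) by ring, ha, one_mul]
  refine ⟨QuotientGroup.mk (⟨M, hMem⟩ : Matrix.symplecticGroup (Fin m) F), fun k => ?_⟩
  rw [pspMk_pow_eq_one_iff hn]
  show M ^ k = 1 ∨ M ^ k = -1 ↔ _
  have hinj := Algebra.leftMulMatrix_injective bb
  rw [show M ^ k = Algebra.leftMulMatrix bb (a ^ k) from (map_pow _ _ _).symm,
    show (1 : Matrix (Fin m ⊕ Fin m) (Fin m ⊕ Fin m) F) = Algebra.leftMulMatrix bb 1 from (map_one _).symm,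
    ← map_neg, hinj.eq_iff, hinj.eq_iff]

/-- A field with a nontrivial involution. -/
theorem exists_altForm_field {K : Type*} [Field K] [Algebra F K] (st : K →ₐ[F] K)
    (hinv : ∀ z, st (st z) = z) (w : K) (hw : st w ≠ w) : ∃ lam : K →ₗ[F] F, AltForm st lam := by
  obtain ⟨μ, hμ⟩ : ∃ μ : Module.Dual F K, μ (w - st w) ≠ 0 := by
    by_contra h
    push Not at h
    exact hw (sub_eq_zero.1 ((Module.forall_dual_apply_eq_zero_iff F _).mp h)).symm
  refine ⟨μ.comp (LinearMap.id - st.toLinearMap), fun z => ?_, fun z hz => ⟨st (z⁻¹ * w), ?_⟩⟩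
  · show μ (z * st z - st (z * st z)) = 0
    rw [map_mul, hinv, mul_comm (st z) z, sub_self, map_zero]
  · show μ (z * st (st (z⁻¹ * w)) - st (z * st (st (z⁻¹ * w)))) ≠ 0
    rwa [hinv, ← mul_assoc, mul_inv_cancel₀ hz, one_mul]

/-- A doubled algebra with a nondegenerate functional. -/
theorem exists_altForm_double {L : Type*} [CommRing L] [Algebra F L] (ν : L →ₗ[F] F)
    (hν : ∀ z : L, z ≠ 0 → ∃ y, ν (z * y) ≠ 0) :
    ∃ lam : L × L →ₗ[F] F, AltForm ((AlgHom.snd F L L).prod (AlgHom.fst F L L)) lam := by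
  refine ⟨ν.coprod (-ν), fun z => ?_, fun z hz => ?_⟩
  · obtain ⟨a, b⟩ := z
    simp [mul_comm a b]
  · obtain ⟨a, b⟩ := z
    by_cases ha : a = 0
    · obtain ⟨y, hy⟩ := hν b (fun hb => hz (by rw [ha, hb]; rfl))
      exact ⟨(y, 0), by simpa using hy⟩
    · obtain ⟨y, hy⟩ := hν a ha
      exact ⟨(0, y), by simpa using hy⟩

/-- The dual numbers. -/
theorem exists_altForm_dual :
    ∃ (st : AdjoinRoot (X ^ 2 : F[X]) →ₐ[F] AdjoinRoot (X ^ 2 : F[X])) (lam : AdjoinRoot (X ^ 2 : F[X]) →ₗ[F] F),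
      AltForm st lam ∧ (1 + AdjoinRoot.root (X ^ 2 : F[X])) * st (1 + AdjoinRoot.root (X ^ 2 : F[X])) = 1 := by
  set A := AdjoinRoot (X ^ 2 : F[X])
  set t : A := AdjoinRoot.root (X ^ 2 : F[X]) with ht
  have hm : (X ^ 2 : F[X]).Monic := monic_X_pow 2
  have htt : t * t = 0 := by
    rw [← pow_two, ht, ← AdjoinRoot.mk_X, ← map_pow, AdjoinRoot.mk_self]
  let st : A →ₐ[F] A := AdjoinRoot.liftAlgHom (X ^ 2 : F[X]) (Algebra.ofId F A) (-t) (by
    rw [eval₂_X_pow, neg_sq, pow_two, htt])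
  have hst : st t = -t := AdjoinRoot.liftAlgHom_root _ _ _ _
  let lam : A →ₗ[F] F := (lcoeff F 1).comp (AdjoinRoot.modByMonicHom hm)
  have hlam : ∀ c d : F, lam (algebraMap F A c + algebraMap F A d * t) = d := by
    intro c d
    have e : algebraMap F A c + algebraMap F A d * t = AdjoinRoot.mk _ (C c + C d * X) := by
      simp [t, A, AdjoinRoot.algebraMap_eq]
    rw [e]
    show (AdjoinRoot.modByMonicHom hm (AdjoinRoot.mk (X ^ 2 : F[X]) (C c + C d * X))).coeff 1 = d
    rw [AdjoinRoot.modByMonicHom_mk, (modByMonic_eq_self_iff hm).2]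
    · simp [coeff_C]
    · rw [degree_X_pow]
      exact lt_of_le_of_lt (by compute_degree) (by norm_num : (1 : WithBot ℕ) < 2)
  have hform : ∀ z : A, ∃ c d : F, z = algebraMap F A c + algebraMap F A d * t := by
    intro z
    obtain ⟨P, rfl⟩ := AdjoinRoot.mk_surjective z
    refine ⟨(P %ₘ X ^ 2).coeff 0, (P %ₘ X ^ 2).coeff 1, ?_⟩
    have h1 : AdjoinRoot.mk (X ^ 2 : F[X]) P = AdjoinRoot.mk _ (P %ₘ X ^ 2) := by
      rw [AdjoinRoot.mk_eq_mk, modByMonic_eq_sub_mul_div]
      exact ⟨P /ₘ X ^ 2, by ring⟩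
    have h2 : (P %ₘ X ^ 2) = C ((P %ₘ X ^ 2).coeff 0) + C ((P %ₘ X ^ 2).coeff 1) * X := by
      rw [add_comm]
      refine eq_X_add_C_of_natDegree_le_one ?_
      have := natDegree_modByMonic_lt P hm (fun h => by simpa using congrArg natDegree h)
      rw [natDegree_X_pow] at this
      omega
    rw [h1]
    conv_lhs => rw [h2]
    simp [t, A, AdjoinRoot.algebraMap_eq]
  refine ⟨st, lam, ⟨fun z => ?_, fun z hz => ?_⟩, ?_⟩
  · obtain ⟨c, d, rfl⟩ := hform z
    have e : (algebraMap F A c + algebraMap F A d * t) * st (algebraMap F A c + algebraMap F A d * t) =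
        algebraMap F A (c * c) + algebraMap F A 0 * t := by
      rw [map_add st, map_mul st, AlgHom.commutes, AlgHom.commutes, hst, map_mul, map_zero]
      linear_combination (-(algebraMap F A d * algebraMap F A d)) * htt
    rw [e, hlam]
  · obtain ⟨c, d, rfl⟩ := hform z
    by_cases hc : c = 0
    · subst hc
      refine ⟨1, ?_⟩
      rw [map_one, mul_one, hlam]
      rintro rfl
      exact hz (by simp)
    · refine ⟨t, ?_⟩
      have e : (algebraMap F A c + algebraMap F A d * t) * st t = algebraMap F A 0 + algebraMap F A (-c) * t := by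
        rw [hst, map_zero, map_neg]
        linear_combination (-(algebraMap F A d)) * htt
      rw [e, hlam]
      exact neg_ne_zero.2 hc
  · rw [map_add, map_one, hst]
    linear_combination (-1 : A) * htt

variable [Fintype F] (p : ℕ) [Fact p.Prime] [CharP F p]
include p

/-- A torus element of order `N` in dimension `2η`. -/
theorem exists_torus {N η : ℕ} (hη : 1 ≤ η) (hco : N.Coprime 2) (hN1 : N ≠ 1)
    (hN : N ∣ Fintype.card F ^ η + 1 ∨ N ∣ Fintype.card F ^ η - 1) :
    ∃ (A : Type) (_ : CommRing A) (_ : Algebra F A) (_ : Module.Finite F A) (_ : Nontrivial A)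
      (st : A →ₐ[F] A) (lam : A →ₗ[F] F) (a : A), Module.finrank F A = η + η ∧
      AltForm st lam ∧ a * st a = 1 ∧ orderOf a = N := by
  set q := Fintype.card F
  rcases hN with hN | hN
  · haveI : NeZero (η + η) := ⟨by omega⟩
    let K := FiniteField.Extension F p (η + η)
    haveI : Finite K := Module.finite_of_finite F
    haveI : Fintype K := Fintype.ofFinite K
    have hK : Nat.card K = q ^ η * q ^ η := by
      rw [← pow_add, FiniteField.natCard_extension, Nat.card_eq_fintype_card]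
    obtain ⟨ζ, hζ⟩ := exists_unit_orderOf (K := K) (N := N) (by
      rw [hK]
      refine hN.trans ⟨q ^ η - 1, ?_⟩
      rw [← Nat.sq_sub_sq, one_pow, pow_two])
    let φ : K →ₐ[F] K := (FiniteField.frobeniusAlgHom F K) ^ η
    have hφ : ∀ z : K, φ z = z ^ (q ^ η) := fun z => by
      simp [φ, FiniteField.coe_frobeniusAlgHom, AlgHom.coe_pow, pow_iterate, q]
    have hinv : ∀ z, φ (φ z) = z := fun z => by
      rw [hφ, hφ, ← pow_mul, ← hK, Nat.card_eq_fintype_card, FiniteField.pow_card]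
    have hmul : (ζ : K) * φ (ζ : K) = 1 := by
      rw [hφ, ← pow_succ', ← Units.val_pow_eq_pow_val, orderOf_dvd_iff_pow_eq_one.1 (hζ ▸ hN), Units.val_one]
    obtain ⟨lam, hlam⟩ := exists_altForm_field φ hinv (ζ : K) (fun h => by
      rw [h] at hmul
      have h2 : ζ ^ 2 = 1 := Units.ext (by rw [Units.val_pow_eq_pow_val, pow_two, hmul, Units.val_one])
      exact hN1 (Nat.dvd_one.1 (hco ▸ Nat.dvd_gcd dvd_rfl (hζ ▸ orderOf_dvd_of_pow_eq_one h2))))
    exact ⟨K, inferInstance, inferInstance, inferInstance, inferInstance, φ, lam, (ζ : K),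
      FiniteField.finrank_extension F p (η + η), hlam, hmul, by rw [orderOf_units, hζ]⟩
  · haveI : NeZero η := ⟨by omega⟩
    let K := FiniteField.Extension F p η
    haveI : Finite K := Module.finite_of_finite F
    obtain ⟨ζ, hζ⟩ := exists_unit_orderOf (K := K) (N := N) (by
      rwa [FiniteField.natCard_extension, Nat.card_eq_fintype_card])
    obtain ⟨ν, hν⟩ : ∃ ν : Module.Dual F K, ν 1 ≠ 0 := by
      by_contra h
      push Not at h
      exact one_ne_zero ((Module.forall_dual_apply_eq_zero_iff F _).mp h)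
    obtain ⟨lam, hlam⟩ := exists_altForm_double ν fun z hz => ⟨z⁻¹, by rwa [mul_inv_cancel₀ hz]⟩
    refine ⟨K × K, inferInstance, inferInstance, inferInstance, inferInstance, _, lam,
      ((ζ : K), ((ζ⁻¹ : Kˣ) : K)), ?_, hlam, ?_, ?_⟩
    · rw [Module.finrank_prod, FiniteField.finrank_extension]
    · simp [Prod.ext_iff]
    · rw [Prod.orderOf_mk, orderOf_units, orderOf_units, orderOf_inv, Nat.lcm_self, hζ]

omit [Fintype F] [CharP F p] [Fact p.Prime] p in
/-- The filling part. -/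
theorem exists_fill (m : ℕ) :
    ∃ lam : (Fin m → F) × (Fin m → F) →ₗ[F] F,
      AltForm ((AlgHom.snd F (Fin m → F) (Fin m → F)).prod (AlgHom.fst F (Fin m → F) (Fin m → F))) lam := by
  classical
  refine exists_altForm_double (∑ i, LinearMap.proj i) fun z hz => ?_
  obtain ⟨i, hi⟩ := Function.ne_iff.1 hz
  refine ⟨Pi.single i 1, ?_⟩
  simpa [Pi.single_apply] using hi

theorem torus_hyp {r k η : ℕ} (hk : k = orderOf ((Fintype.card F : ℕ) : ZMod r)) (hr : r.Prime)
    (hη : IsEta k η) : r ∣ Fintype.card F ^ η + 1 ∨ r ∣ Fintype.card F ^ η - 1 := by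
  have hq := Fintype.card_pos (α := F)
  have h1 := (dvd_pow_sub_one_iff (r := r) hq k).2 (hk ▸ dvd_rfl)
  rcases hη with ⟨-, h⟩ | ⟨-, h⟩
  · exact Or.inr (h ▸ h1)
  · rw [← h, mul_comm, pow_mul] at h1
    have e : (Fintype.card F ^ η) ^ 2 - 1 = (Fintype.card F ^ η + 1) * (Fintype.card F ^ η - 1) := by
      rw [← Nat.sq_sub_sq, one_pow]
    rw [e] at h1
    exact hr.dvd_mul.1 h1

omit p in
theorem eta_pos {r k η : ℕ} (hr : r.Prime) (hq : ¬ r ∣ Fintype.card F)
    (hk : k = orderOf ((Fintype.card F : ℕ) : ZMod r)) (hη : IsEta k η) : 1 ≤ η := by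
  haveI := Fact.mk hr
  have hne : ((Fintype.card F : ℕ) : ZMod r) ≠ 0 := by rwa [Ne, ZMod.natCast_eq_zero_iff]
  have : 0 < k := hk ▸ orderOf_pos_iff.2 (isOfFinOrder_iff_pow_eq_one.2 ⟨r - 1, by have := hr.two_le; omega,
      ZMod.pow_card_sub_one_eq_one hne⟩)
  rcases hη with ⟨-, h⟩ | ⟨-, h⟩ <;> omega

theorem not_dvd_card {r : ℕ} (hr : r.Prime) (hrp : r ≠ p) : ¬ r ∣ Fintype.card F := by
  obtain ⟨a, -, hcard⟩ := FiniteField.card F p
  rw [hcard]
  exact fun h => hrp ((Nat.prime_dvd_prime_iff_eq hr Fact.out).1 (hr.dvd_of_dvd_pow h))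

theorem psp_mul_char_mem {n r k η : ℕ} (hr : r.Prime) (hr2 : r ≠ 2) (hrp : r ≠ p)
    (hk : k = orderOf ((Fintype.card F : ℕ) : ZMod r)) (hη : IsEta k η) (hηn : η < n) :
    r * p ∈ Set.range (orderOf : Cfsg.PSp n F → ℕ) := by
  have hη1 := eta_pos hr (not_dvd_card p hr hrp) hk hη
  have hp : p.Prime := Fact.out
  obtain ⟨A, _, _, _, _, st, lam, a, hfinA, hA, ha, horda⟩ :=
    exists_torus (F := F) p hη1 (Nat.coprime_two_right.2 (hr.odd_of_ne_two hr2)) hr.ne_one (torus_hyp p hk hr hη)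
  obtain ⟨hfinU, hordu, ⟨ev, hev⟩, -⟩ := truncated_one_add_root (F := F) p (show 1 ≤ 2 by norm_num)
  rw [show Nat.clog p 2 = 1 from Nat.clog_eq_one le_rfl hp.two_le, pow_one] at hordu
  obtain ⟨st', lam', hU, hu⟩ := exists_altForm_dual (F := F)
  obtain ⟨lam'', hW⟩ := exists_fill (F := F) (n - η - 1)
  set B := AdjoinRoot (X ^ 2 : F[X])
  haveI : Module.Finite F B := (AdjoinRoot.powerBasis (pow_ne_zero _ X_ne_zero)).finite
  set w : B := 1 + AdjoinRoot.root (X ^ 2 : F[X])
  have hfin' : Module.finrank F (A × B × ((Fin (n - η - 1) → F) × (Fin (n - η - 1) → F))) = n + n := by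
    rw [Module.finrank_prod, Module.finrank_prod, Module.finrank_prod, hfinA, hfinU, Module.finrank_fin_fun]
    omega
  obtain ⟨g, hg⟩ := exists_psp_of_altForm (n := n) (A := A × B × ((Fin (n - η - 1) → F) × (Fin (n - η - 1) → F)))
    (by omega) hfin' (hA.prod (hU.prod hW)) (a, w, 1) (by
      show (a, w, (1 : (Fin (n - η - 1) → F) × (Fin (n - η - 1) → F))) * (st a, st' w, _) = 1
      rw [Prod.mk_mul_mk, Prod.mk_mul_mk, ha, hu, one_mul]; rfl)
  refine ⟨g, orderOf_eq_of_pow_iff g fun j => (hg j).trans ?_⟩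
  constructor
  · intro h
    have hlast : a ^ j = 1 ∧ w ^ j = 1 := by
      rcases h with h | h <;> simp only [Prod.pow_mk, Prod.ext_iff, Prod.fst_one, Prod.snd_one,
        Prod.fst_neg, Prod.snd_neg] at h
      · exact ⟨h.1, h.2.1⟩
      · have h1 := congrArg ev h.2.1
        rw [map_pow, hev, one_pow, map_neg, map_one] at h1
        have eA : (-1 : A) = 1 := by simpa using congrArg (algebraMap F A) h1.symm
        have eB : (-1 : B) = 1 := by simpa using congrArg (algebraMap F B) h1.symm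
        exact ⟨h.1.trans eA, h.2.1.trans eB⟩
    exact ((Nat.coprime_primes hr hp).2 hrp).mul_dvd_of_dvd_of_dvd (horda ▸ orderOf_dvd_of_pow_eq_one hlast.1)
      (hordu ▸ orderOf_dvd_of_pow_eq_one hlast.2)
  · intro h
    left
    rw [Prod.pow_mk, Prod.pow_mk, orderOf_dvd_iff_pow_eq_one.1 (horda ▸ (dvd_mul_right r p).trans h),
      orderOf_dvd_iff_pow_eq_one.1 (hordu ▸ (dvd_mul_left p r).trans h), one_pow]
    rfl

theorem psp_mul_mem_of_torus {n N d : ℕ} (hd : 1 ≤ d) (hdn : d ≤ n) (hodd : Odd N) (hN1 : N ≠ 1)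
    (hN : N ∣ Fintype.card F ^ d + 1 ∨ N ∣ Fintype.card F ^ d - 1) :
    N ∈ Set.range (orderOf : Cfsg.PSp n F → ℕ) := by
  obtain ⟨A, _, _, _, _, st, lam, a, hfinA, hA, ha, horda⟩ :=
    exists_torus (F := F) p hd (Nat.coprime_two_right.2 hodd) hN1 hN
  obtain ⟨lam'', hW⟩ := exists_fill (F := F) (n - d)
  have hfin' : Module.finrank F (A × ((Fin (n - d) → F) × (Fin (n - d) → F))) = n + n := by
    rw [Module.finrank_prod, Module.finrank_prod, hfinA, Module.finrank_fin_fun]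
    omega
  obtain ⟨g, hg⟩ := exists_psp_of_altForm (n := n) (A := A × ((Fin (n - d) → F) × (Fin (n - d) → F)))
    (by omega) hfin' (hA.prod hW) (a, 1) (by
      show (a, (1 : (Fin (n - d) → F) × (Fin (n - d) → F))) * (st a, _) = 1
      rw [Prod.mk_mul_mk, ha, one_mul]; rfl)
  refine ⟨g, orderOf_eq_of_pow_iff g fun j => (hg j).trans ?_⟩
  constructor
  · intro h
    rcases h with h | h <;> simp only [Prod.pow_mk, Prod.ext_iff, Prod.fst_one, Prod.snd_one,
      Prod.fst_neg, Prod.snd_neg] at h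
    · exact horda ▸ orderOf_dvd_of_pow_eq_one h.1
    · have h2 : (-1 : A) ^ N = 1 := by rw [← h.1, ← pow_mul, mul_comm, pow_mul, ← horda, pow_orderOf_eq_one, one_pow]
      rw [hodd.neg_one_pow] at h2
      exact horda ▸ orderOf_dvd_of_pow_eq_one (h.1.trans h2)
  · intro h
    left
    rw [Prod.pow_mk, orderOf_dvd_iff_pow_eq_one.1 (horda ▸ h), one_pow]
    rfl

theorem psp_mul_mem_of_add_le {n r s ηk ηl : ℕ} (hr : Odd r) (hs : Odd s) (hr1 : r ≠ 1) (hs1 : s ≠ 1)
    (hco : r.Coprime s) (hk1 : 1 ≤ ηk) (hl1 : 1 ≤ ηl) (hn : ηk + ηl ≤ n)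
    (hrd : r ∣ Fintype.card F ^ ηk + 1 ∨ r ∣ Fintype.card F ^ ηk - 1)
    (hsd : s ∣ Fintype.card F ^ ηl + 1 ∨ s ∣ Fintype.card F ^ ηl - 1) :
    r * s ∈ Set.range (orderOf : Cfsg.PSp n F → ℕ) := by
  obtain ⟨A, _, _, _, _, st, lam, a, hfinA, hA, ha, horda⟩ :=
    exists_torus (F := F) p hk1 (Nat.coprime_two_right.2 hr) hr1 hrd
  obtain ⟨B, _, _, _, _, st', lam', b, hfinB, hB, hb, hordb⟩ :=
    exists_torus (F := F) p hl1 (Nat.coprime_two_right.2 hs) hs1 hsd
  obtain ⟨lam'', hW⟩ := exists_fill (F := F) (n - ηk - ηl)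
  have hfin' : Module.finrank F (A × B × ((Fin (n - ηk - ηl) → F) × (Fin (n - ηk - ηl) → F))) = n + n := by
    rw [Module.finrank_prod, Module.finrank_prod, Module.finrank_prod, hfinA, hfinB, Module.finrank_fin_fun]
    omega
  obtain ⟨g, hg⟩ := exists_psp_of_altForm (n := n) (A := A × B × ((Fin (n - ηk - ηl) → F) × (Fin (n - ηk - ηl) → F)))
    (by omega) hfin' (hA.prod (hB.prod hW)) (a, b, 1) (by
      show (a, b, (1 : (Fin (n - ηk - ηl) → F) × (Fin (n - ηk - ηl) → F))) * (st a, st' b, _) = 1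
      rw [Prod.mk_mul_mk, Prod.mk_mul_mk, ha, hb, one_mul]; rfl)
  refine ⟨g, orderOf_eq_of_pow_iff g fun j => (hg j).trans ?_⟩
  constructor
  · intro h
    have hlast : a ^ j = 1 ∧ b ^ j = 1 := by
      rcases h with h | h <;> simp only [Prod.pow_mk, Prod.ext_iff, Prod.fst_one, Prod.snd_one,
        Prod.fst_neg, Prod.snd_neg] at h
      · exact ⟨h.1, h.2.1⟩
      · have e1 : (-1 : A) ^ r = 1 := by rw [← h.1, ← pow_mul, mul_comm, pow_mul, ← horda, pow_orderOf_eq_one, one_pow]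
        have e2 : (-1 : B) ^ s = 1 := by rw [← h.2.1, ← pow_mul, mul_comm, pow_mul, ← hordb, pow_orderOf_eq_one, one_pow]
        rw [hr.neg_one_pow] at e1
        rw [hs.neg_one_pow] at e2
        exact ⟨h.1.trans e1, h.2.1.trans e2⟩
    exact hco.mul_dvd_of_dvd_of_dvd (horda ▸ orderOf_dvd_of_pow_eq_one hlast.1)
      (hordb ▸ orderOf_dvd_of_pow_eq_one hlast.2)
  · intro h
    left
    rw [Prod.pow_mk, Prod.pow_mk, orderOf_dvd_iff_pow_eq_one.1 (horda ▸ (dvd_mul_right r s).trans h),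
      orderOf_dvd_iff_pow_eq_one.1 (hordb ▸ (dvd_mul_left s r).trans h), one_pow]
    rfl

/-- The criterion for the characteristic. -/
theorem psp_mul_char_notMem_iff (n : ℕ) (hn : 2 ≤ n) (r : ℕ) (hr : r.Prime) (hr2 : r ≠ 2) (hrp : r ≠ p)
    (k ηk : ℕ) (hk : k = orderOf ((Fintype.card F : ℕ) : ZMod r))
    (hηk : (Odd k ∧ ηk = k) ∨ (Even k ∧ 2 * ηk = k)) :
    (r * p ∉ Set.range (orderOf : Cfsg.PSp n F → ℕ)) ↔ n - 1 < ηk := by
  constructor
  · intro h
    by_contra hc
    exact h (psp_mul_char_mem p hr hr2 hrp hk hηk (by omega))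
  · intro h hx
    have := eta_lt_of_mul_char_mem p hn hr hr2 hrp hk hηk hx
    omega

/-- The criterion for two primes. -/
theorem psp_mul_notMem_iff (n : ℕ) (hn : 2 ≤ n) (r s : ℕ) (hr : r.Prime) (hs : s.Prime) (hr2 : r ≠ 2)
    (hs2 : s ≠ 2) (hrp : r ≠ p) (hsp : s ≠ p) (hrs : r ≠ s) (hsG : s ∣ Nat.card (Cfsg.PSp n F))
    (k l ηk ηl : ℕ) (hk : k = orderOf ((Fintype.card F : ℕ) : ZMod r)) (hl : l = orderOf ((Fintype.card F : ℕ) : ZMod s))
    (hηk : (Odd k ∧ ηk = k) ∨ (Even k ∧ 2 * ηk = k)) (hηl : (Odd l ∧ ηl = l) ∨ (Even l ∧ 2 * ηl = l))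
    (hkl : ηk ≤ ηl) :
    (r * s ∉ Set.range (orderOf : Cfsg.PSp n F → ℕ)) ↔ (n < ηk + ηl ∧ ¬ ∃ t : ℕ, Odd t ∧ l = k * t) := by
  have hk1 := eta_pos hr (not_dvd_card p hr hrp) hk hηk
  have hl1 := eta_pos hs (not_dvd_card p hs hsp) hl hηl
  have hln := eta_le_of_dvd p (by omega) hs hs2 hsp hsG hl hηl
  have hco : r.Coprime s := (Nat.coprime_primes hr hs).2 hrs
  have hrd := torus_hyp (F := F) p hk hr hηk
  have hsd := torus_hyp (F := F) p hl hs hηl
  constructor
  · intro h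
    refine ⟨?_, ?_⟩
    · by_contra hc
      exact h (psp_mul_mem_of_add_le p (hr.odd_of_ne_two hr2) (hs.odd_of_ne_two hs2) hr.ne_one hs.ne_one hco
        hk1 hl1 (by omega) hrd hsd)
    · rintro ⟨t, ht, hlt⟩
      refine h (psp_mul_mem_of_torus p hl1 hln ((hr.odd_of_ne_two hr2).mul (hs.odd_of_ne_two hs2))
        (fun e => hr.ne_one (Nat.eq_one_of_mul_eq_one_right e)) ?_)
      have hq := Fintype.card_pos (α := F)
      rcases hηl with ⟨hol, he⟩ | ⟨hel, he⟩
      · right
        rw [he]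
        exact hco.mul_dvd_of_dvd_of_dvd ((dvd_pow_sub_one_iff hq l).2 (hk ▸ ⟨t, hlt⟩))
          ((dvd_pow_sub_one_iff hq l).2 (hl ▸ dvd_rfl))
      · left
        have hplus : ∀ {u m η : ℕ}, u.Prime → m = orderOf ((Fintype.card F : ℕ) : ZMod u) → 2 * η = m → 1 ≤ η →
            u ∣ Fintype.card F ^ η + 1 := by
          intro u m η hu hm hmη hη1
          rcases torus_hyp (F := F) p hm hu (Or.inr ⟨⟨η, by omega⟩, hmη⟩) with h | h
          · exact h
          · rw [dvd_pow_sub_one_iff hq, ← hm] at h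
            have := Nat.le_of_dvd (by omega) h
            omega
        have hek : 2 * ηk = k := by
          rcases hηk with ⟨hok, -⟩ | ⟨-, h⟩
          · exact absurd hel (Nat.not_even_iff_odd.2 (hlt ▸ hok.mul ht))
          · exact h
        have h5 : ηl = ηk * t := by
          have : 2 * ηl = 2 * (ηk * t) := by rw [he, hlt, ← hek, mul_assoc]
          omega
        refine hco.mul_dvd_of_dvd_of_dvd ?_ (hplus hs hl he hl1)
        have h6 := ht.nat_add_dvd_pow_add_pow (Fintype.card F ^ ηk) 1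
        rw [one_pow, ← pow_mul, ← h5] at h6
        exact (hplus hr hk hek hk1).trans h6
  · rintro ⟨h1, h2⟩ hx
    exact h2 (eta_add_le_or_of_mem p hn hr hs hr2 hs2 hrp hsp hk hl hηk hηl hkl hx h1)

end CfsgLib.PrimeGraph
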