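import Cfsg.Agent.Lib.PrimeGraph.OrthOddBridge
import Cfsg.Agent.Lib.PrimeGraph.SympConstr

/-! Elements of given order in the odd dimensional orthogonal and the symplectic simple groups. -/

set_option autoImplicit false

open Polynomial Module CfsgLib.Spectrum

namespace CfsgLib.PrimeGraph

universe u

variable {F : Type u} [Field F] [Fintype F]

theorem mem_range_orderOf_of_dvd {G : Type*} [Group G] [Finite G] (g : G) {N : ℕ}
    (h : ∀ k, g ^ k = 1 → N ∣ k) : N ∈ Set.range (orderOf : G → ℕ) := by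
  obtain ⟨y, hy⟩ := exists_orderOf_eq_of_dvd_orderOf g (h _ (pow_orderOf_eq_one g))
  exact ⟨y, hy⟩

theorem psp_mem_of_algebra (h2 : (2 : F) ≠ 0) {n N : ℕ} (hn : 1 ≤ n) {A : Type*} [CommRing A] [Algebra F A]
    [Module.Finite F A] (hfin : finrank F A = n + n) {st : A →+* A} {lam : A →ₗ[F] F}
    (h : IsTwistForm 1 (-1 : F) st lam) (a : A) (ha : a * st a = 1)
    (hk : ∀ k, a ^ k = 1 ∨ a ^ k = -1 → N ∣ k) : N ∈ Set.range (orderOf : Cfsg.PSp n F → ℕ) := by
  haveI : Finite (Cfsg.PSp n F) := Finite.of_surjective _ QuotientGroup.mk_surjective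
  obtain ⟨g, hg⟩ := exists_psp_of_twistForm hn h2 hfin h a ha
  exact mem_range_orderOf_of_dvd g fun k hk' => hk k ((hg k).1 hk')

theorem omega_mem_of_algebra (h2 : (2 : F) ≠ 0) {n N : ℕ} (hn : 2 ≤ n) {A : Type*} [CommRing A] [Algebra F A]
    [Module.Finite F A] (hfin : finrank F A = n + n + 1) {st : A →+* A} {lam : A →ₗ[F] F}
    (h : IsTwistForm 1 (1 : F) st lam) (a : A) (ha : a * st a = 1)
    (hk : ∀ k, a ^ (2 * k) = 1 → N ∣ k) :
    N ∈ Set.range (orderOf : Cfsg.POmega F (Cfsg.quadFormOdd n F) → ℕ) := by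
  obtain ⟨g, hg⟩ := exists_isometry_of_symForm h2 hfin h a ha
  have hy : g ^ 2 ∈ Cfsg.Omega F ⇑(stdForm n F) :=
    sq_mem_Omega h2 (stdForm_nondeg n h2) (by simp; omega) g
  obtain ⟨y, hy'⟩ := mem_range_orderOf_of_dvd (⟨g ^ 2, hy⟩ : ↥(Cfsg.Omega F ⇑(stdForm n F))) (N := N) fun k hk' => by
    have h1 : (g ^ 2) ^ k = 1 := congrArg Subtype.val hk'
    rw [← pow_mul, hg] at h1
    exact hk k h1
  exact (pomega_range_iff n hn h2 N).2 ⟨y.1, y.2, by rw [Subgroup.orderOf_coe, hy']⟩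

variable (p : ℕ) [Fact p.Prime] [CharP F p]

include p in
theorem exists_sym_torus (h2 : (2 : F) ≠ 0) {d T : ℕ} (hd : 1 ≤ d)
    (hT : T ∣ Fintype.card F ^ d + 1 ∨ T ∣ Fintype.card F ^ d - 1) :
    ∃ (A : Type) (_ : CommRing A) (_ : Algebra F A) (_ : Module.Finite F A) (_ : Nontrivial A)
      (st : A →+* A) (lam : A →ₗ[F] F) (a : A), Module.finrank F A = d + d ∧
      IsTwistForm 1 (1 : F) st lam ∧ a * st a = 1 ∧ orderOf a = T := by
  obtain ⟨c, hc, hq⟩ := card_eq_pow (F := F) p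
  rcases hT with hT | hT
  · haveI : NeZero (d + d) := ⟨by omega⟩
    let K := FiniteField.Extension F p (d + d)
    haveI : CharP K p := charP_of_injective_algebraMap (algebraMap F K).injective p
    haveI : Fintype K := Fintype.ofFinite K
    haveI : Module.Finite F K := .of_finite
    have hK : Nat.card K = Fintype.card F ^ d * Fintype.card F ^ d := by
      rw [← pow_add, FiniteField.natCard_extension, Nat.card_eq_fintype_card]
    have hpm : p ^ (c * d) = Fintype.card F ^ d := by rw [hq, ← pow_mul]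
    obtain ⟨ζ, hζ⟩ := exists_unit_orderOf (K := K) (N := T) (by
      rw [hK]
      refine hT.trans ⟨Fintype.card F ^ d - 1, ?_⟩
      rw [← Nat.sq_sub_sq, one_pow, pow_two])
    obtain ⟨lam, hlam⟩ := exists_twistForm_field (F := F) p 0 (K := K) (c * d)
      (fun x => by rw [hpm, FiniteField.pow_card_pow, pow_zero, pow_one])
      (fun x => by rw [hpm, ← pow_mul, ← hK, Nat.card_eq_fintype_card, FiniteField.pow_card])
      1 1 one_ne_zero (by simp) (one_mul 1)
    rw [pow_zero] at hlam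
    refine ⟨K, inferInstance, inferInstance, inferInstance, inferInstance, _, lam, (ζ : K),
      FiniteField.finrank_extension F p (d + d), hlam, ?_, by rw [orderOf_units, hζ]⟩
    rw [iterateFrobenius_def, hpm, ← pow_succ', ← Units.val_pow_eq_pow_val,
      orderOf_dvd_iff_pow_eq_one.1 (hζ ▸ hT), Units.val_one]
  · haveI : NeZero d := ⟨by omega⟩
    let K := FiniteField.Extension F p d
    haveI : CharP K p := charP_of_injective_algebraMap (algebraMap F K).injective p
    haveI : Fintype K := Fintype.ofFinite K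
    haveI : Module.Finite F K := .of_finite
    obtain ⟨ζ, hζ⟩ := exists_unit_orderOf (K := K) (N := T) (by
      rwa [FiniteField.natCard_extension, Nat.card_eq_fintype_card])
    obtain ⟨st, lam, hlam, hst⟩ := exists_twistForm_double p 0 (F := F) (K := K) 0 0
      (fun x => by simp) (fun x => by simp) (fun x => by simp) 1 (one_mul 1) (by simp)
    rw [pow_zero] at hlam
    refine ⟨K × K, inferInstance, inferInstance, inferInstance, inferInstance, st, lam,
      ((ζ : K), ((ζ⁻¹ : Kˣ) : K)),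
      by rw [Module.finrank_prod, FiniteField.finrank_extension], hlam, ?_, ?_⟩
    · rw [hst, Prod.mk_mul_mk]
      simp
    · rw [Prod.orderOf_mk, orderOf_units, orderOf_units, orderOf_inv, Nat.lcm_self, hζ]

theorem exists_sym_odd (h2 : (2 : F) ≠ 0) (m : ℕ) :
    ∃ (A : Type u) (_ : CommRing A) (_ : Algebra F A) (_ : Module.Finite F A) (st : A →+* A)
      (lam : A →ₗ[F] F) (w : A), finrank F A = m + m + 1 ∧ IsTwistForm 1 (1 : F) st lam ∧
      w * st w = 1 ∧ (1 ≤ m → ∀ k, w ^ k = 1 → p ∣ k) := by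
  obtain ⟨hfin, hord, -, -⟩ := truncated_one_add_root (F := F) p (show 1 ≤ m + m + 1 by omega)
  have := exists_twistForm_truncated (F := F) p 0 (fun x => by simp) (show 1 ≤ m + m + 1 by omega) 1
    (one_mul 1) (by simp) ⟨1, by
      rw [show m + m + 1 - 1 = 2 * m by omega, pow_mul, neg_one_sq, one_pow, one_mul, one_mul, pow_zero,
        pow_one]
      intro h; exact h2 (by linear_combination h)⟩
  rw [pow_zero] at this
  obtain ⟨st, lam, hl, hw⟩ := this
  refine ⟨_, inferInstance, inferInstance,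
    (AdjoinRoot.powerBasis (pow_ne_zero (m + m + 1) (X_ne_zero (R := F)))).finite, st, lam,
    1 + AdjoinRoot.root (X ^ (m + m + 1) : F[X]), hfin, hl, hw, fun hm k hk => ?_⟩
  refine dvd_trans ?_ (orderOf_dvd_of_pow_eq_one hk)
  rw [hord]
  exact dvd_pow_self p (Nat.clog_pos (Fact.out : p.Prime).one_lt (by omega)).ne'

include p in
/-- One torus. -/
theorem omega_mem_torus (h2 : (2 : F) ≠ 0) {n d T N : ℕ} (hn : 2 ≤ n) (hd : 1 ≤ d) (hdn : d ≤ n)
    (hT : T ∣ Fintype.card F ^ d + 1 ∨ T ∣ Fintype.card F ^ d - 1) (hk : ∀ k, T ∣ 2 * k → N ∣ k) :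
    N ∈ Set.range (orderOf : Cfsg.POmega F (Cfsg.quadFormOdd n F) → ℕ) := by
  obtain ⟨A, _, _, _, _, st, lam, a, hA, hl, ha, hord⟩ := exists_sym_torus (F := F) p h2 hd hT
  obtain ⟨B, _, _, _, st', lam', w, hB, hl', hw, -⟩ := exists_sym_odd (F := F) p h2 (n - d)
  refine omega_mem_of_algebra h2 hn (A := A × B) (by rw [Module.finrank_prod, hA, hB]; omega)
    (hl.prod hl' fun x y => by simp) (a, 1) ?_ fun k h => hk k ?_
  · show (a, (1 : B)) * (st a, st' 1) = 1
    rw [Prod.mk_mul_mk, ha, map_one, one_mul]; rfl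
  · rw [← hord]
    exact orderOf_dvd_of_pow_eq_one (by simpa using congrArg Prod.fst h)

include p in
/-- Two tori. -/
theorem omega_mem_two_tori (h2 : (2 : F) ≠ 0) {n d e T U N : ℕ} (hn : 2 ≤ n) (hd : 1 ≤ d) (he : 1 ≤ e)
    (hde : d + e ≤ n) (hT : T ∣ Fintype.card F ^ d + 1 ∨ T ∣ Fintype.card F ^ d - 1)
    (hU : U ∣ Fintype.card F ^ e + 1 ∨ U ∣ Fintype.card F ^ e - 1)
    (hk : ∀ k, T ∣ 2 * k → U ∣ 2 * k → N ∣ k) :
    N ∈ Set.range (orderOf : Cfsg.POmega F (Cfsg.quadFormOdd n F) → ℕ) := by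
  obtain ⟨A, _, _, _, _, st, lam, a, hA, hl, ha, hord⟩ := exists_sym_torus (F := F) p h2 hd hT
  obtain ⟨C, _, _, _, _, st₂, lam₂, c, hC, hl₂, hc, hordc⟩ := exists_sym_torus (F := F) p h2 he hU
  obtain ⟨B, _, _, _, st', lam', w, hB, hl', hw, -⟩ := exists_sym_odd (F := F) p h2 (n - d - e)
  refine omega_mem_of_algebra h2 hn (A := A × C × B)
    (by rw [Module.finrank_prod, Module.finrank_prod, hA, hB, hC]; omega)
    (hl.prod (hl₂.prod hl' fun x y => by simp) fun x y => by simp) (a, c, 1) ?_ fun k h => hk k ?_ ?_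
  · show (a, c, (1 : B)) * (st a, st₂ c, st' 1) = 1
    rw [Prod.mk_mul_mk, Prod.mk_mul_mk, ha, hc, map_one, one_mul]; rfl
  · rw [← hord]
    exact orderOf_dvd_of_pow_eq_one (by simpa using congrArg Prod.fst h)
  · rw [← hordc]
    exact orderOf_dvd_of_pow_eq_one (by simpa using congrArg (fun z => z.2.1) h)

/-- A torus and a unipotent part. -/
theorem omega_mem_torus_unipotent (h2 : (2 : F) ≠ 0) {n d T N : ℕ} (hn : 2 ≤ n) (hd : 1 ≤ d) (hdn : d < n)
    (hT : T ∣ Fintype.card F ^ d + 1 ∨ T ∣ Fintype.card F ^ d - 1)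
    (hk : ∀ k, T ∣ 2 * k → p ∣ 2 * k → N ∣ k) :
    N ∈ Set.range (orderOf : Cfsg.POmega F (Cfsg.quadFormOdd n F) → ℕ) := by
  obtain ⟨A, _, _, _, _, st, lam, a, hA, hl, ha, hord⟩ := exists_sym_torus (F := F) p h2 hd hT
  obtain ⟨B, _, _, _, st', lam', w, hB, hl', hw, hwp⟩ := exists_sym_odd (F := F) p h2 (n - d)
  refine omega_mem_of_algebra h2 hn (A := A × B) (by rw [Module.finrank_prod, hA, hB]; omega)
    (hl.prod hl' fun x y => by simp) (a, w) ?_ fun k h => hk k ?_ ?_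
  · show (a, w) * (st a, st' w) = 1
    rw [Prod.mk_mul_mk, ha, hw]; rfl
  · rw [← hord]
    exact orderOf_dvd_of_pow_eq_one (by simpa using congrArg Prod.fst h)
  · exact hwp (by omega) _ (by simpa using congrArg Prod.snd h)

include p in
theorem psp_mem_torus (h2 : (2 : F) ≠ 0) {n T N : ℕ} (hn : 1 ≤ n)
    (hT : T ∣ Fintype.card F ^ n + 1 ∨ T ∣ Fintype.card F ^ n - 1) (hk : ∀ k, T ∣ 2 * k → N ∣ k) :
    N ∈ Set.range (orderOf : Cfsg.PSp n F → ℕ) := by
  obtain ⟨A, _, _, _, _, st, lam, a, hA, hl, ha, hord⟩ := exists_twist_torus (F := F) p h2 hn hT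
  refine psp_mem_of_algebra h2 hn hA hl a ha fun k h => hk k ?_
  rw [← hord]
  refine orderOf_dvd_of_pow_eq_one ?_
  rcases h with h | h <;> rw [mul_comm, pow_mul, h] <;> simp

include p in
theorem psp_mem_two_tori (h2 : (2 : F) ≠ 0) {n d T U N : ℕ} (hd : 1 ≤ d) (hdn : d < n) (hTodd : Odd T)
    (hT : T ∣ Fintype.card F ^ d + 1 ∨ T ∣ Fintype.card F ^ d - 1)
    (hU : U ∣ Fintype.card F ^ (n - d) + 1 ∨ U ∣ Fintype.card F ^ (n - d) - 1)
    (hk : ∀ k, T ∣ k → U ∣ k → N ∣ k) :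
    N ∈ Set.range (orderOf : Cfsg.PSp n F → ℕ) := by
  obtain ⟨A, _, _, _, _, st, lam, a, hA, hl, ha, hord⟩ := exists_twist_torus (F := F) p h2 hd hT
  obtain ⟨C, _, _, _, _, st₂, lam₂, c, hC, hl₂, hc, hordc⟩ :=
    exists_twist_torus (F := F) p h2 (show 1 ≤ n - d by omega) hU
  refine psp_mem_of_algebra h2 (by omega) (A := A × C) (by rw [Module.finrank_prod, hA, hC]; omega)
    (hl.prod hl₂ fun x y => by simp) (a, c) ?_ fun k h => ?_
  · show (a, c) * (st a, st₂ c) = 1
    rw [Prod.mk_mul_mk, ha, hc]; rfl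
  · rcases h with h | h
    · exact hk k (hord ▸ orderOf_dvd_of_pow_eq_one (by simpa using congrArg Prod.fst h))
        (hordc ▸ orderOf_dvd_of_pow_eq_one (by simpa using congrArg Prod.snd h))
    · exfalso
      have h1 : a ^ k = -1 := by simpa using congrArg Prod.fst h
      have h3 : (a ^ k) ^ T = 1 := by
        rw [← pow_mul, mul_comm, pow_mul, ← hord, pow_orderOf_eq_one, one_pow]
      rw [h1, hTodd.neg_one_pow] at h3
      exact CfsgLib.Spectrum.neg_one_ne_one_of_two (R := A) h2 h3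

theorem psp_mem_torus_unipotent (h2 : (2 : F) ≠ 0) {n d T N : ℕ} (hd : 1 ≤ d) (hdn : d < n)
    (hT : T ∣ Fintype.card F ^ d + 1 ∨ T ∣ Fintype.card F ^ d - 1)
    (hk : ∀ k, T ∣ k → p ∣ k → N ∣ k) : N ∈ Set.range (orderOf : Cfsg.PSp n F → ℕ) := by
  obtain ⟨A, _, _, _, _, st, lam, a, hA, hl, ha, hord⟩ := exists_twist_torus (F := F) p h2 hd hT
  obtain ⟨st', lam', hl', ha'⟩ := exists_twist_unipotent (F := F) p h2 (show 1 ≤ n - d by omega)
  haveI : Module.Finite F (AdjoinRoot (X ^ ((n - d) + (n - d)) : F[X])) :=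
    (AdjoinRoot.powerBasis (pow_ne_zero _ X_ne_zero)).finite
  obtain ⟨hfin, hordu, ⟨ev, hev⟩, -⟩ := truncated_one_add_root (F := F) p
    (show 1 ≤ (n - d) + (n - d) by omega)
  refine psp_mem_of_algebra h2 (by omega) (A := A × AdjoinRoot (X ^ ((n - d) + (n - d)) : F[X]))
    (by rw [Module.finrank_prod, hA, hfin]; omega) (hl.prod hl' fun x y => by simp)
    (a, 1 + AdjoinRoot.root (X ^ ((n - d) + (n - d)) : F[X])) ?_ fun k h => ?_
  · show (a, (1 + AdjoinRoot.root (X ^ ((n - d) + (n - d)) : F[X]))) *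
      (st a, st' (1 + AdjoinRoot.root (X ^ ((n - d) + (n - d)) : F[X]))) = 1
    rw [Prod.mk_mul_mk, ha, ha']; rfl
  · rcases h with h | h
    · refine hk k (hord ▸ orderOf_dvd_of_pow_eq_one (by simpa using congrArg Prod.fst h)) ?_
      refine dvd_trans ?_ (orderOf_dvd_of_pow_eq_one (x := 1 + AdjoinRoot.root (X ^ ((n - d) + (n - d)) : F[X]))
        (by simpa using congrArg Prod.snd h))
      rw [hordu]
      exact dvd_pow_self p (Nat.clog_pos (Fact.out : p.Prime).one_lt (by omega)).ne'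
    · exfalso
      have h' := congrArg ev (congrArg Prod.snd h)
      simp only [Prod.pow_snd, Prod.snd_neg, Prod.snd_one, map_pow, map_neg, map_one, hev, one_pow] at h'
      exact absurd h'.symm (CfsgLib.Spectrum.neg_one_ne_one_of_two (R := F) h2)

end CfsgLib.PrimeGraph
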