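import Cfsg.Agent.Lib.PrimeGraph.Family

/-! Necessary conditions for adjacency of two and an odd prime in the symplectic groups. -/

set_option autoImplicit false

open Polynomial Module CfsgLib.Spectrum

namespace CfsgLib.PrimeGraph

variable {F : Type*} [Field F] [Fintype F]

theorem range_eq_top_of_extremal {V : Type*} [AddCommGroup V] [Module F V] [FiniteDimensional F V]
    {M : Module.End F V} {r t k η N : ℕ} (hr : r.Prime) (hr2 : r ≠ 2) (hN : N = r * t) (hN0 : 1 ≤ N)
    (hM : M ^ N = 1) (hinv : aeval (M ^ (N - 1)) (minpoly F M) = 0)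
    (hk : k = orderOf ((Fintype.card F : ℕ) : ZMod r)) (hη : IsEta k η)
    {f : F[X]} (hf : Irreducible f) (hfd : f ∣ minpoly F M) (hft : ¬ f ∣ X ^ t - 1)
    (hV : finrank F V = η + η) : LinearMap.range (M ^ t - 1) = ⊤ := by
  have hle : finrank F (LinearMap.range (M ^ t - 1)) ≤ 2 * η := by
    have := Submodule.finrank_le (LinearMap.range (M ^ t - 1)); omega
  refine Submodule.eq_top_of_finrank_eq ?_
  rcases range_eq_family hr hr2 hN hN0 hM hinv hk hη hf hfd hft hle with ⟨he, hd, -⟩ |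
    ⟨g, -, hco, he, hek, -, -, -, h1, h2, -, -⟩
  · rw [he]; omega
  · rw [he, finrank_sup_part hco]; omega

theorem two_pair_psp (p : ℕ) [Fact p.Prime] [CharP F p] (h2 : (2 : F) ≠ 0) {n r k η : ℕ} (hn : 1 ≤ n)
    (hr : r.Prime) (hr2 : r ≠ 2) (hrp : r ≠ p) (hk : k = orderOf ((Fintype.card F : ℕ) : ZMod r))
    (hη : IsEta k η) {x : Cfsg.PSp n F} (hx : orderOf x = 2 * r) :
    η < n ∨ (η = n ∧ (4 * r ∣ Fintype.card F ^ n + 1 ∨ 4 * r ∣ Fintype.card F ^ n - 1)) := by
  classical
  haveI : Finite (Cfsg.PSp n F) := Finite.of_surjective _ QuotientGroup.mk_surjective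
  rcases lt_or_ge η n with hlt | hge
  · exact Or.inl hlt
  right
  have hηn : η = n := le_antisymm (eta_le_of_dvd p hn hr hr2 hrp
    ((dvd_mul_left r 2).trans (hx ▸ orderOf_dvd_natCard x)) hk hη) hge
  refine ⟨hηn, ?_⟩
  subst hηn
  obtain ⟨G₀, rfl⟩ := QuotientGroup.mk_surjective x
  set G := (G₀ : Matrix (Fin η ⊕ Fin η) (Fin η ⊕ Fin η) F)
  haveI := Fact.mk hr
  have hr3 : 3 ≤ r := by have := hr.two_le; omega
  have hord : ∀ j, G ^ j = 1 ∨ G ^ j = -1 → 2 * r ∣ j := fun j h =>
    hx ▸ orderOf_dvd_of_pow_eq_one ((pspMk_pow_eq_one_iff hn G₀ j).2 h)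
  have hnd : ∀ {j}, 0 < j → j < 2 * r → ¬ (G ^ j = 1 ∨ G ^ j = -1) := fun h1 h2 h =>
    absurd (Nat.le_of_dvd h1 (hord _ h)) (not_le.2 h2)
  set φ := (Matrix.toLinAlgEquiv' : Matrix (Fin η ⊕ Fin η) (Fin η ⊕ Fin η) F ≃ₐ[F] _)
  set M := φ G with hMdef
  have hMG : ∀ j, M ^ j = 1 ↔ G ^ j = 1 := fun j => by rw [← map_pow, map_eq_one_iff _ φ.injective]
  have hrF : (r : F) ≠ 0 := cast_ne_zero p hr hrp
  have hval := fun (t : ℕ) (N : ℕ) (hN : N = r * t) (hN0 : 1 ≤ N) (hGN : G ^ N = 1) (f : F[X])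
      (hf : Irreducible f) (hfd : f ∣ minpoly F M) (hft : ¬ f ∣ X ^ t - 1) =>
    range_eq_top_of_extremal hr hr2 hN hN0 ((hMG N).2 hGN) (inverse_condition p G₀.2 hN0 hGN) hk hη hf hfd hft
      finrank_symp
  rcases (pspMk_pow_eq_one_iff hn G₀ (2 * r)).1 (hx ▸ pow_orderOf_eq_one _) with hG | hG
  · -- `G ^ r` would be a scalar
    exfalso
    have hG' : G ^ (r * 2) = 1 := by rw [mul_comm]; exact hG
    obtain ⟨f, hf, hfd, hf1⟩ := exists_factor M (N := r * 2)
      (by rw [Nat.cast_mul, Nat.cast_two]; exact mul_ne_zero hrF h2) ((hMG _).2 hG') (X ^ 2 - 1) (by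
        rw [map_sub, map_pow, aeval_X, map_one, sub_ne_zero, Ne, hMG]
        exact fun h => hnd two_pos (by omega) (Or.inl h))
    have htop := hval 2 (r * 2) rfl (by omega) hG' f hf hfd hf1
    have key := fun (c : F) (hc : c * c = 1) (hj : f ∣ X ^ r - C c) =>
      pow_apply_eq (t := 2) hr hr2 rfl (by omega) ((hMG _).2 hG') (inverse_condition p G₀.2 (by omega) hG')
        hk hη hf hfd hf1 (by rw [htop, finrank_top, finrank_symp]; omega) hc hj
    have hprod : f ∣ (X ^ r - C 1) * (X ^ r - C (-1)) := by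
      refine (dvd_X_pow_sub_one ((hMG _).2 hG') hfd).trans (dvd_of_eq ?_)
      rw [C_1, map_neg, C_1, pow_mul]; ring
    refine hnd hr.pos (by omega) ?_
    rcases hf.prime.dvd_mul.1 hprod with h | h
    · left
      refine (hMG r).1 (LinearMap.ext fun y => ?_)
      rw [key 1 (one_mul 1) h y (by rw [htop]; exact Submodule.mem_top), one_smul, Module.End.one_apply]
    · right
      apply φ.injective
      rw [map_pow, map_neg, map_one]
      refine LinearMap.ext fun y => ?_
      rw [← hMdef, key (-1) (by ring) h y (by rw [htop]; exact Submodule.mem_top), neg_one_smul,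
        LinearMap.neg_apply, Module.End.one_apply]
  · -- the eigenvalues have order `4 r`
    have hG' : G ^ (r * 4) = 1 := by
      rw [show r * 4 = 2 * r * 2 by ring, pow_mul, hG, neg_one_sq]
    have h4F : ((4 : ℕ) : F) ≠ 0 := by
      rw [show (4 : ℕ) = 2 * 2 from rfl, Nat.cast_mul, Nat.cast_two]; exact mul_ne_zero h2 h2
    obtain ⟨f, hf, hfd, hf1⟩ := exists_factor M (N := r * 4)
      (by rw [Nat.cast_mul]; exact mul_ne_zero hrF h4F) ((hMG _).2 hG') (X ^ 4 - 1) (by
        rw [map_sub, map_pow, aeval_X, map_one, sub_ne_zero, Ne, hMG]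
        intro h
        have h' := Nat.le_of_dvd (by norm_num) (hord 4 (Or.inl h))
        omega)
    have htop := hval 4 (r * 4) rfl (by omega) hG' f hf hfd hf1
    have hle : finrank F (LinearMap.range (M ^ 4 - 1)) ≤ 2 * η := by
      rw [htop, finrank_top, finrank_symp]; omega
    have hne : ¬ f ∣ X ^ (2 * r) - C 1 := fun h => by
      have h' : M ^ (2 * r) = 1 := LinearMap.ext fun y => by
        rw [pow_apply_eq (t := 4) hr hr2 rfl (by omega) ((hMG _).2 hG') (inverse_condition p G₀.2 (by omega) hG')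
          hk hη hf hfd hf1 hle (one_mul 1) h y (by rw [htop]; exact Submodule.mem_top), one_smul,
          Module.End.one_apply]
      rw [hMG, hG] at h'
      haveI : Nonempty (Fin η ⊕ Fin η) := ⟨.inl ⟨0, hn⟩⟩
      have h'' := congrFun (congrFun h' (Sum.inl ⟨0, hn⟩)) (Sum.inl ⟨0, hn⟩)
      simp only [Matrix.neg_apply, Matrix.one_apply_eq] at h''
      exact h2 (by linear_combination -h'')
    haveI := Fact.mk hf
    haveI : Module.Finite F (AdjoinRoot f) := (AdjoinRoot.powerBasis hf.ne_zero).finite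
    haveI : Finite (AdjoinRoot f) := Module.finite_of_finite F
    haveI := Fintype.ofFinite (AdjoinRoot f)
    have hroot : ∀ j, f ∣ X ^ j - 1 ↔ orderOf (AdjoinRoot.root f) ∣ j := fun j => by
      rw [orderOf_dvd_iff_pow_eq_one, ← AdjoinRoot.mk_eq_zero, map_sub, map_pow, AdjoinRoot.mk_X, map_one,
        sub_eq_zero]
    set o := orderOf (AdjoinRoot.root f)
    rw [C_1, hroot] at hne
    have hf1' := hf1
    rw [hroot] at hf1
    have ho : o ∣ 4 * r := by
      rw [← hroot, mul_comm]; exact dvd_X_pow_sub_one ((hMG _).2 hG') hfd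
    have hro : r ∣ o := by
      by_contra h
      exact hf1 (((hr.coprime_iff_not_dvd.2 h).symm).dvd_of_dvd_mul_right ho)
    obtain ⟨b, hb⟩ := hro
    have hb4 : b ∣ 2 ^ 2 := by
      refine (Nat.mul_dvd_mul_iff_right hr.pos).1 ?_
      rw [mul_comm b, ← hb]; exact ho
    have hob : o = 4 * r := by
      obtain ⟨e, he, rfl⟩ := (Nat.dvd_prime_pow Nat.prime_two).1 hb4
      have he2 : e = 2 := by
        rcases Nat.lt_or_ge e 2 with h | h
        · exfalso
          refine hne ?_
          rw [hb, mul_comm]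
          exact Nat.mul_dvd_mul_right ((pow_dvd_pow 2 (show e ≤ 1 by omega)).trans (dvd_of_eq (pow_one 2))) r
        · omega
      rw [hb, he2]; ring
    have hcop : Nat.Coprime 4 r := by
      rw [show (4 : ℕ) = 2 ^ 2 by norm_num]
      exact Nat.Coprime.pow_left _ ((Nat.coprime_primes Nat.prime_two hr).2 (Ne.symm hr2))
    have hqodd : Fintype.card F % 2 = 1 := by
      obtain ⟨e, -, hq⟩ := FiniteField.card F p
      have hp : p.Prime := Fact.out
      rw [hq, ← Nat.odd_iff]
      exact (hp.odd_of_ne_two fun h => h2 (by subst h; exact_mod_cast CharP.cast_eq_zero F 2)).pow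
    have hηk : η + η = finrank F (Fin η ⊕ Fin η → F) := finrank_symp.symm
    rcases range_eq_family hr hr2 rfl (by omega) ((hMG _).2 hG') (inverse_condition p G₀.2 (by omega) hG')
        hk hη hf hfd hf1' hle with ⟨-, -, -, -, i, b', hb', hib, hrn, hi⟩ | ⟨g, -, -, -, hek, -, hfk, -, -, -, -, -⟩
    · left
      have h := hi 1
      rw [pow_one, hroot, hob] at h
      refine Nat.Coprime.mul_dvd_of_dvd_of_dvd hcop ?_ hrn
      have h4 : 4 ∣ (Fintype.card F ^ η) ^ b' + 1 := by rw [← pow_mul, ← hib]; exact (dvd_mul_right 4 r).trans h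
      obtain ⟨a, rfl⟩ := hb'
      have hQ : (Fintype.card F ^ η) % 2 = 1 := by rw [Nat.pow_mod, hqodd, one_pow, Nat.one_mod]
      set Q := Fintype.card F ^ η
      have hQ4 : Q % 4 = 1 ∨ Q % 4 = 3 := by omega
      rw [Nat.dvd_iff_mod_eq_zero] at h4 ⊢
      rw [Nat.add_mod, pow_add, pow_mul, pow_one, Nat.mul_mod, Nat.pow_mod, Nat.pow_mod Q 2] at h4
      rcases hQ4 with h' | h' <;> rw [h'] at h4 <;> simp at h4
      omega
    · right
      rw [← hob]
      refine orderOf_dvd_of_pow_eq_one ?_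
      have hcard : Fintype.card (AdjoinRoot f) = Fintype.card F ^ η := by
        rw [Module.card_eq_pow_finrank (K := F), (AdjoinRoot.powerBasis hf.ne_zero).finrank,
          AdjoinRoot.powerBasis_dim, hfk]
        congr 1
        omega
      rw [← hcard]
      refine FiniteField.pow_card_sub_one_eq_one _ fun h0 => ?_
      have : o = 0 := by show orderOf _ = 0; rw [h0, orderOf_zero]
      omega

end CfsgLib.PrimeGraph
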