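import Cfsg.Agent.Lib.PrimeGraph.OrthOddBound
import Cfsg.Agent.Lib.PrimeGraph.OrthOddConstr
import Cfsg.Agent.Lib.PrimeGraph.SympTwo

/-! The groups of types `B_n` and `C_n` in odd characteristic have the same prime graph. -/

set_option autoImplicit false

open Module

namespace CfsgLib.PrimeGraph

variable {F : Type*} [Field F] [Fintype F]

theorem exists_eta (k : ℕ) : ∃ η, IsEta k η := by
  rcases Nat.even_or_odd k with h | h
  · obtain ⟨a, ha⟩ := h
    exact ⟨a, Or.inr ⟨⟨a, ha⟩, by omega⟩⟩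
  · exact ⟨k, Or.inl ⟨h, rfl⟩⟩

theorem four_dvd_pm (hodd : Odd (Fintype.card F)) (e : ℕ) :
    4 ∣ Fintype.card F ^ e + 1 ∨ 4 ∣ Fintype.card F ^ e - 1 := by
  have h : (Fintype.card F ^ e) % 2 = 1 := Nat.odd_iff.1 hodd.pow
  omega

variable (p : ℕ) [Fact p.Prime] [CharP F p]
include p

theorem torus_of_odd_multiple {r s k l t ηk ηl : ℕ} (hr : r.Prime) (hs : s.Prime) (hrp : r ≠ p)
    (hsp : s ≠ p) (hrs : r ≠ s) (hk : k = orderOf ((Fintype.card F : ℕ) : ZMod r))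
    (hl : l = orderOf ((Fintype.card F : ℕ) : ZMod s)) (hηk : IsEta k ηk) (hηl : IsEta l ηl)
    (ht : Odd t) (hlt : l = k * t) :
    r * s ∣ Fintype.card F ^ ηl + 1 ∨ r * s ∣ Fintype.card F ^ ηl - 1 := by
  have hk1 := eta_pos hr (not_dvd_card p hr hrp) hk hηk
  have hl1 := eta_pos hs (not_dvd_card p hs hsp) hl hηl
  have hco : r.Coprime s := (Nat.coprime_primes hr hs).2 hrs
  have hq := Fintype.card_pos (α := F)
  rcases hηl with ⟨hol, he⟩ | ⟨hel, he⟩
  · right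
    rw [he]
    exact hco.mul_dvd_of_dvd_of_dvd ((dvd_pow_sub_one_iff hq l).2 (hk ▸ ⟨t, hlt⟩))
      ((dvd_pow_sub_one_iff hq l).2 (hl ▸ dvd_rfl))
  · left
    have hplus : ∀ {u m η : ℕ}, u.Prime → m = orderOf ((Fintype.card F : ℕ) : ZMod u) → 2 * η = m → 1 ≤ η →
        u ∣ Fintype.card F ^ η + 1 := by
      intro u m η hu hm hmη hη1
      rcases torus_hyp (F := F) p hm hu (Or.inr ⟨⟨η, by omega⟩, hmη⟩) with h | h
      · exact h
      · rw [dvd_pow_sub_one_iff hq, ← hm] at h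
        have := Nat.le_of_dvd (by omega) h
        omega
    have hek : 2 * ηk = k := by
      rcases hηk with ⟨hok, -⟩ | ⟨-, h⟩
      · exact absurd hel (Nat.not_even_iff_odd.2 (hlt ▸ hok.mul ht))
      · exact h
    have h5 : ηl = ηk * t := by
      have : 2 * ηl = 2 * (ηk * t) := by rw [he, hlt, ← hek, mul_assoc]
      omega
    refine hco.mul_dvd_of_dvd_of_dvd ?_ (hplus hs hl he hl1)
    have h6 := ht.nat_add_dvd_pow_add_pow (Fintype.card F ^ ηk) 1
    rw [one_pow, ← pow_mul, ← h5] at h6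
    exact (hplus hr hk hek hk1).trans h6

variable {n : ℕ} (h2 : (2 : F) ≠ 0) (hn : 2 ≤ n)
include h2 hn

theorem odd_pair_iff {r s : ℕ} (hr : r.Prime) (hs : s.Prime) (hr2 : r ≠ 2) (hs2 : s ≠ 2) (hrp : r ≠ p)
    (hsp : s ≠ p) (hrs : r ≠ s) :
    (r * s ∈ Set.range (orderOf : Cfsg.POmega F (Cfsg.quadFormOdd n F) → ℕ)) ↔
      (r * s ∈ Set.range (orderOf : Cfsg.PSp n F → ℕ)) := by
  obtain ⟨ηk, hηk⟩ := exists_eta (orderOf ((Fintype.card F : ℕ) : ZMod r))
  obtain ⟨ηl, hηl⟩ := exists_eta (orderOf ((Fintype.card F : ℕ) : ZMod s))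
  wlog hkl : ηk ≤ ηl generalizing r s ηk ηl
  · rw [mul_comm]
    exact this hs hr hs2 hr2 hsp hrp hrs.symm ηl hηl ηk hηk (le_of_not_ge hkl)
  obtain ⟨k, hk⟩ : ∃ k, k = orderOf ((Fintype.card F : ℕ) : ZMod r) := ⟨_, rfl⟩
  obtain ⟨l, hl⟩ : ∃ l, l = orderOf ((Fintype.card F : ℕ) : ZMod s) := ⟨_, rfl⟩
  rw [← hk] at hηk
  rw [← hl] at hηl
  have hk1 := eta_pos hr (not_dvd_card p hr hrp) hk hηk
  have hl1 := eta_pos hs (not_dvd_card p hs hsp) hl hηl
  have hco : r.Coprime s := (Nat.coprime_primes hr hs).2 hrs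
  have hro := hr.odd_of_ne_two hr2
  have hso := hs.odd_of_ne_two hs2
  have hrd := torus_hyp (F := F) p hk hr hηk
  have hsd := torus_hyp (F := F) p hl hs hηl
  haveI : Finite (Cfsg.PSp n F) := Finite.of_surjective _ QuotientGroup.mk_surjective
  have hcrit : r * s ∈ Set.range (orderOf : Cfsg.PSp n F → ℕ) ↔
      ηl ≤ n ∧ (ηk + ηl ≤ n ∨ ∃ t, Odd t ∧ l = k * t) := by
    constructor
    · intro hx
      obtain ⟨x, hx'⟩ := hx
      have hln := eta_le_of_dvd p (by omega) hs hs2 hsp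
        ((dvd_mul_left s r).trans (hx' ▸ orderOf_dvd_natCard x)) hl hηl
      refine ⟨hln, or_iff_not_imp_left.2 fun h => ?_⟩
      exact eta_add_le_or_of_mem p hn hr hs hr2 hs2 hrp hsp hk hl hηk hηl hkl ⟨x, hx'⟩ (not_le.1 h)
    · rintro ⟨hln, h | ⟨t, ht, hlt⟩⟩
      · exact psp_mul_mem_of_add_le p hro hso hr.ne_one hs.ne_one hco hk1 hl1 h hrd hsd
      · exact psp_mul_mem_of_torus p hl1 hln (hro.mul hso)
          (fun e => hr.ne_one (Nat.eq_one_of_mul_eq_one_right e))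
          (torus_of_odd_multiple p hr hs hrp hsp hrs hk hl hηk hηl ht hlt)
  rw [hcrit]
  constructor
  · intro hx
    obtain ⟨g, -, hg⟩ := (pomega_range_iff n hn h2 _).1 hx
    exact odd_pair_orth p h2 hr hs hr2 hs2 hrp hsp hrs hk hl hηk hηl hkl hg
  · rintro ⟨hln, h | ⟨t, ht, hlt⟩⟩
    · exact omega_mem_two_tori p h2 hn hk1 hl1 h hrd hsd fun j h1 h2 =>
        hco.mul_dvd_of_dvd_of_dvd ((Nat.coprime_two_right.2 hro).dvd_of_dvd_mul_left h1)
          ((Nat.coprime_two_right.2 hso).dvd_of_dvd_mul_left h2)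
    · exact omega_mem_torus p h2 hn hl1 hln (torus_of_odd_multiple p hr hs hrp hsp hrs hk hl hηk hηl ht hlt)
        fun j h1 => (Nat.coprime_two_right.2 (hro.mul hso)).dvd_of_dvd_mul_left h1

theorem char_pair_iff {r : ℕ} (hr : r.Prime) (hr2 : r ≠ 2) (hrp : r ≠ p) :
    (r * p ∈ Set.range (orderOf : Cfsg.POmega F (Cfsg.quadFormOdd n F) → ℕ)) ↔
      (r * p ∈ Set.range (orderOf : Cfsg.PSp n F → ℕ)) := by
  obtain ⟨k, hk⟩ : ∃ k, k = orderOf ((Fintype.card F : ℕ) : ZMod r) := ⟨_, rfl⟩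
  obtain ⟨η, hη⟩ := exists_eta k
  have hp : p.Prime := Fact.out
  have hp2 : Odd p := hp.odd_of_ne_two (CfsgLib.Spectrum.odd_char p h2)
  constructor
  · intro hx
    obtain ⟨g, hgΩ, hg⟩ := (pomega_range_iff n hn h2 _).1 hx
    exact psp_mul_char_mem p hr hr2 hrp hk hη (char_pair_orth p h2 hn hr hr2 hrp hk hη hgΩ hg)
  · intro hx
    exact omega_mem_torus_unipotent p h2 hn (eta_pos hr (not_dvd_card p hr hrp) hk hη)
      (eta_lt_of_mul_char_mem p hn hr hr2 hrp hk hη hx) (torus_hyp (F := F) p hk hr hη) fun j h1 h3 =>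
        ((Nat.coprime_primes hr hp).2 hrp).mul_dvd_of_dvd_of_dvd
          ((Nat.coprime_two_right.2 (hr.odd_of_ne_two hr2)).dvd_of_dvd_mul_left h1)
          ((Nat.coprime_two_right.2 hp2).dvd_of_dvd_mul_left h3)

theorem two_pair_iff (hodd : Odd (Fintype.card F)) {r : ℕ} (hr : r.Prime) (hr2 : r ≠ 2) (hrp : r ≠ p) :
    (2 * r ∈ Set.range (orderOf : Cfsg.POmega F (Cfsg.quadFormOdd n F) → ℕ)) ↔
      (2 * r ∈ Set.range (orderOf : Cfsg.PSp n F → ℕ)) := by
  obtain ⟨k, hk⟩ : ∃ k, k = orderOf ((Fintype.card F : ℕ) : ZMod r) := ⟨_, rfl⟩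
  obtain ⟨η, hη⟩ := exists_eta k
  have hη1 := eta_pos hr (not_dvd_card p hr hrp) hk hη
  have hro := hr.odd_of_ne_two hr2
  have h4r : ∀ {j}, 4 * r ∣ 2 * j → 2 * r ∣ j := fun {j} h => by
    rw [show 4 * r = 2 * (2 * r) by ring] at h
    exact (Nat.mul_dvd_mul_iff_left two_pos).1 h
  constructor
  · intro hx
    obtain ⟨g, hgΩ, hg⟩ := (pomega_range_iff n hn h2 _).1 hx
    rcases two_pair_orth p h2 hn hr hr2 hrp hk hη hgΩ hg with h | ⟨-, h⟩
    · exact psp_mem_two_tori p h2 hη1 h hro (torus_hyp (F := F) p hk hr hη) (four_dvd_pm hodd (n - η))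
        fun j h1 h3 => (Nat.coprime_two_left.2 hro).mul_dvd_of_dvd_of_dvd ((dvd_mul_right 2 2).trans h3) h1
    · exact psp_mem_torus p h2 (by omega) h fun j h1 => h4r h1
  · rintro ⟨x, hx⟩
    rcases two_pair_psp p h2 (by omega) hr hr2 hrp hk hη hx with h | ⟨-, h⟩
    · exact omega_mem_two_tori p h2 hn hη1 le_rfl h (torus_hyp (F := F) p hk hr hη) (four_dvd_pm hodd 1)
        fun j h1 h3 => (Nat.coprime_two_left.2 hro).mul_dvd_of_dvd_of_dvd
          ((Nat.mul_dvd_mul_iff_left two_pos).1 (by exact h3))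
          ((Nat.coprime_two_right.2 hro).dvd_of_dvd_mul_left h1)
    · exact omega_mem_torus p h2 hn (by omega) le_rfl h fun j h1 => h4r h1

theorem two_char_mem (hodd : Odd (Fintype.card F)) :
    2 * p ∈ Set.range (orderOf : Cfsg.POmega F (Cfsg.quadFormOdd n F) → ℕ) ∧
      2 * p ∈ Set.range (orderOf : Cfsg.PSp n F → ℕ) := by
  have hp : p.Prime := Fact.out
  have hp2 : Odd p := hp.odd_of_ne_two (CfsgLib.Spectrum.odd_char p h2)
  exact ⟨omega_mem_torus_unipotent p h2 hn le_rfl (by omega) (four_dvd_pm hodd 1) fun j h1 h3 =>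
      (Nat.coprime_two_left.2 hp2).mul_dvd_of_dvd_of_dvd
        ((Nat.mul_dvd_mul_iff_left two_pos).1 (by exact h1))
        ((Nat.coprime_two_right.2 hp2).dvd_of_dvd_mul_left h3),
    psp_mem_torus_unipotent p h2 le_rfl (by omega) (four_dvd_pm hodd 1) fun j h1 h3 =>
      (Nat.coprime_two_left.2 hp2).mul_dvd_of_dvd_of_dvd ((dvd_mul_right 2 2).trans h1) h3⟩

theorem same_prime_graph (hodd : Odd (Fintype.card F)) (r s : ℕ) (hr : r.Prime) (hs : s.Prime) (hrs : r ≠ s) :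
    (r * s ∈ Set.range (orderOf : Cfsg.POmega F (Cfsg.quadFormOdd n F) → ℕ)) ↔
      (r * s ∈ Set.range (orderOf : Cfsg.PSp n F → ℕ)) := by
  have hp2 := CfsgLib.Spectrum.odd_char p h2
  have hboth := two_char_mem p h2 hn hodd
  rcases eq_or_ne r 2 with rfl | hr2
  · rcases eq_or_ne s p with rfl | hsp
    · exact iff_of_true hboth.1 hboth.2
    · exact two_pair_iff p h2 hn hodd hs (Ne.symm hrs) hsp
  rcases eq_or_ne s 2 with rfl | hs2
  · rw [mul_comm]
    rcases eq_or_ne r p with rfl | hrp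
    · exact iff_of_true hboth.1 hboth.2
    · exact two_pair_iff p h2 hn hodd hr hr2 hrp
  rcases eq_or_ne s p with rfl | hsp
  · exact char_pair_iff s h2 hn hr hr2 hrs
  rcases eq_or_ne r p with rfl | hrp
  · rw [mul_comm]
    exact char_pair_iff r h2 hn hs hs2 hsp
  exact odd_pair_iff p h2 hn hr hs hr2 hs2 hrp hsp hrs

end CfsgLib.PrimeGraph
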