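import Cfsg.Agent.Lib.PrimeGraph.Factor
import Cfsg.Agent.Lib.Spectrum.SympElements

/-! Necessary conditions for adjacency in the prime graph of the projective symplectic groups. -/

set_option autoImplicit false

open Polynomial Module CfsgLib.Spectrum

namespace CfsgLib.PrimeGraph

universe u

/-- The function `η` of a multiplicative order. -/
def IsEta (k η : ℕ) : Prop := (Odd k ∧ η = k) ∨ (Even k ∧ 2 * η = k)

theorem half_of_dvd_succ {r q i k η : ℕ} (hq : 1 ≤ q) (hr : r.Prime) (hr2 : r ≠ 2)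
    (hk : k = orderOf ((q : ℕ) : ZMod r)) (hη : IsEta k η) (hi : r ∣ q ^ i + 1) :
    2 * η = k ∧ ∃ b, Odd b ∧ i = η * b := by
  have h2 : ¬ r ∣ q ^ i - 1 := fun h => by
    have h1 := Nat.one_le_pow i q hq
    have := Nat.dvd_sub hi h
    rw [show q ^ i + 1 - (q ^ i - 1) = 2 by omega] at this
    exact hr2 ((Nat.prime_dvd_prime_iff_eq hr Nat.prime_two).1 this)
  have hki : ¬ k ∣ i := fun h => h2 ((dvd_pow_sub_one_iff hq i).2 (hk ▸ h))
  have hk2i : k ∣ 2 * i := hk ▸ (dvd_pow_sub_one_iff hq (2 * i)).1 (hi.trans ⟨q ^ i - 1, by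
    rw [mul_comm 2, pow_mul, ← Nat.sq_sub_sq, one_pow]⟩)
  rcases hη with ⟨ho, -⟩ | ⟨-, he⟩
  · exact absurd ((Nat.coprime_two_right.2 ho).dvd_of_dvd_mul_left hk2i) hki
  · refine ⟨he, ?_⟩
    obtain ⟨b, hb⟩ : η ∣ i := by
      rw [← he] at hk2i
      exact (Nat.mul_dvd_mul_iff_left two_pos).1 hk2i
    refine ⟨b, Nat.not_even_iff_odd.1 fun ⟨c, hc⟩ => hki ⟨c, ?_⟩, hb⟩
    rw [hb, hc, ← he]; ring

variable {F : Type u} [Field F] [Fintype F] {V : Type*} [AddCommGroup V] [Module F V] [FiniteDimensional F V]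

omit [FiniteDimensional F V] in
theorem selfRecip_dvd_succ {f : F[X]} (hf : Irreducible f) {r t i : ℕ} (hr : r.Prime)
    (hsr : ∀ t, f ∣ (X ^ t) ^ (Nat.card F ^ i + 1) - 1) (hfN : f ∣ X ^ (r * t) - 1) (hft : ¬ f ∣ X ^ t - 1) :
    r ∣ Fintype.card F ^ i + 1 := by
  haveI := Fact.mk hf
  haveI := Fact.mk hr
  have e : ∀ j, f ∣ (X ^ t) ^ j - 1 ↔ (AdjoinRoot.root f ^ t) ^ j = 1 := fun j => by
    rw [← AdjoinRoot.mk_eq_zero, map_sub, map_pow, map_pow, AdjoinRoot.mk_X, map_one, sub_eq_zero]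
  have h1 : (AdjoinRoot.root f ^ t) ^ r = 1 := (e r).1 (by rwa [← pow_mul, mul_comm])
  have h2 : AdjoinRoot.root f ^ t ≠ 1 := by
    have := e 1
    rw [pow_one, pow_one] at this
    exact fun h => hft (this.2 h)
  rw [← orderOf_eq_prime h1 h2, ← Nat.card_eq_fintype_card]
  exact orderOf_dvd_of_pow_eq_one ((e _).1 (hsr t))

theorem dvd_X_pow_sub_one {A : Module.End F V} {N : ℕ} (hA : A ^ N = 1) {f : F[X]} (h : f ∣ minpoly F A) :
    f ∣ X ^ N - 1 :=
  h.trans (minpoly.dvd F A (by simp [hA]))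

/-- The moved space of a symplectic automorphism of prime order has dimension at least `2η`. -/
theorem two_eta_le {A : Module.End F V} {r k η : ℕ} (hr : r.Prime) (hr2 : r ≠ 2) (hrF : (r : F) ≠ 0)
    (hA : A ^ r = 1) (hA1 : A ≠ 1) (hinv : aeval (A ^ (r - 1)) (minpoly F A) = 0)
    (hk : k = orderOf ((Fintype.card F : ℕ) : ZMod r)) (hη : IsEta k η) :
    2 * η ≤ finrank F (LinearMap.range (A - 1)) := by
  obtain ⟨f, hf, hfd, hf1⟩ := exists_factor A hrF hA (X - 1) (by simpa [sub_eq_zero] using hA1)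
  have hfN : f ∣ X ^ (r * 1) - 1 := by rw [mul_one]; exact dvd_X_pow_sub_one hA hfd
  have hf1' : ¬ f ∣ X ^ 1 - 1 := by rwa [pow_one]
  have hkd : k ∣ f.natDegree := by
    rw [hk, ← Nat.card_eq_fintype_card]
    exact orderOf_dvd_natDegree hf hr hfN rfl hf1'
  have hle : ∀ g : F[X], Irreducible g → ¬ g ∣ X - 1 → part A g ≤ LinearMap.range (A - 1) := by
    intro g hg hg1
    have := part_le_range (A := A) (hg.coprime_iff_not_dvd.2 hg1)
    simpa using this
  rcases exists_partner hr.one_le hA hinv hf hfd with ⟨i, hi⟩ | ⟨g, hg, hgd, hco, hgt⟩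
  · obtain ⟨he, -⟩ := half_of_dvd_succ Fintype.card_pos hr hr2 hk hη (selfRecip_dvd_succ hf hr hi hfN hf1')
    have h1 := natDegree_le_finrank hf (part_invariant (Commute.refl A) f) le_rfl (part_ne_bot hf hfd)
    have h2 := Submodule.finrank_mono (hle f hf hf1)
    have h3 := Nat.le_of_dvd hf.natDegree_pos hkd
    omega
  · have hg1 : ¬ g ∣ X ^ 1 - 1 := fun h => hf1' (hgt 1 h)
    have hgN : g ∣ X ^ (r * 1) - 1 := by rw [mul_one]; exact dvd_X_pow_sub_one hA hgd
    have hkd' : k ∣ g.natDegree := by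
      rw [hk, ← Nat.card_eq_fintype_card]
      exact orderOf_dvd_natDegree hg hr hgN rfl hg1
    have h1 := natDegree_le_finrank hf (part_invariant (Commute.refl A) f) le_rfl (part_ne_bot hf hfd)
    have h1' := natDegree_le_finrank hg (part_invariant (Commute.refl A) g) le_rfl (part_ne_bot hg hgd)
    have h2 := Submodule.finrank_mono (sup_le (hle f hf hf1) (hle g hg (by rwa [pow_one] at hg1)))
    rw [finrank_sup_part hco] at h2
    have h3 := Nat.le_of_dvd hf.natDegree_pos hkd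
    have h4 := Nat.le_of_dvd hg.natDegree_pos hkd'
    rcases hη with ⟨-, h⟩ | ⟨-, h⟩ <;> omega

/-- Commuting with a nontrivial unipotent element. -/
theorem eta_lt {M E : Module.End F V} {r k η n N : ℕ} (hr : r.Prime) (hr2 : r ≠ 2) (hrF : (r : F) ≠ 0)
    (hn : 2 ≤ n) (hV : finrank F V = n + n)
    (hM : M ^ r = 1) (hM1 : M ≠ 1) (hinv : aeval (M ^ (r - 1)) (minpoly F M) = 0)
    (hcomm : Commute M E) (hEN : E ^ N = 0) (hE : E ≠ 0)
    (hk : k = orderOf ((Fintype.card F : ℕ) : ZMod r)) (hη : IsEta k η) : η < n := by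
  obtain ⟨f, hf, hfd, hf1⟩ := exists_factor M hrF hM (X - 1) (by simpa [sub_eq_zero] using hM1)
  have hfN : f ∣ X ^ (r * 1) - 1 := by rw [mul_one]; exact dvd_X_pow_sub_one hM hfd
  have hf1' : ¬ f ∣ X ^ 1 - 1 := by rwa [pow_one]
  have hkd : k ∣ f.natDegree := by
    rw [hk, ← Nat.card_eq_fintype_card]
    exact orderOf_dvd_natDegree hf hr hfN rfl hf1'
  have hlt : ∀ U : Submodule F V, (∀ v ∈ U, E v = 0) → finrank F U < n + n := by
    intro U hU
    have h1 : finrank F (LinearMap.ker E) < finrank F (⊤ : Submodule F V) :=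
      Submodule.finrank_lt_finrank_of_lt (lt_top_iff_ne_top.2 fun h => hE (LinearMap.ker_eq_top.1 h))
    rw [finrank_top, hV] at h1
    exact lt_of_le_of_lt (Submodule.finrank_mono fun v hv => hU v hv) h1
  have h3 := Nat.le_of_dvd hf.natDegree_pos hkd
  rcases exists_partner hr.one_le hM hinv hf hfd with ⟨i, hi⟩ | ⟨g, hg, hgd, hco, hgt⟩
  · obtain ⟨he, -⟩ := half_of_dvd_succ Fintype.card_pos hr hr2 hk hη (selfRecip_dvd_succ hf hr hi hfN hf1')
    have h1 := natDegree_le_finrank hf (part_invariant (Commute.refl M) f) le_rfl (part_ne_bot hf hfd)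
    by_cases hz : ∀ v ∈ part M f, E v = 0
    · have := hlt _ hz
      omega
    · push Not at hz
      obtain ⟨v, hv, hv'⟩ := hz
      have h2 := two_mul_natDegree_le hcomm hf hEN hv hv'
      have h5 := Submodule.finrank_le (part M f)
      rw [hV] at h5
      omega
  · have hg1 : ¬ g ∣ X ^ 1 - 1 := fun h => hf1' (hgt 1 h)
    have hgN : g ∣ X ^ (r * 1) - 1 := by rw [mul_one]; exact dvd_X_pow_sub_one hM hgd
    have h4 := Nat.le_of_dvd hg.natDegree_pos (show k ∣ g.natDegree by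
      rw [hk, ← Nat.card_eq_fintype_card]; exact orderOf_dvd_natDegree hg hr hgN rfl hg1)
    have h1 := natDegree_le_finrank hf (part_invariant (Commute.refl M) f) le_rfl (part_ne_bot hf hfd)
    have h1' := natDegree_le_finrank hg (part_invariant (Commute.refl M) g) le_rfl (part_ne_bot hg hgd)
    have h2 := Submodule.finrank_le (part M f ⊔ part M g)
    rw [finrank_sup_part hco, hV] at h2
    have hηk : η ≤ k := by rcases hη with ⟨-, h⟩ | ⟨-, h⟩ <;> omega
    by_cases hz : ∀ v ∈ part M f ⊔ part M g, E v = 0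
    · have := hlt _ hz
      rw [finrank_sup_part hco] at this
      omega
    · push Not at hz
      obtain ⟨v, hv, hv'⟩ := hz
      obtain ⟨x, hx, y, hy, rfl⟩ := Submodule.mem_sup.1 hv
      by_cases hx' : E x = 0
      · have := two_mul_natDegree_le hcomm hg hEN hy (by rwa [map_add, hx', zero_add] at hv')
        omega
      · have := two_mul_natDegree_le hcomm hf hEN hx hx'
        omega

/-- Two commuting automorphisms of prime orders. -/
theorem eta_add_le_or {A : Module.End F V} {r s k l ηk ηl n : ℕ} (hr : r.Prime) (hs : s.Prime)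
    (hr2 : r ≠ 2) (hs2 : s ≠ 2) (hrF : (r : F) ≠ 0) (hsF : (s : F) ≠ 0) (hV : finrank F V = n + n)
    (hA : A ^ (r * s) = 1) (hAr : A ^ r ≠ 1) (hAs : A ^ s ≠ 1)
    (hinvA : aeval (A ^ (r * s - 1)) (minpoly F A) = 0)
    (hinvM : aeval ((A ^ s) ^ (r - 1)) (minpoly F (A ^ s)) = 0)
    (hinvN : aeval ((A ^ r) ^ (s - 1)) (minpoly F (A ^ r)) = 0)
    (hk : k = orderOf ((Fintype.card F : ℕ) : ZMod r)) (hl : l = orderOf ((Fintype.card F : ℕ) : ZMod s))
    (hηk : IsEta k ηk) (hηl : IsEta l ηl) (hkl : ηk ≤ ηl) (hn : n < ηk + ηl) :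
    ∃ t, Odd t ∧ l = k * t := by
  set M := A ^ s
  set N := A ^ r
  have hM : M ^ r = 1 := by rw [← pow_mul, mul_comm, hA]
  have hN : N ^ s = 1 := by rw [← pow_mul, hA]
  by_cases hMN : (M - 1) * (N - 1) = 0
  · exfalso
    have hfix : ∀ v ∈ LinearMap.range (N - 1), M v = v := by
      rintro _ ⟨y, rfl⟩
      exact sub_eq_zero.1 (LinearMap.congr_fun hMN y)
    have hdis : LinearMap.range (M - 1) ⊓ LinearMap.range (N - 1) = ⊥ :=
      (Submodule.eq_bot_iff _).2 fun v hv => eq_zero_of_fixed_of_mem_range hrF hM (hfix v hv.2) hv.1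
    have h1 := two_eta_le hr hr2 hrF hM hAs hinvM hk hηk
    have h2 := two_eta_le hs hs2 hsF hN hAr hinvN hl hηl
    have h3 := Submodule.finrank_sup_add_finrank_inf_eq (LinearMap.range (M - 1)) (LinearMap.range (N - 1))
    rw [hdis, finrank_bot, add_zero] at h3
    have h4 := Submodule.finrank_le (LinearMap.range (M - 1) ⊔ LinearMap.range (N - 1))
    rw [hV] at h4
    omega
  have hN0 : ((r * s : ℕ) : F) ≠ 0 := by rw [Nat.cast_mul]; exact mul_ne_zero hrF hsF
  obtain ⟨f, hf, hfd, hfP⟩ := exists_factor A hN0 hA ((X ^ s - 1) * (X ^ r - 1)) (by simpa using hMN)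
  have hfs : ¬ f ∣ X ^ s - 1 := fun h => hfP (h.mul_right _)
  have hfr : ¬ f ∣ X ^ r - 1 := fun h => hfP (h.mul_left _)
  have hfN := dvd_X_pow_sub_one hA hfd
  have hdeg : ∀ g : F[X], Irreducible g → g ∣ X ^ (r * s) - 1 → ¬ g ∣ X ^ s - 1 → ¬ g ∣ X ^ r - 1 →
      k ∣ g.natDegree ∧ l ∣ g.natDegree := by
    intro g hg hgN hgs hgr
    rw [hk, hl, ← Nat.card_eq_fintype_card]
    exact ⟨orderOf_dvd_natDegree hg hr hgN rfl hgs, orderOf_dvd_natDegree hg hs hgN (mul_comm r s) hgr⟩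
  obtain ⟨hkd, hld⟩ := hdeg f hf hfN hfs hfr
  have hηl0 : ηk ≤ ηl ∧ 0 < ηl := ⟨hkl, by omega⟩
  have hlt : ∀ {d}, l ∣ d → 0 < d → d < l + l → d = l := by
    rintro d ⟨c, rfl⟩ hd hd'
    rcases Nat.lt_or_ge c 2 with hc | hc
    · rcases Nat.eq_zero_or_pos c with rfl | hc0
      · simp at hd
      · rw [show c = 1 by omega, mul_one]
    · have := Nat.mul_le_mul_left l hc; omega
  rcases exists_partner (Nat.mul_pos hr.pos hs.pos) hA hinvA hf hfd with ⟨i, hi⟩ | ⟨g, hg, hgd, hco, hgt⟩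
  · obtain ⟨hek, a, ha, hia⟩ := half_of_dvd_succ Fintype.card_pos hr hr2 hk hηk
      (selfRecip_dvd_succ hf hr hi (by exact hfN) hfs)
    obtain ⟨hel, b, hb, hib⟩ := half_of_dvd_succ Fintype.card_pos hs hs2 hl hηl
      (selfRecip_dvd_succ hf hs hi (by rwa [mul_comm]) hfr)
    have h1 := natDegree_le_finrank hf (part_invariant (Commute.refl A) f) le_rfl (part_ne_bot hf hfd)
    have h2 := Submodule.finrank_le (part A f)
    rw [hV] at h2
    rw [hlt hld hf.natDegree_pos (by omega)] at hkd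
    obtain ⟨t, ht⟩ := hkd
    refine ⟨t, ?_, ht⟩
    have hk0 : 0 < ηk := by
      rcases Nat.eq_zero_or_pos ηk with h | h
      · have : l = 0 := by rw [ht, ← hek, h, mul_zero, zero_mul]
        omega
      · exact h
    have h5 : ηl = ηk * t := by
      have : 2 * ηl = 2 * (ηk * t) := by rw [hel, ht, ← hek, mul_assoc]
      omega
    rw [hib, h5, mul_assoc] at hia
    have h6 : t * b = a := Nat.eq_of_mul_eq_mul_left hk0 hia
    rw [← h6] at ha
    exact (Nat.odd_mul.1 ha).1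
  · have hgs : ¬ g ∣ X ^ s - 1 := fun h => hfs (hgt s h)
    have hgr : ¬ g ∣ X ^ r - 1 := fun h => hfr (hgt r h)
    obtain ⟨hkg, hlg⟩ := hdeg g hg (dvd_X_pow_sub_one hA hgd) hgs hgr
    have h1 := natDegree_le_finrank hf (part_invariant (Commute.refl A) f) le_rfl (part_ne_bot hf hfd)
    have h1' := natDegree_le_finrank hg (part_invariant (Commute.refl A) g) le_rfl (part_ne_bot hg hgd)
    have h2 := Submodule.finrank_le (part A f ⊔ part A g)
    rw [finrank_sup_part hco, hV] at h2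
    have h3 := Nat.le_of_dvd hf.natDegree_pos hld
    have h4 := Nat.le_of_dvd hg.natDegree_pos hlg
    rcases hηl with ⟨hol, hel⟩ | ⟨-, hel⟩
    · have hkl' : k ∣ l := by
        rcases le_total f.natDegree g.natDegree with h | h
        · rwa [hlt hld hf.natDegree_pos (by omega)] at hkd
        · rwa [hlt hlg hg.natDegree_pos (by omega)] at hkg
      obtain ⟨t, ht⟩ := hkl'
      rw [ht] at hol
      exact ⟨t, (Nat.odd_mul.1 hol).2, ht⟩
    · omega

section Matrices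

variable {n : ℕ}

theorem inverse_condition (p : ℕ) [Fact p.Prime] [CharP F p]
    {G : Matrix (Fin n ⊕ Fin n) (Fin n ⊕ Fin n) F} (hG : G ∈ Matrix.symplecticGroup (Fin n) F) {N : ℕ}
    (hN : 1 ≤ N) (hGN : G ^ N = 1) :
    aeval ((Matrix.toLinAlgEquiv' G) ^ (N - 1)) (minpoly F (Matrix.toLinAlgEquiv' G)) = 0 := by
  have h1 : G * sympAdj G = 1 := mul_eq_one_comm.1 (sympAdj_mul_self ⟨G, hG⟩)
  have h2 : G ^ (N - 1) = sympAdj G :=
    left_inv_eq_right_inv (by rw [← pow_succ, Nat.sub_add_cancel hN, hGN]) h1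
  rw [← map_pow, h2, minpoly.algEquiv_eq, aeval_algHom_apply]
  have h3 := (isTwist_sympAdj (F := F) (n := n) p).τ_aeval G (minpoly F G)
  rw [minpoly.aeval] at h3
  have h4 : iterateFrobenius F p 0 = RingHom.id F := RingHom.ext fun x => by simp [iterateFrobenius_def]
  rw [h4, Polynomial.map_id] at h3
  rw [← h3]
  simp [sympAdj]

/-- Lifting elements of odd order, or any element in characteristic two. -/
theorem exists_symp_lift (hn : 1 ≤ n) {N : ℕ} (hN : Odd N ∨ (-1 : F) = 1) (x : Cfsg.PSp n F)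
    (hx : orderOf x = N) :
    ∃ G : Matrix (Fin n ⊕ Fin n) (Fin n ⊕ Fin n) F,
      G ∈ Matrix.symplecticGroup (Fin n) F ∧ G ^ N = 1 ∧ ∀ j, G ^ j = 1 → N ∣ j := by
  obtain ⟨g, rfl⟩ := QuotientGroup.mk_surjective x
  set G := (g : Matrix (Fin n ⊕ Fin n) (Fin n ⊕ Fin n) F)
  have hord : ∀ j, G ^ j = 1 ∨ G ^ j = -1 → N ∣ j := fun j h =>
    hx ▸ orderOf_dvd_of_pow_eq_one ((pspMk_pow_eq_one_iff hn g j).2 h)
  rcases (pspMk_pow_eq_one_iff hn g N).1 (hx ▸ pow_orderOf_eq_one _) with h | h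
  · exact ⟨G, g.2, h, fun j hj => hord j (Or.inl hj)⟩
  rcases hN with hN | hN
  · refine ⟨-G, SymplecticGroup.neg_mem g.2, by rw [hN.neg_pow, h, neg_neg], fun j hj => hord j ?_⟩
    rcases Nat.even_or_odd j with hj2 | hj2
    · exact Or.inl (by rwa [hj2.neg_pow] at hj)
    · rw [hj2.neg_pow] at hj
      exact Or.inr (by rw [← hj, neg_neg])
  · refine ⟨G, g.2, ?_, fun j hj => hord j (Or.inl hj)⟩
    rw [h, ← neg_one_smul F (1 : Matrix (Fin n ⊕ Fin n) (Fin n ⊕ Fin n) F), hN, one_smul]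

theorem finrank_symp : finrank F (Fin n ⊕ Fin n → F) = n + n := by simp

theorem cast_ne_zero (p : ℕ) [Fact p.Prime] [CharP F p] {t : ℕ} (ht : t.Prime) (htp : t ≠ p) : (t : F) ≠ 0 :=
  fun h => htp (((Nat.prime_dvd_prime_iff_eq Fact.out ht).1 ((CharP.cast_eq_zero_iff F p t).1 h)).symm)

/-- The bound for the characteristic. -/
theorem eta_lt_of_mul_char_mem (p : ℕ) [Fact p.Prime] [CharP F p] (hn : 2 ≤ n) {r k η : ℕ} (hr : r.Prime)
    (hr2 : r ≠ 2) (hrp : r ≠ p) (hk : k = orderOf ((Fintype.card F : ℕ) : ZMod r)) (hη : IsEta k η)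
    (hx : r * p ∈ Set.range (orderOf : Cfsg.PSp n F → ℕ)) : η < n := by
  obtain ⟨x, hx⟩ := hx
  have hp : p.Prime := Fact.out
  have hN : Odd (r * p) ∨ (-1 : F) = 1 := by
    rcases hp.eq_two_or_odd' with rfl | h
    · exact Or.inr (CharTwo.neg_eq (1 : F))
    · exact Or.inl ((hr.odd_of_ne_two hr2).mul h)
  obtain ⟨G, hG, hGN, hGord⟩ := exists_symp_lift (by omega) hN x hx
  set φ := (Matrix.toLinAlgEquiv' : Matrix (Fin n ⊕ Fin n) (Fin n ⊕ Fin n) F ≃ₐ[F] _)
  haveI : Nonempty (Fin n ⊕ Fin n) := ⟨Sum.inl ⟨0, by omega⟩⟩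
  haveI : CharP (Module.End F (Fin n ⊕ Fin n → F)) p :=
    charP_of_injective_algebraMap (algebraMap F _).injective p
  have hrp' : G ^ p ≠ 1 := fun h => by
    have := Nat.le_of_dvd hp.pos (hGord p h)
    have h2 := Nat.mul_le_mul_right p hr.two_le
    have := hp.two_le
    omega
  have hrr : G ^ r ≠ 1 := fun h => by
    have := Nat.le_of_dvd hr.pos (hGord r h)
    have h2 := Nat.mul_le_mul_left r hp.two_le
    have := hr.two_le
    omega
  refine eta_lt (M := φ (G ^ p)) (E := φ (G ^ r) - 1) (N := p) hr hr2 (cast_ne_zero p hr hrp) hn finrank_symp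
    ?_ ?_ ?_ ?_ ?_ ?_ hk hη
  · rw [← map_pow, ← pow_mul, mul_comm, hGN, map_one]
  · rwa [ne_eq, map_eq_one_iff _ φ.injective]
  · exact inverse_condition p (pow_mem (S := Matrix.symplecticGroup (Fin n) F) hG p) hr.one_le
      (by rw [← pow_mul, mul_comm, hGN])
  · exact (((Commute.pow_pow_self G p r).map φ).sub_right (Commute.one_right _))
  · rw [sub_pow_char_of_commute p (Commute.one_right _), one_pow, ← map_pow, ← pow_mul, hGN, map_one, sub_self]
  · rwa [ne_eq, sub_eq_zero, map_eq_one_iff _ φ.injective]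

/-- The bound for two primes. -/
theorem eta_add_le_or_of_mem (p : ℕ) [Fact p.Prime] [CharP F p] (hn : 2 ≤ n) {r s k l ηk ηl : ℕ}
    (hr : r.Prime) (hs : s.Prime) (hr2 : r ≠ 2) (hs2 : s ≠ 2) (hrp : r ≠ p) (hsp : s ≠ p)
    (hk : k = orderOf ((Fintype.card F : ℕ) : ZMod r)) (hl : l = orderOf ((Fintype.card F : ℕ) : ZMod s))
    (hηk : IsEta k ηk) (hηl : IsEta l ηl) (hkl : ηk ≤ ηl)
    (hx : r * s ∈ Set.range (orderOf : Cfsg.PSp n F → ℕ)) (hlt : n < ηk + ηl) : ∃ t, Odd t ∧ l = k * t := by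
  obtain ⟨x, hx⟩ := hx
  obtain ⟨G, hG, hGN, hGord⟩ := exists_symp_lift (by omega)
    (Or.inl ((hr.odd_of_ne_two hr2).mul (hs.odd_of_ne_two hs2))) x hx
  set φ := (Matrix.toLinAlgEquiv' : Matrix (Fin n ⊕ Fin n) (Fin n ⊕ Fin n) F ≃ₐ[F] _)
  have hrr : G ^ r ≠ 1 := fun h => by
    have := Nat.le_of_dvd hr.pos (hGord r h)
    have h2 := Nat.mul_le_mul_left r hs.two_le
    have := hr.two_le
    omega
  have hss : G ^ s ≠ 1 := fun h => by
    have := Nat.le_of_dvd hs.pos (hGord s h)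
    have h2 := Nat.mul_le_mul_right s hr.two_le
    have := hs.two_le
    omega
  refine eta_add_le_or (A := φ G) hr hs hr2 hs2 (cast_ne_zero p hr hrp) (cast_ne_zero p hs hsp) finrank_symp
    ?_ ?_ ?_ (inverse_condition p hG (Nat.mul_pos hr.pos hs.pos) hGN) ?_ ?_ hk hl hηk hηl hkl hlt
  · rw [← map_pow, hGN, map_one]
  · rwa [ne_eq, ← map_pow, map_eq_one_iff _ φ.injective]
  · rwa [ne_eq, ← map_pow, map_eq_one_iff _ φ.injective]
  · rw [← map_pow φ G s]
    exact inverse_condition p (pow_mem (S := Matrix.symplecticGroup (Fin n) F) hG s) hr.one_le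
      (by rw [← pow_mul, mul_comm, hGN])
  · rw [← map_pow φ G r]
    exact inverse_condition p (pow_mem (S := Matrix.symplecticGroup (Fin n) F) hG r) hs.one_le
      (by rw [← pow_mul, hGN])

/-- A prime dividing the order of the group has small `η`. -/
theorem eta_le_of_dvd (p : ℕ) [Fact p.Prime] [CharP F p] (hn : 1 ≤ n) {s l ηl : ℕ} (hs : s.Prime)
    (hs2 : s ≠ 2) (hsp : s ≠ p) (hsG : s ∣ Nat.card (Cfsg.PSp n F))
    (hl : l = orderOf ((Fintype.card F : ℕ) : ZMod s)) (hηl : IsEta l ηl) : ηl ≤ n := by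
  classical
  haveI := Fact.mk hs
  haveI : Finite (Cfsg.PSp n F) := Finite.of_surjective _ QuotientGroup.mk_surjective
  obtain ⟨x, hx⟩ := exists_prime_orderOf_dvd_card' s hsG
  obtain ⟨G, hG, hGN, hGord⟩ := exists_symp_lift hn (Or.inl (hs.odd_of_ne_two hs2)) x hx
  have h1 : G ≠ 1 := fun h => hs.ne_one (Nat.dvd_one.1 (hGord 1 (by rw [pow_one, h])))
  have h2 := two_eta_le (A := Matrix.toLinAlgEquiv' G) hs hs2 (cast_ne_zero p hs hsp)
    (by rw [← map_pow, hGN, map_one]) (by rwa [ne_eq, map_eq_one_iff _ (AlgEquiv.injective _)])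
    (inverse_condition p hG hs.one_le hGN) hl hηl
  have h3 := Submodule.finrank_le (LinearMap.range (Matrix.toLinAlgEquiv' G - 1))
  rw [finrank_symp] at h3
  omega

end Matrices

end CfsgLib.PrimeGraph
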